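import Cfsg.Statements.S4418
import Cfsg.Agent.FT.Main
import Cfsg.Agent.H1.ZIn
import Cfsg.Agent.H1.Meta2
-- import your own Cfsg.Agent.* helpers here

set_option autoImplicit false
open Cfsg

namespace Cfsg.Agent.S4418

open FT Subgroup in
theorem of_pNil {G : Type*} [Group G] [Finite G] (h : PNil 2 (⊤ : Subgroup G)) :
    Group.IsSolvable G := by
  have n := (core_nrm {2}ᶜ (⊤ : Subgroup G)).norm
  have := isSolvable_of_bar n (odd_order_solvable (ZI.piG_two_compl.1 (core_piG _ _)))
    (isSolvable_of_isPGroup (p := 2) (PiG.isPGroup ((piG_bar_iff n).2 (by simpa using h.idx))))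
  exact Group.isSolvable_of_surjective (f := (⊤ : Subgroup G).subtype) fun x => ⟨⟨x, trivial⟩, rfl⟩

open FT Subgroup in
theorem abelian (n : ℕ) : ∀ {G : Type*} [Group G] [Finite G] (S : Subgroup G), Nat.card G = n →
    Syl 2 S ⊤ → IsMulCommutative S → prank 2 S ≤ 2 → (∃ y ∈ S, y ^ 2 ≠ 1) →
    Group.IsSolvable G := by
  induction n using Nat.strong_induction_on with
  | _ n ih =>
  intro G _ _ S hn hS c hr ⟨y, hy, y2⟩
  by_cases h : 𝐍(S) ≤ 𝐂(S)
  · exact of_pNil (Burnside_normal_complement hS (inf_le_right.trans h))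
  obtain ⟨h1, h2⟩ := M2.der_ne_top hS c hr ⟨y, hy, y2⟩ h
  have e := subgroupOfEquivOfLe h2
  have := ih _ (hn ▸ card_top (G := G) ▸ card_lt_of_lt h1.lt_top) (S.subgroupOf (commutator G)) rfl
    (Hall.syl ⟨le_top, by rw [PiG, Nat.card_congr e.toEquiv]; exact (Syl.hall hS).piG, by
      rw [relIndex_top_right]; exact ((Syl.hall hS).of_le h2 le_top).idx⟩) inferInstance
    ((prank_of_equiv e).trans_le hr) ⟨⟨y, h2 hy⟩, hy, fun e => y2 (congrArg Subtype.val e)⟩
  have : Group.IsSolvable (Abelianization G) := Group.isSolvable_of_comm mul_comm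
  exact Group.isSolvable_of_ker_le_range (commutator G).subtype Abelianization.of (by
    simp [Abelianization.ker_of])

/-- Let G be a finite group whose Sylow 2-subgroup S is metacyclic via a cyclic normal subgroup N of S with S/N cyclic of order greater than 2. Then G is soluble. -/
theorem result {G : Type*} [Group G] [Finite G] (S : Sylow 2 G) (N : Subgroup ↥(S : Subgroup G)) [hN : N.Normal] (hNc : IsCyclic N) (hQc : IsCyclic (↥(S : Subgroup G) ⧸ N)) (hQ : 2 < Nat.card (↥(S : Subgroup G) ⧸ N)) : Group.IsSolvable G := by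
  open FT Subgroup in
  have hS := H1.sylow_isSylowIn_top S
  have n := nrm_map_subtype N
  have e : (N.map (S : Subgroup G).subtype).subgroupOf S = N := comap_map_eq_self_of_injective
    (subtype_injective _) N
  have h : M2.MC (S : Subgroup G) (N.map (S : Subgroup G).subtype) :=
    ⟨S.isPGroup', n, isCyclic_map hNc _, by
      have := n.normal
      exact isCyclic_of_surjective _ ((QuotientGroup.quotientMulEquivOfEq e.symm).trans
        (barEquiv n.norm)).surjective, by rw [relIndex, e]; exact hQ⟩
  have sr := H2.SR_of_isMetacyclic two_pos (⟨N, hN, hNc, hQc⟩ : IsMetacyclic S)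
  by_cases c : IsMulCommutative (S : Subgroup G)
  · refine abelian _ S rfl hS c (prank_le_iff.2 fun A hA a => ?_) ?_
    · rw [← Nat.card_congr (subgroupOfEquivOfLe hA).toEquiv]
      have := a.1
      exact sr.card_le inferInstance fun x hx => Subtype.ext (a.2 x hx)
    · by_contra! h1
      have := card_le_of_abelem_of_isCyclic (abelem_bar ⟨c, h1⟩ _) h.quo
      rw [card_bar n.norm] at this
      exact h.big.not_ge this
  refine of_pNil (pNil_iff.2 (hS.frobenius_cr fun D hD g hg ho => by_contra fun h1 => c ?_))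
  refine h.eq_of_cr hD ?_ (zpowers_le.2 hg.2) (piG_compl_iff_coprime.2 (by rwa [Nat.card_zpowers]))
    (mt zpowers_le.1 h1)
  have := (sr.of_injective _ (inclusion_injective hD.le)).index_frattini_le
    (isPGroup_of_le hD.le h.two)
  rwa [relIndex, phi, subgroupOf, comap_map_eq_self_of_injective (subtype_injective _)]

end Cfsg.Agent.S4418
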