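import Cfsg.Statements.S0105
import Cfsg.Agent.H1.Transfer

set_option autoImplicit false
open Cfsg

namespace Cfsg.Agent.S0105

open Cfsg.Agent.H1
open scoped commutatorElement

/-- With an abelian Sylow p-subgroup P, some quotient of G is isomorphic to the part of P central in N_G(P). -/
theorem result {G : Type*} [Group G] [Finite G] {p : ℕ} [Fact p.Prime] (P : Sylow p G) (hP : IsMulCommutative P) : ∃ (N : Subgroup G) (hN : N.Normal), Nonempty (G ⧸ N ≃* ((P : Subgroup G) ⊓ Subgroup.centralizer (Subgroup.normalizer (P : Set G) : Set G) : Subgroup G)) := by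
  have h := sylow_isSylowIn_top P
  have h1 := h.inf_pResidualOf_of_comm hP
  rw [pResidualOf_top, top_inf_eq] at h1
  obtain ⟨h2, h3⟩ := abelian_hall_decomp (A := (P : Subgroup G)) Subgroup.le_normalizer le_rfl hP
    (sylow_isSylowIn P Subgroup.le_normalizer).coprime
  rw [← h1] at h2 h3
  refine ⟨pResidual p G, inferInstance, ⟨(MulEquiv.ofBijective
    ((QuotientGroup.mk' (pResidual p G)).comp (Subgroup.subtype _)) ⟨?_, ?_⟩).symm⟩⟩
  · rw [injective_iff_map_eq_one]
    intro x hx
    have h4 : (x : G) ∈ Subgroup.centralizer (Subgroup.normalizer ((P : Subgroup G) : Set G) : Set G) ⊓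
        ((P : Subgroup G) ⊓ pResidual p G) :=
      ⟨x.2.2, x.2.1, (QuotientGroup.eq_one_iff _).mp hx⟩
    rw [h2] at h4
    exact Subtype.ext h4
  · intro y
    obtain ⟨y, rfl⟩ := QuotientGroup.mk_surjective y
    have h4 : y ∈ ((P : Subgroup G) ⊓ Subgroup.centralizer
        (Subgroup.normalizer ((P : Subgroup G) : Set G) : Set G)) ⊔ pResidual p G := by
      have h5 : y ∈ pResidual p G ⊔ (P : Subgroup G) := pResidual_sup_sylow P ▸ Subgroup.mem_top y
      refine (sup_le le_sup_right (h3.ge.trans ?_) : _ ≤ _) h5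
      exact sup_le_sup_left inf_le_right _
    obtain ⟨a, ha, b, hb, rfl⟩ := mem_sup_normal_iff.mp h4
    refine ⟨⟨a, ha⟩, ?_⟩
    show (a : G ⧸ pResidual p G) = ((a * b : G) : G ⧸ pResidual p G)
    rw [QuotientGroup.mk_mul, (QuotientGroup.eq_one_iff b).mpr hb, mul_one]

end Cfsg.Agent.S0105
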