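import Cfsg.Statements.S2698
import Cfsg.Agent.H6.FieldPSL

set_option autoImplicit false
open Cfsg

namespace Cfsg.Agent.S2698

/-- Let T = PSL_n(F) be simple over the field F with p^f elements (n ≥ 2; p^f ≥ 4 when n = 2), G = Inndiag(T) the image of PGL_n(F) in Aut(T), and x a field automorphism of T of prime order r. Then r divides f; the centralizer C_G(x) is isomorphic to PGL_n(F₀) for the subfield size |F₀| = p^(f/r); and the G-class of x is the union of exactly gcd(n, (p^f − 1)/(p^(f/r) − 1)) classes under conjugation by T (the inner automorphism group). -/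
theorem result {F : Type*} [Field F] [Fintype F] {p f : ℕ} [Fact p.Prime] (hF : Fintype.card F = p ^ f) (hf : 1 ≤ f) {n : ℕ} (hn : 2 ≤ n) (hs : n = 2 → 4 ≤ Fintype.card F) (x : MulAut (Matrix.ProjectiveSpecialLinearGroup (Fin n) F)) (hx : Cfsg.IsFieldAutClassPSL x) {r : ℕ} (hr : r.Prime) (hxr : orderOf x = r) (F₀ : Type*) [Field F₀] [Fintype F₀] (hF₀ : Fintype.card F₀ = p ^ (f / r)) :
    r ∣ f ∧ Nonempty (↥(Cfsg.inndiagPSL n F ⊓ Subgroup.centralizer {x}) ≃* Matrix.ProjGenLinGroup (Fin n) F₀) ∧ Cfsg.splitClassCount (Cfsg.inndiagPSL n F) (Cfsg.Inn (Matrix.ProjectiveSpecialLinearGroup (Fin n) F)) x = Nat.gcd n ((p ^ f - 1) / (p ^ (f / r) - 1)) := by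
  have h2 : 2 ≤ Fintype.card (Fin n) := by simpa using hn
  have : Nonempty (Fin n) := ⟨⟨0, by omega⟩⟩
  have := H6.slD_range_normal (F := F) hn
  rw [H6.inndiagPSL_eq]
  obtain ⟨α, σ, hσ, hα⟩ := hx
  rw [H6.isStdFieldAutPSL_iff] at hα
  have ho : orderOf σ = r := by rw [← H6.orderOf_slΦ h2, ← hα, H6.orderOf_conj', hxr]
  obtain ⟨hrf, hc⟩ := H6.card_fixF (Fact.out : p.Prime) hF σ ho
  obtain ⟨e, he⟩ := H6.exists_emb_fixF σ F₀ (hF₀.trans hc.symm)
  refine ⟨hrf, ?_, ?_⟩
  · obtain ⟨e1⟩ := H6.centralizer_conj_equiv (H6.slD (Fin n) F).range α x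
    rw [hα] at e1
    obtain ⟨e2⟩ := H6.centralizer_equiv_of_lang _ _ (H6.slΦ_conj σ)
      (Matrix.GeneralLinearGroup.map e) (Subgroup.center _) (H6.glField_map he)
      (H6.sl_surj_field h2 he) (fun y => (H6.slD_eq_one_iff h2 _).trans (H6.map_mem_center_iff e y))
    exact ⟨e1.trans e2⟩
  · rw [← H6.splitClassCount_conj _ _ α, hα, H6.inn_psl_eq,
      H6.splitClassCount_of_lang _ _ (H6.slΦ_conj σ) (Matrix.GeneralLinearGroup.map e)
        (H6.glField_map he) (H6.sl_surj_field h2 he) _ Matrix.GeneralLinearGroup.det_surjective,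
      H6.slD_ker h2, H6.center_map_det, Fintype.card_fin]
    exact H6.index_pow_sup n (H6.card_units_eq_div_mul Fact.out hF hrf) _
      (fun u => by rw [H6.det_map_range he, hc])

end Cfsg.Agent.S2698
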