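import Cfsg.Statements.S0227
import Cfsg.Agent.FT.Main
import Cfsg.Agent.H1.ZIn
import Cfsg.Agent.H2.Hol
-- import your own Cfsg.Agent.* helpers here

set_option autoImplicit false
open Cfsg

namespace Cfsg.Agent.S0227

/-- Let G be a finite group with no nontrivial normal subgroup of odd order, S a Sylow 2-subgroup, and C the group of automorphisms of G that fix every element of S. Then every Sylow 2-subgroup of C is abelian and has a normal complement in C; in particular C is solvable. -/
theorem result {G : Type*} [Group G] [Finite G] (hO : ∀ N : Subgroup G, N.Normal → Odd (Nat.card N) → N = ⊥) (S : Sylow 2 G) (C : Subgroup (MulAut G)) (hC : ∀ φ : MulAut G, φ ∈ C ↔ ∀ s : G, s ∈ S → φ s = s) : (∀ T : Sylow 2 ↥C, (∀ a b : ↥T, a * b = b * a) ∧ ∃ N : Subgroup ↥C, N.Normal ∧ Subgroup.IsComplement' N (T : Subgroup ↥C)) ∧ Group.IsSolvable ↥C := by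
  open FT Subgroup SemidirectProduct in
  let φ := MonoidHom.id (MulAut G)
  have inj : Function.Injective (inl : G →* G ⋊[φ] MulAut G) := inl_injective
  have : ((⊤ : Subgroup G).map (inl : G →* G ⋊[φ] MulAut G)).Normal := by
    rw [← MonoidHom.range_eq_map, range_inl_eq_ker_rightHom]; infer_instance
  obtain ⟨K, -, h1, h2, h3⟩ := ZI.cent_sylow ((H1.sylow_isSylowIn_top S).map
    (inl : G →* G ⋊[φ] MulAut G)) (by
      rw [core_eq, ← L.GrpClass.map_radOf_inj _ _ _ inj, ← core_eq, map_eq_bot_iff_of_injective _ inj]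
      exact hO _ (nrm_top_iff.1 (core_nrm _ _)) (ZI.piG_two_compl.1 (core_piG _ _)))
  let f : C →* G ⋊[φ] MulAut G := inr.comp C.subtype
  have mem : ∀ {X : Subgroup G} {a : MulAut G}, (inr a : G ⋊[φ] MulAut G) ∈ 𝐂(X.map inl) ↔
      ∀ x ∈ X, a x = x := fun {X a} => by
    rw [← le_cent1_iff]
    exact ⟨fun h x hx => H2.inl_mem_centralizer_singleton_iff.1 (h (mem_map_of_mem _ hx)),
      fun h _ ⟨x, hx, e⟩ => e ▸ H2.inl_mem_centralizer_singleton_iff.2 (h x hx)⟩
  have hf : ∀ a, f a ∈ 𝐂((S : Subgroup G).map inl) := fun a => mem.2 ((hC a).1 a.2)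
  have d : ⁅(⊤ : Subgroup C), ⊤⁆ ≤ K.comap f := commutator_le.2 fun a _ b _ => by
    rw [mem_comap, map_commutatorElement]; exact h1 (commutator_mem_commutator (hf a) (hf b))
  have n := nrm_of_der_le d le_top
  have : (K.comap f).Normal := nrm_top_iff.1 n
  have o : PiG {2}ᶜ (K.comap f) := piG_compl_singleton.2 fun h => by
    obtain ⟨a, ha, e⟩ := exists_orderOf_eq_prime Nat.prime_two h
    have : a = 1 := Subtype.ext (MulEquiv.ext fun x => mem.1 (h3 _ ha (by
      show f a * f a = 1
      rw [← map_mul f, ← pow_two, ← e, pow_orderOf_eq_one, map_one])) x trivial)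
    simp [this] at e
  have hall : Hall {2}ᶜ (K.comap f) ⊤ := ⟨le_top, o, by
    rw [compl_compl, ← piG_bar_iff n.norm, piG_singleton_iff]
    obtain ⟨k, hk⟩ := IsPGroup.iff_card.1 S.isPGroup'
    rintro ⟨z, hz⟩
    obtain ⟨a, -, rfl⟩ := (mem_bar' n.norm).1 hz
    refine ⟨k, Subtype.ext ?_⟩
    rw [SubgroupClass.coe_pow, ← coset_pow (n.norm trivial), OneMemClass.coe_one]
    refine coset_eq_one ?_
    rw [mem_comap, map_pow, ← hk, ← card_map_of_injective inj]
    exact h2 _ (hf a)⟩
  refine ⟨fun T => ?_, ?_⟩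
  · have hT := Syl.hall (H1.sylow_isSylowIn_top T)
    have e := hT.piG.inf_eq_bot o
    refine ⟨fun a b => Subtype.ext (commutatorElement_eq_one_iff_mul_comm.1 (mem_bot.1 (e ▸
      ⟨der_le _ (commutator_mem_commutator a.2 b.2), d (commutator_mem_commutator trivial trivial)⟩))),
      _, this, isComplement'_of_coprime (by rw [mul_comm, hT.card_mul hall, card_top])
        (o.coprime' hT.piG)⟩
  · have := odd_order_solvable (ZI.piG_two_compl.1 o)
    have := isSolvable_of_bar n.norm this (isSolvable_of_comm' ((comm_bar_iff n.norm).2 d))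
    exact Group.isSolvable_of_surjective (f := (⊤ : Subgroup C).subtype) fun x => ⟨⟨x, trivial⟩, rfl⟩

end Cfsg.Agent.S0227
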