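import Cfsg.Statements.S1982
import Cfsg.Agent.H9.Chief

set_option autoImplicit false
universe u
open Cfsg

namespace Cfsg.Agent.S1982

open Cfsg.Agent.H9

open Subgroup
open scoped commutatorElement

theorem exists_family {G : Type u} [Group G] [Finite G] {S T A : Subgroup G} [T.Normal]
    (hTS : T ≤ S) (hAS : A ≤ S) (hA : A ∈ kLowerStarFamily S) (hTA : ⁅A, T⁆ ≤ zc A)
    (hK : ¬ (inducedFunctor kInfLower S).Normal ∨ ¬ (inducedFunctor kInfUpper S).Normal) :
    ∃ B ≤ S, ¬ B ≤ T ∧ (B ∈ kUpperStarFamily A ∨ B ∈ kLowerStarFamily A) := by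
  by_contra hcon
  have hB : ∀ B ≤ S, B ∈ kUpperStarFamily A ∨ B ∈ kLowerStarFamily A → B ≤ T := by
    intro B h1 h2
    by_contra h3
    exact hcon ⟨B, h1, h3, h2⟩
  have h1 : ∀ n, A ≤ kEven S n := fun n => by
    rw [kEven_eq]
    exact le_sSup ⟨hAS, kLower_anti (Subgroup.map_subtype_le _) hA⟩
  have h2 : ∀ n, kOdd S (n + 1) ≤ T := fun n => by
    rw [kOdd_succ]
    exact sSup_le fun B hB' => hB B hB'.1 (Or.inl (kUpper_anti (h1 n) hB'.2))
  have h3 : ∀ n, A ≤ kOdd S n → kEven S n ≤ T := fun n h => by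
    rw [kEven_eq]
    exact sSup_le fun B hB' => hB B hB'.1 (Or.inr (kLower_anti h hB'.2))
  have h4 : ∀ n, A ≤ kOdd S n := by
    intro n
    induction n with
    | zero => rwa [kOdd_zero]
    | succ n ih =>
      rw [kOdd_succ]
      exact le_sSup ⟨hAS, hA.1, (commutator_mono le_rfl (h3 n ih)).trans hTA⟩
  obtain ⟨e1, e2⟩ := ind_kInf_eq_of_le hTS fun n => ⟨h3 n (h4 n), h2 n⟩
  rw [← e1, ← e2] at hK
  have c1 : (kInfLower T).Characteristic :=
    characteristic_iff_map_eq.2 fun e => (map_kInf_equiv e).1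
  have c2 : (kInfUpper T).Characteristic :=
    characteristic_iff_map_eq.2 fun e => (map_kInf_equiv e).2
  exact hK.elim (fun h => h (L.normal_map_subtype_of_char _))
    (fun h => h (L.normal_map_subtype_of_char _))

theorem main {G : Type u} [Group G] [Finite G] {p : ℕ} [Fact p.Prime] {S A : Subgroup G}
    (hS : IsSylowIn p S ⊤) [A.Normal] (hAT : A ≤ pCore p G) (hA3 : ⁅pCore p G, A⁆ ≤ zc A)
    (Φ : Prop) (hΦ : Φ → ∀ x ∈ centralizer (A : Set G), (orderOf x).Coprime p → x = 1)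
    (hK : ¬ (inducedFunctor kInfLower S).Normal ∨ ¬ (inducedFunctor kInfUpper S).Normal) :
    ∃ g ∈ S, g ∉ pCore p G ∧ iterCommutator A (zpowers g) 3 ≤ zc A ∧
      ⁅⁅zc A, zpowers g⁆, zpowers g⁆ = ⊥ ∧ (Φ → ∃ U V : Subgroup G, IsChiefFactor U V ∧ U ≤ A ∧
        ⁅⁅U, zpowers g⁆, zpowers g⁆ ≤ V ∧ ¬ ⁅U, zpowers g⁆ ≤ V) := by
  set T := pCore p G with hT
  have hTp : IsPGroup p T := L.pCore_isPGroup p
  have hAp : IsPGroup p A := hTp.to_le hAT
  have hTS : T ≤ S := pCore_le_of_isSylowIn hS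
  have hTA : ⁅A, T⁆ ≤ zc A := by rwa [commutator_comm]
  have hA2 : A ∈ classTwoSubgroups G := (commutator_mono hAT le_rfl).trans (hA3.trans inf_le_right)
  have good : ∀ g ∈ S, g ∉ T → ⁅⁅A, zpowers g⁆, zpowers g⁆ ≤ zc A →
      ⁅⁅zc A, zpowers g⁆, zpowers g⁆ = ⊥ →
      ∃ g ∈ S, g ∉ pCore p G ∧ iterCommutator A (zpowers g) 3 ≤ zc A ∧
      ⁅⁅zc A, zpowers g⁆, zpowers g⁆ = ⊥ ∧ (Φ → ∃ U V : Subgroup G, IsChiefFactor U V ∧ U ≤ A ∧
        ⁅⁅U, zpowers g⁆, zpowers g⁆ ≤ V ∧ ¬ ⁅U, zpowers g⁆ ≤ V) := by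
    intro g hgS hgT h1 h2
    refine ⟨g, hgS, hgT, (commutator_mono h1 le_rfl).trans (commutator_le_left _ _), h2,
      fun hφ => ?_⟩
    by_contra hcon
    refine hgT (chiefStab_inf_le_pCore hAp (inf_le_left : zc A ≤ A) (hΦ hφ) ⟨?_, ?_⟩)
    · refine zpowers_le.1 (le_chiefStab_iff.2 fun U V hc _ hU => ?_)
      by_contra h
      exact hcon ⟨U, V, hc, hU.trans inf_le_left,
        (commutator_mono (commutator_mono hU le_rfl) le_rfl).trans (h2.le.trans bot_le), h⟩
    · refine zpowers_le.1 (le_chiefStab_iff.2 fun U V hc hV hU => ?_)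
      by_contra h
      exact hcon ⟨U, V, hc, hU,
        (commutator_mono (commutator_mono hU le_rfl) le_rfl).trans (h1.trans hV), h⟩
  have good' : ∀ g ∈ S, g ∉ T → ⁅⁅A, zpowers g⁆, zpowers g⁆ = ⊥ → _ := fun g h1 h2 h3 =>
    good g h1 h2 (h3.le.trans bot_le) (le_bot_iff.1 ((commutator_mono
      (commutator_mono inf_le_left le_rfl) le_rfl).trans h3.le))
  by_cases hA : A ∈ kLowerStarFamily S
  swap
  · have : ∃ A₁ ∈ classTwoSubgroups G, A₁ ≤ S ∧ A ≤ normalizer (A₁ : Set G) ∧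
        ⁅A, ⁅A₁, A₁⁆⁆ = ⊥ ∧ ⁅⁅zc A, A₁⁆, A₁⁆ = ⊥ ∧ ¬ ⁅A, A₁⁆ ≤ zc A := by
      by_contra h
      refine hA ⟨hA2, le_normalizer_of_normal, fun A₁ h1 h2 h3 h4 h5 => ?_⟩
      by_contra h6
      exact h ⟨A₁, h1, h2, h3, h4, h5, h6⟩
    obtain ⟨A₁, -, h2, h3, h4, h5, h6⟩ := this
    obtain ⟨g, hg, hgT⟩ := SetLike.not_le_iff_exists.1
      fun h : A₁ ≤ T => h6 ((commutator_mono le_rfl h).trans hTA)
    have hz := zpowers_le.2 hg
    refine good g (h2 hg) hgT (le_inf ?_ ?_)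
      (le_bot_iff.1 ((commutator_mono (commutator_mono le_rfl hz) hz).trans h5.le))
    · exact (commutator_mono (commutator_le_left _ _) le_rfl).trans (commutator_le_left _ _)
    · rw [commutator_comm, commutator_eq_bot_iff_le_centralizer] at h4
      exact (commutator_mono ((commutator_mono le_rfl hz).trans
        (le_normalizer_iff_commutator_le_right.1 h3)) hz).trans h4
  obtain ⟨B, hBS, hBT, hB | hB⟩ := exists_family hTS (hAT.trans hTS) hA hTA hK
  · obtain ⟨g, hg, hgT⟩ := SetLike.not_le_iff_exists.1 hBT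
    have hz := zpowers_le.2 hg
    refine good' g (hBS hg) hgT (le_bot_iff.1 ?_)
    have h1 := hB.2
    rw [commutator_comm] at h1
    refine (commutator_mono ((commutator_mono le_rfl hz).trans (h1.trans inf_le_right)) hz).trans ?_
    exact (commutator_eq_bot_iff_le_centralizer.2 le_rfl).le
  obtain ⟨hB2, hAB, hB⟩ := hB
  have hAB' : ⁅A, B⁆ ≤ B := le_normalizer_iff_commutator_le_right.1 hAB
  by_cases hZB : zc B ≤ T
  swap
  · obtain ⟨g, hg, hgT⟩ := SetLike.not_le_iff_exists.1 hZB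
    have hz := zpowers_le.2 hg
    refine good' g (hBS hg.1) hgT (le_bot_iff.1 ?_)
    refine (commutator_mono ((commutator_mono le_rfl (hz.trans inf_le_left)).trans hAB')
      (hz.trans inf_le_right)).trans ?_
    rw [commutator_comm]
    exact (commutator_eq_bot_iff_le_centralizer.2 le_rfl).le
  have hZA : ⁅zc A, A⁆ = ⊥ := commutator_eq_bot_iff_le_centralizer.2 inf_le_right
  have hfam : ∀ R ≤ A, B ≤ normalizer (R : Set G) → ⁅B, ⁅R, R⁆⁆ = ⊥ → ⁅⁅R, B⁆, B⁆ = ⊥ := by
    intro R hR h1 h2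
    have := hB R ((commutator_mono hR hR).trans (le_trans hA2 (centralizer_le hR))) hR h1 h2
      (le_bot_iff.1 ((commutator_mono ((commutator_mono hZB hR).trans hA3) hR).trans hZA.le))
    rw [commutator_comm] at this
    exact commutator_eq_bot_iff_le_centralizer.2 (this.trans inf_le_right)
  have h1 : ⁅⁅zc A, B⁆, B⁆ = ⊥ := hfam _ inf_le_left le_normalizer_of_normal (by
    rw [le_bot_iff.1 ((commutator_mono le_rfl inf_le_left).trans hZA.le), commutator_bot_right])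
  have h2 : ⁅⁅A, B⁆, B⁆ ≤ zc B :=
    (commutator_mono hAB' le_rfl).trans (le_inf (commutator_le_self B) hB2)
  have h3 : ⁅⁅⁅A, B⁆, B⁆, B⁆ = ⊥ := commutator_eq_bot_iff_le_centralizer.2 (h2.trans inf_le_right)
  have fin : ∀ g ∈ B, g ∉ T → (Φ → ∃ U V : Subgroup G, IsChiefFactor U V ∧ U ≤ A ∧
        ⁅⁅U, zpowers g⁆, zpowers g⁆ ≤ V ∧ ¬ ⁅U, zpowers g⁆ ≤ V) →
      ∃ g ∈ S, g ∉ pCore p G ∧ iterCommutator A (zpowers g) 3 ≤ zc A ∧
      ⁅⁅zc A, zpowers g⁆, zpowers g⁆ = ⊥ ∧ (Φ → ∃ U V : Subgroup G, IsChiefFactor U V ∧ U ≤ A ∧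
        ⁅⁅U, zpowers g⁆, zpowers g⁆ ≤ V ∧ ¬ ⁅U, zpowers g⁆ ≤ V) := by
    intro g hg hgT h
    have hz := zpowers_le.2 hg
    exact ⟨g, hBS hg, hgT, (iterCommutator_mono le_rfl hz 3).trans (h3.le.trans bot_le),
      le_bot_iff.1 ((commutator_mono (commutator_mono le_rfl hz) hz).trans h1.le), h⟩
  by_cases hφ : Φ
  swap
  · obtain ⟨g, hg, hgT⟩ := SetLike.not_le_iff_exists.1 hBT
    exact fin g hg hgT fun h => absurd h hφ
  suffices key : ∃ U V : Subgroup G, IsChiefFactor U V ∧ U ≤ A ∧ ⁅⁅U, B⁆, B⁆ ≤ V ∧ ¬ ⁅U, B⁆ ≤ V by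
    obtain ⟨U, V, hc, hU, h4, h5⟩ := key
    have := hc.2.2.1
    rw [← le_ck_iff'] at h5
    obtain ⟨g, hg, hgV⟩ := SetLike.not_le_iff_exists.1 h5
    have hz := zpowers_le.2 hg
    refine fin g hg (fun h => hgV (le_ck_iff'.2 (chief_commutator_le hc hTp (hU.trans hAT)) h))
      fun _ => ⟨U, V, hc, hU, (commutator_mono (commutator_mono le_rfl hz) hz).trans h4,
        fun h => hgV (mem_ck_iff'.2 h)⟩
  by_cases hB1 : B ≤ chiefStab ⊥ (zc A)
  swap
  · rw [le_chiefStab_iff] at hB1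
    push Not at hB1
    obtain ⟨U, V, hc, -, hU, h⟩ := hB1
    exact ⟨U, V, hc, hU.trans inf_le_left,
      (commutator_mono (commutator_mono hU le_rfl) le_rfl).trans (h1.le.trans bot_le), h⟩
  have hB2 : ¬ B ≤ chiefStab (zc A) A := fun h =>
    hBT ((le_inf hB1 h).trans (chiefStab_inf_le_pCore hAp inf_le_left (hΦ hφ)))
  rw [le_chiefStab_iff] at hB2
  push Not at hB2
  obtain ⟨U, V, hc, hV, hU, h⟩ := hB2
  refine ⟨U, V, hc, hU, ?_, h⟩
  have := hc.2.1
  have := hc.2.2.1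
  set H := centralizer (zc A : Set G) ⊔ B with hH
  have hsn : L.SN ⊤ H := sn_of_pow_mem (p := p) (C := centralizer (zc A : Set G))
    (K := chiefStab ⊥ (zc A)) le_sup_left (sup_le (le_chiefStab_iff.2 fun U V _ _ hU => by
      refine le_trans (commutator_mono hU le_rfl) ?_
      rw [commutator_comm, commutator_eq_bot_iff_le_centralizer.2 le_rfl]
      exact bot_le) hB1) fun x hx hxc => by
      have := commutator_le_of_mem_chiefStab (hAp.to_le inf_le_left) bot_le hxc hx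
      rw [le_bot_iff, commutator_comm, commutator_eq_bot_iff_le_centralizer] at this
      exact this (mem_zpowers x)
  set D := zc A ⊓ centralizer (B : Set G) with hD
  have hHD : H ≤ normalizer (D : Set G) := by
    refine le_trans (sup_le (centralizer_le (inf_le_left : D ≤ zc A)) ?_)
      (centralizer_le_normalizer _)
    rw [le_centralizer_iff]; exact inf_le_right
  set R := U ⊓ ck A D with hR
  have hHR : H ≤ normalizer (R : Set G) :=
    H2.le_normalizer_inf le_normalizer_of_normal (le_normalizer_ck le_normalizer_of_normal hHD)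
  have hR1 : ⁅⁅U, B⁆, B⁆ ≤ R := by
    have h4 : ⁅⁅U, B⁆, B⁆ ≤ U :=
      (commutator_mono (commutator_le_left _ _) le_rfl).trans (commutator_le_left _ _)
    refine le_inf h4 (le_ck_iff.2 ⟨?_, le_inf ?_ ?_⟩)
    · refine ((h4.trans hU).trans ?_).trans (centralizer_le_normalizer _)
      rw [le_centralizer_iff]; exact inf_le_left.trans inf_le_right
    · exact (commutator_mono le_rfl (h4.trans (hU.trans hAT))).trans hTA
    · refine (commutator_mono le_rfl ((commutator_mono (commutator_mono hU le_rfl) le_rfl).trans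
        h2)).trans (le_trans (le_normalizer_iff_commutator_le_right.1
          (hAB.trans (normalizer_le_normalizer_zc B))) inf_le_right)
  have hR2 : ⁅⁅R, B⁆, B⁆ = ⊥ := by
    refine hfam R (inf_le_left.trans hU) (le_sup_right.trans hHR) ?_
    rw [commutator_comm, commutator_eq_bot_iff_le_centralizer]
    exact (commutator_mono (inf_le_left.trans hU) le_rfl).trans
      ((le_ck_iff.1 inf_le_right).2.trans inf_le_right)
  refine le_of_forall_maxInv hc hsn fun M hVM hM => ?_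
  have hUM : U ≤ normalizer (M : Set G) := by
    rw [le_normalizer_iff_commutator_le_left]
    exact (commutator_mono hM.1.le (hU.trans hAT)).trans
      ((chief_commutator_le hc hTp (hU.trans hAT)).trans hVM)
  have hBM : B ≤ normalizer (M : Set G) := le_sup_right.trans hM.2.1
  rcases hM.2.2 (R ⊔ M) le_sup_right (sup_le inf_le_left hM.1.le)
    (H2.le_normalizer_sup hHR hM.2.1) with h4 | h4
  · exact hR1.trans (le_sup_left.trans h4.le)
  · have hN : U ≤ normalizer ((⁅R, B⁆ ⊔ M : Subgroup G) : Set G) := by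
      rw [le_normalizer_iff_commutator_le_left]
      refine (commutator_mono (sup_le ?_ hM.1.le) (hU.trans hAT)).trans
        ((chief_commutator_le hc hTp (hU.trans hAT)).trans (hVM.trans le_sup_right))
      exact (commutator_mono inf_le_left le_rfl).trans (commutator_le_left _ _)
    have h5 : ⁅U, B⁆ ≤ ⁅R, B⁆ ⊔ M := by
      conv_lhs => rw [← h4]
      exact H2.commutator_sup_left_le (inf_le_left.trans hN) (hM.1.le.trans hN) le_sup_left
        ((le_normalizer_iff_commutator_le_left.1 hBM).trans le_sup_right)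
    refine (commutator_mono h5 le_rfl).trans (H2.commutator_sup_left_le ?_ le_normalizer
      (hR2.le.trans bot_le) (le_normalizer_iff_commutator_le_left.1 hBM))
    exact ((commutator_mono inf_le_left le_rfl).trans (commutator_le_left _ _)).trans hUM

theorem eq_one_of_hA5 {G : Type*} [Group G] [Finite G] {p : ℕ} [Fact p.Prime] {A : Subgroup G}
    (hA5 : ∀ φ : MulAut ↥(Cfsg.pCore p G), (orderOf φ).Coprime p →
      (∀ a : ↥(Cfsg.pCore p G), (a : G) ∈ A → φ a = a) → φ = 1) (hc : Constrained p G) :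
    ∀ x ∈ centralizer (A : Set G), (orderOf x).Coprime p → x = 1 := by
  intro x hx hxc
  have h1 := hA5 (MulAut.conjNormal x)
    (Nat.Coprime.coprime_dvd_left (orderOf_map_dvd _ x) hxc) fun a ha => Subtype.ext (by
      show x * a * x⁻¹ = a
      rw [← hx a ha]; group)
  have h2 : x ∈ pCore p G := hc fun a ha => by
    have := congrArg (fun φ : MulAut (pCore p G) => (φ ⟨a, ha⟩ : G)) h1
    exact (mul_inv_eq_iff_eq_mul.1 this).symm
  obtain ⟨k, hk⟩ := H1.isPGroup_iff_mem.1 (L.pCore_isPGroup p) x h2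
  exact H1.eq_one_of_pow_of_coprime hk hxc


/-- Let p be a prime, G a finite group with Sylow p-subgroup S, T = O_p(G), and A a characteristic subgroup of T with A/Z(A) elementary abelian, [T, A] ≤ Z(A), C_T(A) = Z(A), and such that every automorphism of T of order prime to p fixing A elementwise is trivial (a critical subgroup of T). Suppose that the lower or the upper K-infinity subgroup of S is not normal in G. Then there is an element g of S outside T with [A, g, g, g] ≤ Z(A) and [Z(A), g, g] = 1, and such that if moreover C_G(T) ≤ T then some chief factor X/Y of G with X ≤ A satisfies [X, g, g] ≤ Y but [X, g] ≰ Y. -/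
theorem result {G : Type u} [Group G] [Finite G] {p : ℕ} [Fact p.Prime] (S : Sylow p G) (A : Subgroup G) (hAT : A ≤ (Cfsg.pCore p G)) (hAchar : (A.subgroupOf (Cfsg.pCore p G)).Characteristic) (hA1 : ∀ a ∈ A, a ^ p ∈ A ⊓ Subgroup.centralizer ((A : Subgroup G) : Set G)) (hA2 : ⁅A, A⁆ ≤ Subgroup.centralizer ((A : Subgroup G) : Set G)) (hA3 : ⁅(Cfsg.pCore p G), A⁆ ≤ A ⊓ Subgroup.centralizer ((A : Subgroup G) : Set G)) (hA4 : (Cfsg.pCore p G) ⊓ Subgroup.centralizer ((A : Subgroup G) : Set G) = A ⊓ Subgroup.centralizer ((A : Subgroup G) : Set G)) (hA5 : ∀ φ : MulAut ↥(Cfsg.pCore p G), (orderOf φ).Coprime p → (∀ a : ↥(Cfsg.pCore p G), (a : G) ∈ A → φ a = a) → φ = 1) (hK : ¬ (Cfsg.inducedFunctor Cfsg.kInfLower (S : Subgroup G)).Normal ∨ ¬ (Cfsg.inducedFunctor Cfsg.kInfUpper (S : Subgroup G)).Normal) : ∃ g : G, g ∈ (S : Subgroup G) ∧ g ∉ (Cfsg.pCore p G) ∧ Cfsg.iterCommutator A (Subgroup.zpowers g) 3 ≤ A ⊓ Subgroup.centralizer ((A : Subgroup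 G) : Set G) ∧ ⁅⁅A ⊓ Subgroup.centralizer ((A : Subgroup G) : Set G), (Subgroup.zpowers g)⁆, (Subgroup.zpowers g)⁆ = ⊥ ∧ (Subgroup.centralizer (((Cfsg.pCore p G) : Subgroup G) : Set G) ≤ (Cfsg.pCore p G) → ∃ U V : Subgroup G, Cfsg.IsChiefFactor U V ∧ U ≤ A ∧ ⁅⁅U, (Subgroup.zpowers g)⁆, (Subgroup.zpowers g)⁆ ≤ V ∧ ¬ ⁅U, (Subgroup.zpowers g)⁆ ≤ V) := by
  have : A.Normal := by
    rw [← Subgroup.map_subgroupOf_eq_of_le hAT]; infer_instance
  exact main (isSylowIn_top S) hAT hA3 _ (eq_one_of_hA5 hA5) hK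

end Cfsg.Agent.S1982
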