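import Cfsg.Statements.S0214
import Cfsg.Agent.H3.StronglyEmb

set_option autoImplicit false
open Cfsg

namespace Cfsg.Agent.S0214

/-- Let H be a proper subgroup of the finite group G and P a nontrivial Sylow 2-subgroup of H. Then H is strongly embedded in G if and only if N_G(X) ≤ H for every nontrivial subgroup X of P. -/
theorem result {G : Type*} [Group G] [Finite G] (H : Subgroup G) (hH : H ≠ ⊤) (P : Sylow 2 ↥H) (hP : (P : Subgroup ↥H) ≠ ⊥) : Cfsg.IsStronglyEmbedded H ↔ (∀ X : Subgroup ↥H, X ≤ (P : Subgroup ↥H) → X ≠ ⊥ → Subgroup.normalizer ((X.map H.subtype : Subgroup G) : Set G) ≤ H) := by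
  rw [H3.isStronglyEmbedded_iff]
  constructor
  · rintro ⟨-, -, h⟩ X hXP hX g hg
    obtain ⟨t, ht, h2⟩ := H3.exists_involution_of_ne_bot (P.isPGroup'.to_le hXP) hX
    have h1 := (Subgroup.mem_normalizer_iff.1 hg t).1 (Subgroup.mem_map_of_mem H.subtype ht)
    exact h g t t.2 (by rwa [Subgroup.orderOf_coe]) (Subgroup.map_subtype_le _ h1)
  · intro h
    obtain ⟨t0, -, ht0⟩ := H3.exists_involution_of_ne_bot P.isPGroup' hP
    refine ⟨hH, ⟨t0, t0.2, by rwa [Subgroup.orderOf_coe]⟩, fun g t ht ho hg => ?_⟩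
    -- normalizers of all nontrivial 2-subgroups of `H` lie in `H`
    have h' : ∀ X : Subgroup G, X ≤ H → IsPGroup 2 X → X ≠ ⊥ →
        Subgroup.normalizer (X : Set G) ≤ H := by
      intro X hXH hX hne y hy
      obtain ⟨c, hc⟩ := H3.exists_conj_le_sylow P (hX.comap_subtype (K := H))
      have h1 := h ((X.map (MulAut.conj (c : G)).toMonoidHom).subgroupOf H) ?_ ?_
      · rw [Subgroup.map_subgroupOf_eq_of_le] at h1
        · have : (c : G) * y * (c : G)⁻¹ ∈ H := by
            apply h1
            rw [Subgroup.mem_normalizer_iff] at hy ⊢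
            intro a
            rw [H3.mem_map_conj_iff, H3.mem_map_conj_iff, hy]
            simp [mul_assoc]
          have h2 := H.mul_mem (H.mul_mem (H.inv_mem c.2) this) c.2
          simpa [mul_assoc] using h2
        · rintro _ ⟨a, ha, rfl⟩
          exact H.mul_mem (H.mul_mem c.2 (hXH ha)) (H.inv_mem c.2)
      · rintro ⟨_, ha'⟩ ⟨a, ha, rfl⟩
        exact hc ⟨a, hXH ha⟩ ha
      · obtain ⟨z, hz, hz2⟩ := H3.exists_involution_of_ne_bot hX hne
        intro h0
        have : (⟨(c : G) * z * (c : G)⁻¹, H.mul_mem (H.mul_mem c.2 (hXH hz)) (H.inv_mem c.2)⟩ : H) ∈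
            (X.map (MulAut.conj (c : G)).toMonoidHom).subgroupOf H := ⟨z, hz, rfl⟩
        rw [h0, Subgroup.mem_bot] at this
        have h3 : (c : G) * z * (c : G)⁻¹ = 1 := congrArg Subtype.val this
        exact H3.ne_one_of_orderOf_two hz2 (by simpa using h3)
    set K : Subgroup G := H ⊓ H.comap (MulAut.conj g).toMonoidHom with hK
    have htK : t ∈ K := ⟨ht, hg⟩
    obtain ⟨S, hS⟩ := (H3.isPGroup_zpowers_of_orderOf_two (x := (⟨t, htK⟩ : K))
      (by rwa [← Subgroup.orderOf_coe])).exists_le_sylow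
    set Q : Subgroup G := (S : Subgroup K).map K.subtype with hQ
    have hQp : IsPGroup 2 Q := S.isPGroup'.map _
    have htQ : t ∈ Q := Subgroup.mem_map_of_mem K.subtype (hS (Subgroup.mem_zpowers _))
    have hQK : Q ≤ K := Subgroup.map_subtype_le _
    have hQne : Q ≠ ⊥ := fun h0 => H3.ne_one_of_orderOf_two ho (by rwa [h0] at htQ)
    have hgQ : Q.map (MulAut.conj g).toMonoidHom ≤ H := by
      rintro _ ⟨a, ha, rfl⟩
      exact (hQK ha).2
    have hN : Subgroup.normalizer (Q : Set G) ≤ K := by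
      intro y hy
      refine ⟨h' Q (hQK.trans inf_le_left) hQp hQne hy, ?_⟩
      apply h' _ hgQ (hQp.map _)
      · rwa [Ne, Subgroup.map_eq_bot_iff_of_injective _ (MulAut.conj g).injective]
      · rw [Subgroup.mem_normalizer_iff] at hy ⊢
        intro a
        rw [H3.mem_map_conj_iff, H3.mem_map_conj_iff, hy]
        simp [mul_assoc]
    obtain ⟨R, hR⟩ := hQp.exists_le_sylow
    have hQR : Q = R := by
      apply H3.eq_of_maximal_in_normalizer R.isPGroup' hR
      intro y hy hyN
      exact H3.mem_sylow_map_of_mem_normalizer S (hN hyN)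
        (H3.isPGroup_zpowers_of_mem R.isPGroup' hy) hyN
    have hRH : (R : Subgroup G) ≤ H := hQR ▸ hQK.trans inf_le_left
    have hgRH : ((g • R : Sylow 2 G) : Subgroup G) ≤ H := by
      rw [Sylow.coe_subgroup_smul, ← hQR]
      exact hgQ
    obtain ⟨c, hc⟩ := MulAction.exists_smul_eq H (R.subtype hRH) ((g • R).subtype hgRH)
    rw [Sylow.smul_subtype] at hc
    have hc' : (c : G) • R = g • R := Sylow.subtype_injective hc
    have : (c : G)⁻¹ * g ∈ Subgroup.normalizer (Q : Set G) := by
      rw [hQR]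
      apply Sylow.smul_eq_iff_mem_normalizer.1
      rw [mul_smul, ← hc', inv_smul_smul]
    simpa using H.mul_mem c.2 (hN this).1

end Cfsg.Agent.S0214
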