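import Cfsg.Statements.S0224
import Cfsg.Agent.H3.StronglyEmb

set_option autoImplicit false
open Cfsg

namespace Cfsg.Agent.S0224

/-- Let H be a proper subgroup of even order of the finite group G. Then H is strongly embedded if and only if each involution of H fixes exactly one point (namely the coset H) in the action of G on the cosets of H. -/
theorem result {G : Type*} [Group G] [Finite G] (H : Subgroup G) (hH : H ≠ ⊤) (heven : Even (Nat.card H)) : Cfsg.IsStronglyEmbedded H ↔ ∀ t ∈ H, orderOf t = 2 → Nat.card {c : G ⧸ H // t • c = c} = 1 := by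
  rw [H3.isStronglyEmbedded_iff]
  have key : ∀ t g : G, t • (g : G ⧸ H) = g ↔ g⁻¹ * t * g ∈ H := by
    intro t g
    rw [MulAction.Quotient.smul_coe, eq_comm, QuotientGroup.eq, smul_eq_mul, mul_assoc]
  constructor
  · rintro ⟨-, -, h⟩ t ht h2
    rw [Nat.card_eq_one_iff_unique]
    have h1 : ∀ c : G ⧸ H, t • c = c → c = ((1 : G) : G ⧸ H) := by
      intro c hc
      induction c using QuotientGroup.induction_on with
      | H g =>
        rw [key] at hc
        rw [QuotientGroup.eq]
        simpa using h g⁻¹ t ht h2 (by simpa using hc)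
    exact ⟨⟨fun a b => Subtype.ext ((h1 _ a.2).trans (h1 _ b.2).symm)⟩,
      ⟨⟨((1 : G) : G ⧸ H), (key t 1).2 (by simpa using ht)⟩⟩⟩
  · intro h
    refine ⟨hH, (H3.even_card_subgroup_iff H).1 heven, fun g t ht ho hg => ?_⟩
    have := (Nat.card_eq_one_iff_unique.1 (h t ht ho)).1
    have h1 := this.elim ⟨((1 : G) : G ⧸ H), (key t 1).2 (by simpa using ht)⟩
      ⟨((g⁻¹ : G) : G ⧸ H), (key t g⁻¹).2 (by simpa using hg)⟩
    have h2 : ((1 : G) : G ⧸ H) = (g⁻¹ : G) := congrArg Subtype.val h1
    simpa [QuotientGroup.eq] using h2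

end Cfsg.Agent.S0224
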