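import Cfsg.Statements.S0457
import Cfsg.Agent.H5.J1S
-- import your own Cfsg.Agent.* helpers here

set_option autoImplicit false
open Cfsg

namespace Cfsg.Agent.S0457

open Cfsg.Agent.H5 Cfsg.Agent.H5.J1 Cfsg.Agent.H5.Mdl in
theorem simple_aux {G : Type*} [Group G] [Finite G] {φ : G →* Matrix (Fin 7) (Fin 7) (ZMod 11)}
    {inj : Function.Injective φ} (h0 : ∀ s < 2, (c7md φ inj).In ⊤ (ag0 s))
    (ht : (c7md φ inj).gn ag0 2 = ⊤) : Cfsg.IsJ1 G := by
  have hc : Nat.card G = 175560 := by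
    rw [← Subgroup.card_top, ← ht]; exact (aex0 h0).2.2.1
  have hK := (aex0 h0).2.2.2
  refine ⟨simple_of_prim _ 7 (by rw [hK]; norm_num) (fun h => ?_) (amax h0 ht) (acore2 h0)
    fun N _ hN => ?_, hc⟩
  · rw [h, Subgroup.card_top, hc] at hK; norm_num at hK
  · rw [eq_top_iff, ← ht]
    exact gn_le (in_of_chkP hN ((ael0 h0).mono le_top) aP)

open Cfsg.Agent.H5 Cfsg.Agent.H5.J1 in
theorem ev0 : c7.ev (ZMod 11) 7 (ag0 0) = Cfsg.jankoMatrixX := by decide +kernel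

open Cfsg.Agent.H5 Cfsg.Agent.H5.J1 in
theorem ev1 : c7.ev (ZMod 11) 7 (ag0 1) = Cfsg.jankoMatrixY := by decide +kernel

open Cfsg.Agent.H5 Cfsg.Agent.H5.J1 Cfsg.Agent.H5.Mdl in

/-- The subgroup of GL(7, 11) generated by the two explicit Janko matrices is simple of order 175560. -/
theorem result : ∃ x y : GL (Fin 7) (ZMod 11), (x : Matrix (Fin 7) (Fin 7) (ZMod 11)) = Cfsg.jankoMatrixX ∧ (y : Matrix (Fin 7) (Fin 7) (ZMod 11)) = Cfsg.jankoMatrixY ∧ Cfsg.IsJ1 (Subgroup.closure ({x, y} : Set (GL (Fin 7) (ZMod 11)))) := by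
  let m := c7md (G := GL (Fin 7) (ZMod 11)) (Units.coeHom _) Units.val_injective
  have h0 : ∀ s < 2, m.In ⊤ (ag0 s) := in_of_chkI m (fun _ => rfl) aI
  have e0 := (h0 0 (by decide)).elt
  have e1 := (h0 1 (by decide)).elt
  refine ⟨m.elt (ag0 0), m.elt (ag0 1), e0.trans ev0, e1.trans ev1, ?_⟩
  have e : Subgroup.closure ({m.elt (ag0 0), m.elt (ag0 1)} : Set (GL (Fin 7) (ZMod 11))) =
      m.gn ag0 2 := by
    refine congrArg Subgroup.closure (Set.ext fun g => ⟨?_, ?_⟩)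
    · rintro (rfl | rfl)
      exacts [⟨0, by decide, e0⟩, ⟨1, by decide, e1⟩]
    · rintro ⟨s, hs, e⟩
      interval_cases s
      exacts [Or.inl (m.inj (e.trans e0.symm)), Or.inr (m.inj (e.trans e1.symm))]
  rw [e]
  let m' := c7md (G := m.gn ag0 2) ((Units.coeHom _).comp (Subgroup.subtype _))
    (Units.val_injective.comp Subtype.val_injective)
  exact simple_aux (fun s hs => (in_gn h0 s hs).sub m' (fun _ => rfl) rfl)
    (gn_sub_top m' (fun _ => rfl) rfl)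

end Cfsg.Agent.S0457
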