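import Cfsg.Statements.S0470
import Cfsg.Agent.Mo.Main
import Cfsg.Agent.Mo.LcC
import Cfsg.Agent.Mo.He

set_option autoImplicit false
open Cfsg

namespace Cfsg.Agent.S0470

theorem cen {G : Type} [Group G] {M : Subgroup G} (x : M) :
    Subgroup.centralizer ({x} : Set M) = (M ⊓ Subgroup.centralizer {(x : G)}).subgroupOf M :=
  Subgroup.ext fun g => by
    rw [Subgroup.mem_subgroupOf, Subgroup.mem_inf, and_iff_right g.2, Subgroup.mem_centralizer_singleton_iff,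
      Subgroup.mem_centralizer_singleton_iff, Subtype.ext_iff]
    rfl
theorem sub {G : Type} [Group G] {M K : Subgroup G} {x : G} (hx : x ∈ M) (h : K ≤ M ⊓ Subgroup.centralizer {x})
    {n : ℕ} (s : IsSimpleGroup K ∧ Nat.card K = n) :
    ∃ L : Subgroup M, L ≤ Subgroup.centralizer {⟨x, hx⟩} ∧ IsSimpleGroup L ∧ Nat.card L = n :=
  ⟨K.subgroupOf M, by rw [cen]; exact Subgroup.comap_mono h,
    Mo.simple_congr (Subgroup.subgroupOfEquivOfLe (h.trans inf_le_left)).symm s⟩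
theorem cc {G : Type} [Group G] {M : Subgroup G} {x : G} (hx : x ∈ M) :
    Nat.card (Subgroup.centralizer ({⟨x, hx⟩} : Set M)) = Nat.card (M ⊓ Subgroup.centralizer {x} : Subgroup G) := by
  rw [cen, Nat.card_congr (Subgroup.subgroupOfEquivOfLe inf_le_left).toEquiv]
theorem ct (a b : List ℕ) : Mo.CT a b ≤ Mo.GM Mo.tau ⊓
    Subgroup.centralizer {Mo.rho (Mo.wd a) * Mo.rho (Mo.wd b)} := fun g h =>
  have c := (Mo.isCT a b g).1 h
  ⟨c.1, Subgroup.mem_centralizer_singleton_iff.2 (Commute.mul_right c.2.1 c.2.2)⟩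
theorem mem (a b : List ℕ) : Mo.rho (Mo.wd a) * Mo.rho (Mo.wd b) ∈ Mo.GM Mo.tau :=
  Mo.HH_le_GM (mul_mem (Mo.rho_mem _) (Mo.rho_mem _))

/-- In some simple group of the Monster's order there are elements of orders 3, 5 and 7 whose centralisers contain simple subgroups of the Thompson, Harada–Norton and Held orders respectively; the centraliser of the element of order 3 has order 3 · 90745943887872000. -/
theorem result : ∃ (G : Type) (_ : Group G) (_ : Finite G), Cfsg.IsM G ∧ (∃ x : G, orderOf x = 3 ∧ Nat.card (Subgroup.centralizer ({x} : Set G)) = 272237831663616000 ∧ ∃ K : Subgroup G, K ≤ Subgroup.centralizer ({x} : Set G) ∧ Cfsg.IsTh K) ∧ (∃ x : G, orderOf x = 5 ∧ ∃ K : Subgroup G, K ≤ Subgroup.centralizer ({x} : Set G) ∧ Cfsg.IsHN K) ∧ (∃ x : G, orderOf x = 7 ∧ ∃ K : Subgroup G, K ≤ Subgroup.centralizer ({x} : Set G) ∧ Cfsg.IsHe K) := by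
  obtain ⟨x, hx, x7, K, k1, k2⟩ := Mo.he_in_M
  exact ⟨Mo.GM Mo.tau, inferInstance, Mo.hyp_main.finite, ⟨Mo.hyp_main.simple, Mo.hyp_main.card⟩,
    ⟨⟨_, mem Mo.t31 Mo.t32⟩, (Subgroup.orderOf_mk _ _).trans (Mo.order_t3 Mo.dat_ok),
      (cc _).trans (Mo.card_c3 Mo.dat_ok), sub (mem _ _) (ct Mo.t31 Mo.t32) (Mo.isTh_CT Mo.dat_ok)⟩,
    ⟨⟨_, mem Mo.t51 Mo.t52⟩, (Subgroup.orderOf_mk _ _).trans (Mo.order_t5 Mo.dat_ok),
      sub (mem _ _) (ct Mo.t51 Mo.t52) (Mo.isHN_CT Mo.dat_ok)⟩, ⟨x, hx⟩, (Subgroup.orderOf_mk _ _).trans x7,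
    sub hx k1 k2⟩

end Cfsg.Agent.S0470
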