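import Cfsg.Statements.S1601
import Cfsg.Agent.H4.M12

set_option autoImplicit false
open scoped Pointwise
open Cfsg

set_option maxRecDepth 100000

namespace Cfsg.Agent.S1601

open Cfsg.Agent.H4

/-- The standard point stabiliser. -/
abbrev H : Subgroup M24 := M11s ⊓ MulAction.stabilizer M24 (gE.pt 23)

theorem mem_iff (g : M24) : g ∈ H ↔ (g : Equiv.Perm GolayPt) ∈ cfg [23, 0] [d0] := by
  rw [Subgroup.mem_inf, mem_M11s, cfg_cons 23, Subgroup.mem_inf]; rfl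

/-- A chain for the diagonal group. -/
def L : List (CG.Level (ℕ × ℕ × ℕ)) :=
  [(1, [(0xbd94e5b0e2a94897cc68a4a2133600, (0x75a1, 0x1617))],
     [(0, 0), (0, 0), (1, 1), (2, 2), (3, 3), (1, 2), (3, 3), (1, 3), (3, 4), (2, 3)]),
   (2, [(0xbaa6f70a2d2d46c59c92b268682020, (0x37a, 0xa840))],
     [(0, 0), (0, 0), (2, 1), (1, 1), (2, 2), (1, 2), (0, 1), (0, 1), (1, 1)]),
   (4, [(0xbd9d52b1449d20859cd288ded48820, (0x9353, 0x3869)), (0xbae957b6289ba44b1cd0524ac18820, (0x2a59, 0x9162))],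
     [(0, 0), (1, 1), (0, 1), (1, 2), (0, 2)])]

/-- A chain for the special linear group. -/
def L' : List (CG.Level (ℕ × ℕ × ℕ)) :=
  [(16, [(0xbc4ee522c6a3d82a96039b56192480, (0x846, 0x6370))],
     [(0, 0), (0, 0), (1, 1), (0, 1), (1, 2), (0, 2), (1, 3), (0, 3), (1, 4), (0, 4), (0, 4), (1, 5), (0, 5), (1, 6), (0, 6), (1, 7), (0, 7), (1, 8), (0, 8), (1, 9), (0, 9), (1, 10), (0, 10), (1, 11), (0, 11), (1, 12), (0, 12), (0, 12), (1, 13), (0, 13), (1, 14), (0, 14), (1, 15), (0, 15), (1, 16), (0, 16), (1, 17), (0, 17), (1, 18), (0, 18), (1, 19), (0, 19), (1, 20), (1, 20), (0, 20), (1, 21), (1, 21), (0, 21), (1, 22), (1, 22), (0, 22), (0, 22), (1, 23), (0, 23), (0, 23), (1, 24), (0, 24), (0, 24), (1, 25), (0, 25), (1, 26), (0, 26), (1, 27), (0, 27), (0, 27), (1, 28), (1, 28), (0, 28), (0, 28), (1, 29), (1, 29), (0, 29), (0, 28), (1, 29), (0, 29), (1, 30), (0, 30), (1, 31), (0, 30), (1, 31), (0, 30),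 (1, 30), (0, 29), (1, 30), (0, 30), (0, 28), (0, 28), (1, 28), (0, 26), (0, 26), (0, 26), (0, 25), (1, 25), (1, 24), (1, 24), (0, 24), (1, 22), (0, 22), (1, 23), (1, 22), (0, 22), (1, 23), (0, 23), (1, 23), (1, 23), (1, 23), (0, 23), (1, 24), (1, 24), (1, 24), (0, 24), (0, 23), (1, 20), (1, 18), (0, 14), (0, 14), (1, 15), (0, 9), (0, 5)]),
   (1, [(0xb9df689aa15ce42a150c511c96c060, (0x1801, 0x1301))],
     [(0, 0), (0, 0), (0, 0), (0, 0), (0, 0), (0, 0), (0, 0), (0, 0), (0, 0), (0, 0)])]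

theorem std : Nonempty (H ≃* Matrix.ProjectiveSpecialLinearGroup (Fin 2) (ZMod 11)) := by
  have : Fact (Nat.Prime 11) := ⟨by norm_num⟩
  let K := primeFC (ZMod 11) 11 4 (by norm_num) (by norm_num)
  have h1 := card_SL_of 2 (ZMod 11) (N := 1320) (ZMod.card 11) (by decide)
  have h4 : Nat.card H = 660 := (card_eq_card_cfg mem_iff).trans card_d_in_out
  obtain ⟨φ, h5, -⟩ := CG.exists_surj_top (M' := K.pcg 2 _ (FC.slHom_injective 2 _) [1, 10])
    (kcg_uniq.sub H) (K.pcg_uniq _ _ _ _) (kcg_keyed.sub H)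
    (vt_of_sound (sound_of_le_cfg fun g => (mem_iff g).mpr)) (K.pcg_vt _ K.sl2_vt)
    (N := kcg) (N' := (primeOps 11).pcg 11 4 2 [1, 10]) rfl rfl (L := L) h4.le (by decide +kernel)
    (l := CG.gensOf L') (by decide +kernel)
    (K.pcg_gen_eq_top _ (CG.gensOf_sndL L' ▸ CG.gen_eq_top_of_check (K.cg_keyed 2 _ _) K.sl2_vt
      (K.cg_triv 2 _ _) h1.le (by decide +kernel)))
  exact ⟨MulEquiv.ofBijective φ (h5.bijective_of_nat_card_le
    (h4 ▸ le_card_PSL 2 _ h1 (by norm_num)))⟩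


/-- In the 3-transitive action of the smallest Mathieu group on the complementary dodecad, a point stabiliser is isomorphic to PSL(2, 11). -/
theorem result (d : Finset Cfsg.GolayPt) (hd : d ∈ Cfsg.dodecads) (p q : Cfsg.GolayPt) (hp : p ∈ d) (hq : q ∉ d) : Nonempty (↥(MulAction.stabilizer Cfsg.M24 d ⊓ MulAction.stabilizer Cfsg.M24 p ⊓ MulAction.stabilizer Cfsg.M24 q) ≃* Matrix.ProjectiveSpecialLinearGroup (Fin 2) (ZMod 11)) := by
  obtain ⟨g, hg, h0, h1, h2⟩ := flag_d_in_out hd hp hq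
  obtain ⟨e⟩ := std
  exact ⟨(equivOfConj _ (conj_inf (conj_inf (mem_stabilizer_conj (g := (⟨g, hg⟩ : M24)) (x := d) h0)
    (mem_stabilizer_conj (g := (⟨g, hg⟩ : M24)) (x := p) h1))
    (mem_stabilizer_conj (g := (⟨g, hg⟩ : M24)) (x := q) h2))).trans e⟩

end Cfsg.Agent.S1601
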