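import Cfsg.Statements.S1638
import Cfsg.Agent.H4.Max

set_option autoImplicit false
open scoped Pointwise
open Cfsg

set_option maxRecDepth 100000

namespace Cfsg.Agent.S1638

open Cfsg.Agent.H4

theorem orbits : ∀ s : Finset GolayPt, (s.card = 2 ∧ gE.pt 23 ∉ s ∧ gE.pt 0 ∉ s) → ∃ g ∈ cfg [0, 23] [6], ∃ r ∈ [0x6, 0xa, 0x18, 0x28], g • s = gE.ofMask r :=
  orbits_sub (gens := [0xb92b29d0b0439a952d8f31e3618440, 0xbae3029a88b2647991b51b9ec50820])
    (R := 0xa000000000000000000000000000000000000000004000000000000090000000000000000000000000000000000000000000000000000000000000000000000000000000000000000000040000000000000000000000000000000001c000000000000000000000000000000004000000000000000000002c000000000000000000000000000000e00012000000000000000000000000000000000000000000000000000000000000800000000000000000009000000000000000028e00000900005000000000003400000000000000000000000000000000000000000000000000e0000080000000000000000000000c00000000000000000000000000000000000000000000000000000000400000000000000001000180060000002000000000200000000000000000002c0000000000000000000000300000000002c000000000000000000000000000000000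000200000000000000000000000001800000000000000000000000000001000000000000000000000000000000000000000000000000000000000000000000000000000000000000000003000000000000000000040000000000000030000010a0000002800000000000000000000000000020000000000000000000000000018000000000000300000000000000000000000000000000000000000000000000000000000000000000001c0000006000000000000000000000000000000000000000000080014000000000000000000000000000000000000000000000000000000000000000000000000000000000000000000000000000000000000000038000000000000000000028000000000000000000000000000000000000000000000000000000000000000000000000000000000000000000000000000000030000000000000000000000000000000000000000000000000000000000000005000000000000010000000000001a0000000000000000000000000000000000000000000000024000000002c000000020006014000014000000000000000000000000000100000000000c00000000000000000000000000010000000028001000a0000200000000120000000000000000200000000000000000040000000000000000000000000000000000000000000030000000000000000000000000000000000000000000000006000000000000000000000000000000038000000000000000000000000000000000000000014003000000000000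000000000003000000000000000000000000000000300000000000000000000000000000000000040000000000000000000000000000000000000000000000000003000000000000000000000000000000000000000000000000000000000000000000000500003800002ca0000000000000000180000000000000000004000000800000000000000000000000000b000000000000000000000200000000000000000000000000000000018000000000000000000000000000018000000000000000000000000014000000000000000000000000000000000000000000000000000000000000000000000000000000000001800000000000000000000048000000000000a000000000038000000000000000000000000000000000000000000000000000000000000000000000000000000000000000000000000000000000800000000000000000000000000000000000000000000000000000000048000000000000000000000000000000000000000000000000000000000000000000000000a000000000000000000005000000000024000000000000000000000000000000000000500000021000000a0000000000000090000000000000000000500000000000014000000000005800000000000000000000000000000000000000000000000000000000000000000000000c000000000000000000005000000000000000000000000000000000000000000000028000000000000000000000000000000005000000000400004000000d20000000000000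000000000000000000000000800000000000000000700000000000000000000500003800000000000000000000000000000000000000000000000000000000000000000000000004800000000001000080000000000000000000000000000000000000000000000000080000000000000000000000000000000000000000000000000000000b0000000000000000000000180000000000000000000000000000000001200000000000000000000000000000000000b00000000000200000000000003000000000000000000000000000000000000000000000000000000010000000000000000000000000005000000000000000000000000000000000000000000120000000000000000000001000000000000000000000000000000000000000000000000700000000030000000000000000000000000380003800000000000000000000000000000000000000280000000000000000000000000000000000000000cc0380003000000000380000000000000000040000000000000000000002c000000000000000000000000000000000000000000000000000000008000000000000000000000000000000000000000a20000000000000000004000000000b00006018e000000028000000000000000a0000000000000000028002000900000028000000001c00000000000000000000000000a0000000000000000000000000000000180000000000000000000000280000000000000000000000000040000000000000000000000000001c000000000000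000000000000000000000000000000000000000000000280000000000000000000000000000000000000000000000000000b00000000000000000000000000000000000080000000002000001600000000000000000000000000000000000000000000000300000000000000000000000000000000000000000000000000000000030000000000000000000000000000000000000000000000000000000000000000000000000000000a00000000003000000000000000000000000000090000000000000000000900000000090000703160001400000000000000004800c00100000a000000000000200000000000000012000000000000000000000000000000000000001000000000000000000000000000000000000000000000000000000008000000000000000000000008000000000000000000000000002000000000000000000000000000080000000000000000000000000000000000000005000000000000000000060000000005000090192000000000000140000000001200000000000000000000000000000000000000000000000000000007000000000000000000000000000000000000000b2000000000000000000c00000000060000600cc0000005000000000000000000000000000000000d0000000000000000000700000000070000a01cc00000000000000000000a00000000090000601d0000000000080000a0210000009021800316038000)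
    2 (fun s => (s.card = 2 ∧ gE.pt 23 ∉ s ∧ gE.pt 0 ∉ s)) (fun m => band (bnot (tb m 23)) (bnot (tb m 0)))
    (fun g hg s hs => ⟨by rw [Finset.card_smul_finset, hs.1],
      mt (apply_mem_smul_iff_of_fix (hg.2.1 23 (by simp)) s).mp hs.2.1,
      mt (apply_mem_smul_iff_of_fix (hg.2.1 0 (by simp)) s).mp hs.2.2⟩) (fun s hs => hs.1)
    (fun m hm h => by
      simpa [pt_mem_ofMask_tb m (show 0 < 24 by norm_num),
        pt_mem_ofMask_tb m (show 23 < 24 by norm_num), -Enc.mem_ofMask] using h.2)
    (by decide +kernel)

theorem oct_iff (p q : GolayPt) (s : Finset GolayPt) :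
    (∃ o ∈ octads, p ∈ o ∧ q ∈ o ∧ s ⊆ o) ↔ ∃ o ∈ octads, {p, q} ∪ s ⊆ o := by
  simp only [Finset.union_subset_iff, Finset.insert_subset_iff, Finset.singleton_subset_iff,
    and_assoc]

theorem inOct_union {m : ℕ} (hm : m < 2 ^ 24) :
    (∃ o ∈ octads, gE.pt 23 ∈ o ∧ gE.pt 0 ∈ o ∧ gE.ofMask 6 ∪ gE.ofMask m ⊆ o) ↔
      inOct (Nat.lor 0x800007 m) = true := by
  rw [oct_iff, ← ofMask_s2, ← Finset.union_assoc, ← gE.ofMask_lor, ← gE.ofMask_lor]
  exact (inOct_iff (m := Nat.lor 0x800007 m) (Nat.or_lt_two_pow (by norm_num) hm)).symm

theorem count1 : {t : Finset GolayPt | (t.card = 2 ∧ gE.pt 23 ∉ t ∧ gE.pt 0 ∉ t) ∧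
    Disjoint (gE.ofMask 6) t ∧
    (∃ o ∈ octads, gE.pt 23 ∈ o ∧ gE.pt 0 ∈ o ∧ gE.ofMask 6 ∪ t ⊆ o)}.ncard = 30 := by
  rw [gE.ncard_sub 2 (fun m => band (band (bnot (tb m 23)) (bnot (tb m 0)))
    (band (Nat.beq (Nat.land 6 m) 0) (inOct (Nat.lor 0x800007 m))))
    (fun _ h => h.1.1) fun m hm h => by
      rw [Set.mem_ofPred_eq, inOct_union hm, gE.card_ofMask, gE.disjoint_ofMask_iff (by norm_num),
        pt_mem_ofMask_tb m (show 0 < 24 by norm_num), pt_mem_ofMask_tb m (show 23 < 24 by norm_num)]
      simp [h]]
  decide +kernel

theorem count2 : {t : Finset GolayPt | (t.card = 2 ∧ gE.pt 23 ∉ t ∧ gE.pt 0 ∉ t) ∧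
    Disjoint (gE.ofMask 6) t ∧
    ¬ (∃ o ∈ octads, gE.pt 23 ∈ o ∧ gE.pt 0 ∈ o ∧ gE.ofMask 6 ∪ t ⊆ o)}.ncard = 160 := by
  rw [gE.ncard_sub 2 (fun m => band (band (bnot (tb m 23)) (bnot (tb m 0)))
    (band (Nat.beq (Nat.land 6 m) 0) (bnot (inOct (Nat.lor 0x800007 m)))))
    (fun _ h => h.1.1) fun m hm h => by
      rw [Set.mem_ofPred_eq, inOct_union hm, gE.card_ofMask, gE.disjoint_ofMask_iff (by norm_num),
        pt_mem_ofMask_tb m (show 0 < 24 by norm_num), pt_mem_ofMask_tb m (show 23 < 24 by norm_num)]
      simp [h]]
  decide +kernel


/-- Fix two points p ≠ q and a pair s of two further points. Among the pairs avoiding p, q and disjoint from s, exactly 30 lie in an octad together with p, q and s and exactly 160 do not; and any two pairs other than s that meet s in equally many points and agree on that octad property are carried to one another by an element of the group of the length-24 code fixing p, q and s. -/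
theorem result (p q : Cfsg.GolayPt) (hpq : p ≠ q) (s : Finset Cfsg.GolayPt) (hs : (s.card = 2 ∧ p ∉ s ∧ q ∉ s)) : {t : Finset Cfsg.GolayPt | (t.card = 2 ∧ p ∉ t ∧ q ∉ t) ∧ Disjoint s t ∧ (∃ o ∈ Cfsg.octads, p ∈ o ∧ q ∈ o ∧ s ∪ t ⊆ o)}.ncard = 30 ∧ {t : Finset Cfsg.GolayPt | (t.card = 2 ∧ p ∉ t ∧ q ∉ t) ∧ Disjoint s t ∧ ¬ (∃ o ∈ Cfsg.octads, p ∈ o ∧ q ∈ o ∧ s ∪ t ⊆ o)}.ncard = 160 ∧ ∀ t t' : Finset Cfsg.GolayPt, (t.card = 2 ∧ p ∉ t ∧ q ∉ t) → (t'.card = 2 ∧ p ∉ t' ∧ q ∉ t') → t ≠ s → t' ≠ s → (s ∩ t).card = (s ∩ t').card → ((∃ o ∈ Cfsg.octads, p ∈ o ∧ q ∈ o ∧ s ∪ t ⊆ o) ↔ (∃ o ∈ Cfsg.octads, p ∈ o ∧ q ∈ o ∧ s ∪ t' ⊆ o)) → ∃ g : Equiv.Perm Cfsg.GolayPt, g ∈ Cfsg.M24 ∧ g p = p ∧ g q = q ∧ g • s = s ∧ g • t = t' := by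
  obtain ⟨a, b, hab, rfl⟩ := Finset.card_eq_two.mp hs.1
  obtain ⟨-, h1, h2⟩ := hs
  simp only [Finset.mem_insert, Finset.mem_singleton, not_or] at h1 h2
  obtain ⟨g, hg, gp, gq, ga, gb⟩ := trans4 hpq h1.1 h2.1 h1.2 h2.2 hab
  have gs : g • ({a, b} : Finset GolayPt) = gE.ofMask 6 := by
    rw [Finset.smul_finset_insert, Finset.smul_finset_singleton, Equiv.Perm.smul_def,
      Equiv.Perm.smul_def, ga, gb]
    decide +kernel
  generalize ({a, b} : Finset GolayPt) = s at gs
  have e : ∀ t, (∃ o ∈ octads, gE.pt 23 ∈ o ∧ gE.pt 0 ∈ o ∧ gE.ofMask 6 ∪ g • t ⊆ o) ↔
      ∃ o ∈ octads, p ∈ o ∧ q ∈ o ∧ s ∪ t ⊆ o := fun t => by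
    rw [oct_iff, oct_iff, ← exists_octad_smul_iff hg ({p, q} ∪ _), Finset.smul_finset_union,
      Finset.smul_finset_union, gs, Finset.smul_finset_insert, Finset.smul_finset_singleton,
      Equiv.Perm.smul_def, Equiv.Perm.smul_def, gp, gq]
  have e2 : ∀ t, Disjoint (gE.ofMask 6) (g • t) ↔ Disjoint s t :=
    fun t => by rw [← gs, disjoint_smul_iff]
  have e3 : ∀ t : Finset GolayPt, ((g • t).card = 2 ∧ gE.pt 23 ∉ g • t ∧ gE.pt 0 ∉ g • t) ↔
      (t.card = 2 ∧ p ∉ t ∧ q ∉ t) := fun t => by
    rw [← gp, ← gq, apply_mem_smul_iff, apply_mem_smul_iff, Finset.card_smul_finset]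
  refine ⟨?_, ?_, ?_⟩
  · rw [← count1]
    exact ncard_eq_of_smul g _ _ fun U => by simp only [Set.mem_ofPred_eq, e, e2, e3]
  · rw [← count2]
    exact ncard_eq_of_smul g _ _ fun U => by simp only [Set.mem_ofPred_eq, e, e2, e3]
  intro t t' ht ht' _ _ h3 h4
  obtain ⟨k, hk, h5⟩ := same_orbit_of_inv orbits
    (fun t => ((gE.ofMask 6 ∩ t).card,
      ∃ o ∈ octads, gE.pt 23 ∈ o ∧ gE.pt 0 ∈ o ∧ gE.ofMask 6 ∪ t ⊆ o))
    (fun k hk t => by
      rw [card_inter_smul_of_fix (hk.2.2 6 (by simp)), oct_iff, oct_iff,
        ← exists_octad_smul_iff hk.1 ({gE.pt 23, gE.pt 0} ∪ (_ ∪ t)), Finset.smul_finset_union,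
        Finset.smul_finset_union, hk.2.2 6 (by simp), Finset.smul_finset_insert,
        Finset.smul_finset_singleton, Equiv.Perm.smul_def, Equiv.Perm.smul_def,
        hk.2.1 23 (by simp), hk.2.1 0 (by simp)])
    (by
      intro r hr r' hr' h
      have h6 : allL [0x6, 0xa, 0x18, 0x28] (fun r => band (Nat.blt r 16777216) (allL [0x6, 0xa, 0x18, 0x28] fun r' =>
        bimp (Nat.beq (pc24 (Nat.land 6 r)) (pc24 (Nat.land 6 r')))
          (bimp (inOct (Nat.lor 0x800007 r) == inOct (Nat.lor 0x800007 r')) (Nat.beq r r')))) =
          true := by decide +kernel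
      have h7 := allL_iff.mp h6 r hr
      have h8 := allL_iff.mp h6 r' hr'
      rw [band_eq, Bool.and_eq_true, Nat.blt_eq] at h7 h8
      rw [Prod.mk.injEq, card_inter_ofMask _ h7.1, card_inter_ofMask _ h8.1, inOct_union h7.1,
        inOct_union h8.1] at h
      exact Nat.eq_of_beq_eq_true ((bimp_iff _ _).mp ((bimp_iff _ _).mp (allL_iff.mp h7.2 r' hr')
        (Nat.beq_eq.mpr h.1)) (beq_iff_eq.mpr (Bool.eq_iff_iff.mpr (iff_of_eq h.2)))))
    (g • t) (g • t') ((e3 t).mpr ht) ((e3 t').mpr ht')
    (by rw [e, e, h4, ← gs, card_inter_smul, card_inter_smul, h3])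
  exact ⟨_, conj_mem_M24 hg hk.1, conj_apply_eq (by rw [gp, hk.2.1 23 (by simp)]),
    conj_apply_eq (by rw [gq, hk.2.1 0 (by simp)]),
    conj_smul_eq (by rw [gs, hk.2.2 _ (by simp)]), conj_smul_eq h5⟩

end Cfsg.Agent.S1638
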