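import Cfsg.Statements.S1643
import Cfsg.Agent.H9.MIdx2

set_option autoImplicit false
open scoped Pointwise
open Cfsg

namespace Cfsg.Agent.S1643

open Cfsg.Agent.H4 Cfsg.Agent.H9.MI MulAction

set_option maxRecDepth 100000

/-- The code of `t ↦ -1 / t`. -/
def gi : ℕ := 0x5883388a1c8f5140b46cd317aed7

/-- A chain for the Frobenius group. -/
def LB : List (CG.Level ℕ) :=
  [(0, [0xb82d5a4e5183dcd62d4941cc520c41],
     [(0, 0), (0, 0), (0, 0), (1, 1), (1, 1), (0, 1), (1, 2), (0, 2), (1, 3), (1, 3), (0, 3), (1, 4), (1, 4), (0, 4), (0, 4), (1, 5), (1, 5), (0, 5), (0, 5), (1, 4), (0, 4), (0, 4)]),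
   (1, [0xbd6717b56939461b52507314831040],
     [(0, 0), (0, 0), (0, 0), (0, 0), (0, 0), (0, 0), (0, 0), (0, 0), (0, 0), (0, 0)])]

/-- A chain for the projective group. -/
def LL : List (CG.Level ℕ) :=
  (23, [gi], [(0, 0), (1, 0), (0, 0), (1, 1), (2, 1), (0, 1), (1, 2), (2, 3), (0, 3), (2, 4), (0, 3), (2, 4), (0, 4), (1, 5), (2, 6), (1, 6), (1, 6), (1, 6), (2, 7), (1, 6), (0, 6), (2, 7), (1, 6)]) :: LB

/-- Multiplication by a unit. -/
def mu (u : (ZMod 23)ˣ) : Equiv.Perm GolayPt := Equiv.optionCongr (Units.mulLeft u)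

theorem mu_mul (u v : (ZMod 23)ˣ) : mu (u * v) = mu u * mu v := by
  ext1 x
  cases x <;> simp [mu, mul_assoc]

theorem mu_pow (u : (ZMod 23)ˣ) (k : ℕ) : mu (u ^ k) = mu u ^ k := by
  induction k with
  | zero => ext1 x; cases x <;> simp [mu]
  | succ k ih => rw [pow_succ, pow_succ, mu_mul, ih]

/-- The unit two. -/
def two : (ZMod 23)ˣ := ⟨2, 12, by decide, by decide⟩

theorem sq_eq (u : (ZMod 23)ˣ) (h : IsSquare u) : ∃ k : ℕ, u = two ^ k := by
  obtain ⟨r, rfl⟩ := h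
  have : ∀ r : ZMod 23, r ≠ 0 → ∃ k : Fin 11, r * r = 2 ^ (k : ℕ) := by decide +kernel
  haveI hp : Fact (Nat.Prime 23) := ⟨by norm_num⟩
  obtain ⟨k, hk⟩ := this r r.ne_zero
  exact ⟨k, Units.ext hk⟩

theorem rep_a : gE.Rep (Equiv.optionCongr (Equiv.addRight (1 : ZMod 23))) ga := by
  unfold Enc.Rep; decide +kernel

theorem rep_y : gE.Rep (mu two) gy := by unfold Enc.Rep; decide +kernel

theorem rep_i : gE.Rep projInv gi := by unfold Enc.Rep; decide +kernel

theorem closure_eq {S : Set (Equiv.Perm GolayPt)} {l : List ℕ} (hv : kcg.Valid l) (hy : gy ∈ l)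
    (h1 : ∀ s ∈ S, ∃ c ∈ l, gE.Rep s c) (h2 : ∀ c ∈ l, c = gy ∨ ∃ s ∈ S, gE.Rep s c) :
    Subgroup.closure (S ∪ {g : Equiv.Perm GolayPt | ∃ u : (ZMod 23)ˣ, IsSquare u ∧
      g = Equiv.optionCongr (Units.mulLeft u)}) = (kcg.gen l).map M24.subtype := by
  have key : ∀ s c, c ∈ l → gE.Rep s c → s ∈ (kcg.gen l).map M24.subtype := fun s c hc hs => by
    obtain ⟨g, hg⟩ := hv c hc
    exact ⟨g, Subgroup.subset_closure ⟨c, hc, hg⟩, Enc.Rep.unique hg hs⟩
  refine le_antisymm ((Subgroup.closure_le _).mpr ?_) ?_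
  · rintro s (hs | ⟨u, hu, rfl⟩)
    · obtain ⟨c, hc, h3⟩ := h1 s hs
      exact key s c hc h3
    · obtain ⟨k, rfl⟩ := sq_eq u hu
      show mu (two ^ k) ∈ _
      rw [mu_pow]
      exact Subgroup.pow_mem _ (key _ _ hy rep_y) k
  · rw [Subgroup.map_le_iff_le_comap, CG.gen, Subgroup.closure_le]
    rintro g ⟨c, hc, hg⟩
    refine Subgroup.subset_closure ?_
    rcases h2 c hc with rfl | ⟨s, hs, h3⟩
    · exact Or.inr ⟨two, ⟨⟨5, 14, by decide, by decide⟩, Units.ext (by decide)⟩,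
        Enc.Rep.unique hg rep_y⟩
    · exact Or.inl ((Enc.Rep.unique hg h3).symm ▸ hs)

theorem specB : kcg.Valid [ga, gy] ∧ Nat.card (kcg.gen [ga, gy]) = 253 :=
  have := CG.ordCheck_spec kcg_keyed kcg_uniq mcg_vt (N := kcg) rfl (L := LB) (n := 253)
    (by decide +kernel)
  ⟨this.1, this.2.2.2⟩

theorem specL : kcg.Valid [gi, ga, gy] ∧ Nat.card (kcg.gen [gi, ga, gy]) = 6072 :=
  have := CG.ordCheck_spec kcg_keyed kcg_uniq mcg_vt (N := kcg) rfl (L := LL) (n := 6072)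
    (by decide +kernel)
  ⟨this.1, this.2.2.2⟩

theorem le_M23 : kcg.gen [ga, gy] ≤ cf [23] [] :=
  CG.gen_le_of_in kcg_uniq (in_cf (by decide +kernel))

theorem maxB {K : Subgroup M24} (h1 : kcg.gen [ga, gy] ≤ K) (h2 : K ≤ cf [23] []) :
    Nat.card K = 253 ∨ Nat.card K = 10200960 := by
  obtain ⟨a, ha1, ha⟩ := specB.1.in_gen kcg ga (by simp)
  obtain ⟨y, hy1, hy⟩ := specB.1.in_gen kcg gy (by simp)
  have h3 : orderOf a = 23 := kcg_complete.ord_eq (fuel := 23) rfl ha (by norm_num)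
    (by decide +kernel)
  have h4 : orderOf y = 11 := kcg_complete.ord_eq (fuel := 23) rfl hy (by norm_num)
    (by decide +kernel)
  have h5 := Subgroup.card_dvd_of_le h2
  obtain ⟨n, hn⟩ := Subgroup.card_dvd_of_le h1
  rw [card_M23'] at h5
  rw [specB.2] at hn
  have h6 := List.mem_singleton.mp (nz_mem (le_M23 hy1) (by norm_num) h4 card_M23'
    ((nz_dvd le_top y).trans (nz11 h4).dvd) [55] (by decide +kernel))
  have h7 := List.mem_singleton.mp (nz_mem ha1 (by norm_num) h3 specB.2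
    ((nz_dvd le_top a).trans (nz23 h3).dvd) [253] (by decide +kernel))
  have h8 : Nat.card (nz K a) = 253 :=
    Nat.dvd_antisymm ((nz_dvd le_top a).trans (nz23 h3).dvd) (h7.symm.dvd.trans (nz_dvd h1 a))
  obtain ⟨-, -, h9⟩ := nz_count (h1 ha1) (by norm_num) h3 fun h => absurd (h.trans h5) (by norm_num)
  obtain ⟨h10, h11, h12⟩ := nz_count (h1 hy1) (by norm_num) h4 fun h =>
    absurd (h.trans h5) (by norm_num)
  have h13 := (nz_dvd h2 y).trans h6.dvd
  rw [h8, hn, Nat.mul_div_cancel_left _ (by norm_num)] at h9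
  rw [hn] at h5 h11 h12 ⊢
  generalize Nat.card (nz K y) = c at h10 h11 h12 h13
  have h14 : n ∣ 40320 := Nat.dvd_of_mul_dvd_mul_left (by norm_num : 0 < 253) h5
  have h15 : c = 11 ∨ c = 55 := by
    have := Nat.le_of_dvd (by norm_num) h13
    obtain ⟨d, rfl⟩ := h10
    have : d ≤ 5 := by omega
    interval_cases d <;> omega
  have h16 : allLt 1754 (fun k => bimp (band (Nat.beq (40320 % (23 * k + 1)) 0)
      (bor (Nat.beq (253 * (23 * k + 1) / 11 % 11) 1) (band (Nat.beq (253 * (23 * k + 1) % 55) 0)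
        (Nat.beq (253 * (23 * k + 1) / 55 % 11) 1)))) (memL [0, 1753] k)) = true := by
    decide +kernel
  have h17 := Nat.le_of_dvd (by norm_num) h14
  have h18 := allLt_iff.mp h16 (n / 23) (by omega)
  rw [show 23 * (n / 23) + 1 = n by omega] at h18
  simp only [bimp_iff, band_eq, bor_eq, Bool.and_eq_true, Bool.or_eq_true, Nat.beq_eq, memL_iff,
    List.mem_cons, List.not_mem_nil, or_false] at h18
  have h19 := h18 ⟨Nat.mod_eq_zero_of_dvd h14, by
    rcases h15 with rfl | rfl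
    exacts [Or.inl h12, Or.inr ⟨Nat.mod_eq_zero_of_dvd h11, h12⟩]⟩
  omega

theorem coatomB : IsCoatom ((kcg.gen [ga, gy]).subgroupOf (cf [23] [])) := by
  refine ⟨fun h => ?_, fun K hK => ?_⟩
  · have := Subgroup.card_le_of_le (Subgroup.subgroupOf_eq_top.mp h)
    rw [card_M23', specB.2] at this
    omega
  · have h1 : kcg.gen [ga, gy] ≤ K.map (Subgroup.subtype _) := fun g hg =>
      ⟨⟨g, le_M23 hg⟩, hK.le hg, rfl⟩
    rcases maxB h1 (Subgroup.map_subtype_le K) with h | h <;> rw [Subgroup.card_subtype] at h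
    · exact absurd (Subgroup.eq_of_le_of_card_ge hK.le (by
        rw [h, Nat.card_congr (Subgroup.subgroupOfEquivOfLe le_M23).toEquiv, specB.2])) hK.ne
    · exact Subgroup.eq_top_of_card_eq _ (h.trans card_M23'.symm)

theorem coatomL : IsCoatom (kcg.gen [gi, ga, gy]) := by
  refine ⟨fun h => ?_, fun K hK => ?_⟩
  · have := specL.2
    rw [h, card_top] at this
    omega
  have h0 := In.mono (specL.1.in_gen kcg) hK.le
  have h1 := card_eq_of_orbit_eq K (gE.pt 23) (gE.ofMask 0xffffff) (fun g _ => by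
      rw [show (0xffffff : ℕ) = 2 ^ 24 - 1 from rfl, gE.ofMask_full]; simp)
    fun y hy => Enc.orbM_sound (E := gE) (K := K) h0 12 (b := 23) y (by
      rw [show orbM 24 5 [gi, ga, gy] 12 23 = 0xffffff by decide +kernel]
      exact (gE.mem_ofMask _ y).mp hy)
  rw [Set.ncard_coe_finset, gE.card_ofMask, show pc 24 0xffffff = 24 by decide +kernel] at h1
  rcases maxB (le_inf ((kcg.gen_mono (List.subset_cons_self _ _)).trans hK.le)
    (cf_pt 23 ▸ le_M23)) (inf_stab_le K) with h | h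
  · exact absurd (eq_of_le_card hK.le specL.2 (by omega)) hK.ne
  · exact eq_top_of_card (by omega)

/-- PSL(2, 23) = ⟨t ↦ t+1, t ↦ u t (u square), t ↦ −1/t⟩ is maximal of order 6072 in the group of the length-24 code, and its point stabiliser 23:11 (order 253) is maximal in the Mathieu group of degree 23. -/
theorem result : (Subgroup.closure ({Equiv.optionCongr (Equiv.addRight (1 : ZMod 23)), Cfsg.projInv} ∪ {g : Equiv.Perm Cfsg.GolayPt | ∃ u : (ZMod 23)ˣ, IsSquare u ∧ g = Equiv.optionCongr (Units.mulLeft u)}) ≤ Cfsg.M24 ∧ Nat.card ↥(Subgroup.closure ({Equiv.optionCongr (Equiv.addRight (1 : ZMod 23)), Cfsg.projInv} ∪ {g : Equiv.Perm Cfsg.GolayPt | ∃ u : (ZMod 23)ˣ, IsSquare u ∧ g = Equiv.optionCongr (Units.mulLeft u)})) = 6072 ∧ IsCoatom ((Subgroup.closure ({Equiv.optionCongr (Equiv.addRight (1 : ZMod 23)), Cfsg.projInv} ∪ {g : Equiv.Perm Cfsg.GolayPt | ∃ u : (ZMod 23)ˣ, IsSquare u ∧ g = Equiv.optionCongr (Units.mulLeft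 u)})).subgroupOf Cfsg.M24)) ∧ (Subgroup.closure ({Equiv.optionCongr (Equiv.addRight (1 : ZMod 23))} ∪ {g : Equiv.Perm Cfsg.GolayPt | ∃ u : (ZMod 23)ˣ, IsSquare u ∧ g = Equiv.optionCongr (Units.mulLeft u)}) ≤ Cfsg.M24 ⊓ MulAction.stabilizer (Equiv.Perm Cfsg.GolayPt) (none : Cfsg.GolayPt) ∧ Nat.card ↥(Subgroup.closure ({Equiv.optionCongr (Equiv.addRight (1 : ZMod 23))} ∪ {g : Equiv.Perm Cfsg.GolayPt | ∃ u : (ZMod 23)ˣ, IsSquare u ∧ g = Equiv.optionCongr (Units.mulLeft u)})) = 253 ∧ IsCoatom (((Subgroup.closure ({Equiv.optionCongr (Equiv.addRight (1 : ZMod 23))} ∪ {g : Equiv.Perm Cfsg.GolayPt | ∃ u : (ZMod 23)ˣ, IsSquare u ∧ g = Equiv.optionCongr (Units.mulLeft u)})).subgroupOf Cfsg.M24).subgroupOf (MulAction.stabilizer Cfsg.M24 (none : Cfsg.GolayPt)))) := by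
  rw [closure_eq specL.1 (by simp) (by
      rintro s (rfl | rfl)
      exacts [⟨ga, by simp, rep_a⟩, ⟨gi, by simp, rep_i⟩]) (by
      simp only [List.forall_mem_cons, List.not_mem_nil]
      exact ⟨Or.inr ⟨_, by simp, rep_i⟩, Or.inr ⟨_, by simp, rep_a⟩, Or.inl trivial, by simp⟩),
    closure_eq specB.1 (by simp) (by
      rintro s rfl
      exact ⟨ga, by simp, rep_a⟩) (by
      simp only [List.forall_mem_cons, List.not_mem_nil]
      exact ⟨Or.inr ⟨_, by simp, rep_a⟩, Or.inl trivial, by simp⟩)]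
  have h1 : ∀ K : Subgroup M24, (K.map M24.subtype).subgroupOf M24 = K := fun K =>
    Subgroup.comap_map_eq_self_of_injective Subtype.val_injective K
  rw [h1, h1, Subgroup.card_subtype, Subgroup.card_subtype, ← gE_pt_23, ← cf_pt]
  refine ⟨⟨Subgroup.map_subtype_le _, specL.2, coatomL⟩,
    le_inf (Subgroup.map_subtype_le _) ?_, specB.2, coatomB⟩
  rintro _ ⟨g, hg, rfl⟩
  exact (mem_cf.mp (le_M23 hg)).1 23 (by simp)

end Cfsg.Agent.S1643
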