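import Cfsg.Statements.S1910
import Cfsg.Agent.H3.Misc
import Cfsg.Agent.H1.Basic
import Cfsg.Agent.H2.Coprime

set_option autoImplicit false
open Cfsg

namespace Cfsg.Agent.S1910

theorem eq1 {G : Type*} [Group G] [Finite G] {A X : Subgroup G} (hA : Odd (Nat.card A))
    (hX : IsPGroup 2 X) {x : G} (h1 : x ∈ A) (h2 : x ∈ X) : x = 1 :=
  H3.eq_one_of_odd_of_pgroup hX h2 (hA.of_dvd_nat (A.orderOf_dvd_natCard h1))

open H1 in
/-- the embedding step -/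
theorem embed {G : Type*} [Group G] [Finite G] {B T R U : Subgroup G}
    (hB : ∀ x, x ∉ Subgroup.normalizer (B : Set G) → Odd (Nat.card ↥(B ⊓ cj x B)))
    (hTB : T ≤ B) (hT : IsPGroup 2 T) (hU : IsPGroup 2 U) (hRU : R < U)
    (hTU : T ≤ Subgroup.normalizer (U : Set G)) (hTU' : T ⊓ U = ⊥)
    (hc : T ≤ Subgroup.centralizer (R : Set G))
    (hN : U ⊓ Subgroup.normalizer (T : Set G) ≤ R) (hW : (T ⊔ R) ⊓ B ≤ T) :
    ∃ f : T →* R, Function.Injective f := by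
  haveI : Fact (Nat.Prime 2) := ⟨Nat.prime_two⟩
  have hTR : T ≤ Subgroup.normalizer (R : Set G) := hc.trans (Subgroup.centralizer_le_normalizer _)
  have hmem : ∀ w ∈ T ⊔ R, ∃ t ∈ T, ∃ r ∈ R, t * r = w := fun w hw =>
    (H2.mem_sup_of_le_normalizer hTR).1 hw
  have hWU : ∀ w ∈ T ⊔ R, w ∈ U → w ∈ R := by
    intro w hw hwU
    obtain ⟨t, ht, r, hr, rfl⟩ := hmem w hw
    have : t ∈ T ⊓ U := ⟨ht, (U.mul_mem_cancel_right (hRU.le hr)).1 hwU⟩
    rw [hTU', Subgroup.mem_bot] at this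
    rwa [this, one_mul]
  have hlt : T ⊔ R < T ⊔ U := by
    refine lt_of_le_of_ne (sup_le_sup_left hRU.le _) fun h => hRU.not_ge fun u hu => ?_
    exact hWU u (h ▸ Subgroup.mem_sup_right hu) hu
  obtain ⟨y0, ⟨hy0, hy0N⟩, hy0W⟩ := SetLike.exists_of_lt
    (lt_inf_normalizer_of_isPGroup (hT.to_sup_of_normal_right' hU hTU) hlt)
  obtain ⟨t0, ht0, y, hy, rfl⟩ := (H2.mem_sup_of_le_normalizer hTU).1 hy0
  have hyN : y ∈ Subgroup.normalizer ((T ⊔ R : Subgroup G) : Set G) :=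
    (Subgroup.mul_mem_cancel_left _ (Subgroup.le_normalizer (Subgroup.mem_sup_left ht0))).1 hy0N
  have hyR : y ∉ R := fun h => hy0W (Subgroup.mul_mem_sup ht0 h)
  have hyB : y ∉ Subgroup.normalizer (B : Set G) := fun h => hyR (hN ⟨hy,
    mem_normalizer_of_conj_mem fun t ht => hW ⟨conj_mem_of_mem_normalizer hyN
      (Subgroup.mem_sup_left ht), conj_mem_of_mem_normalizer h (hTB ht)⟩⟩)
  have hdec : ∀ t : T, ∃ r : R, y * t * y⁻¹ * (r : G)⁻¹ ∈ T := by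
    intro t
    obtain ⟨t', ht', r, hr, h⟩ := hmem _ (conj_mem_of_mem_normalizer hyN (Subgroup.mem_sup_left t.2))
    exact ⟨⟨r, hr⟩, by rw [← h]; simpa using ht'⟩
  choose f hf using hdec
  have huniq : ∀ (w : G) (r r' : R), w * (r : G)⁻¹ ∈ T → w * (r' : G)⁻¹ ∈ T → r = r' := by
    intro w r r' h1 h2
    have h3 : (r : G) * (r' : G)⁻¹ ∈ T ⊓ U := by
      refine ⟨?_, hRU.le (R.mul_mem r.2 (R.inv_mem r'.2))⟩
      have := T.mul_mem (T.inv_mem h1) h2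
      simpa [mul_assoc] using this
    rw [hTU', Subgroup.mem_bot, mul_inv_eq_one] at h3
    exact Subtype.ext h3
  refine ⟨MonoidHom.mk' f fun a b => huniq _ _ _ (hf (a * b)) ?_, ?_⟩
  · have h1 := T.mul_mem (hf a) (hf b)
    have h2 := hc (hf b) _ (R.inv_mem (f a).2)
    have e : y * a * y⁻¹ * (f a : G)⁻¹ * (y * b * y⁻¹ * (f b : G)⁻¹) =
        y * ↑(a * b) * y⁻¹ * (↑(f a * f b) : G)⁻¹ := by
      rw [mul_assoc _ (f a : G)⁻¹, h2]
      simp only [Subgroup.coe_mul]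
      group
    rwa [e] at h1
  · rw [injective_iff_map_eq_one]
    intro t ht
    have h1 := hf t
    rw [show f t = 1 from ht] at h1
    simp only [Subgroup.coe_one, inv_one, mul_one] at h1
    obtain ⟨k, hk⟩ := (IsPGroup.iff_orderOf.1 hT) ⟨_, h1⟩
    rw [← Subgroup.orderOf_coe] at hk
    have h2 := eq1 (hB y hyB) hT (x := y * t * y⁻¹)
      ⟨hTB h1, conj_mem_cj (hTB t.2)⟩ h1
    ext
    simpa using h2

/-- Let Q be a tightly embedded subgroup of a finite group G, g an element outside N_G(Q), T a nontrivial Sylow 2-subgroup of Q^g ∩ N_G(Q), and S a Sylow 2-subgroup of QT containing T. Then T ∩ Q = 1, and N_S(T) is the direct product of T and N_S(T) ∩ Q, with N_S(T) ∩ Q isomorphic to T. -/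
theorem result {G : Type*} [Group G] [Finite G] (Q : Subgroup G) (hQ : Cfsg.IsTightlyEmbedded Q)
    (g : G) (hg : g ∉ Subgroup.normalizer (Q : Set G))
    (T : Subgroup G) (hT1 : T ≠ ⊥) (hT : T ≤ Q.map (MulAut.conj g).toMonoidHom ⊓ Subgroup.normalizer (Q : Set G))
    (hTsyl : IsPGroup 2 T ∧ ¬ 2 ∣ T.relIndex (Q.map (MulAut.conj g).toMonoidHom ⊓ Subgroup.normalizer (Q : Set G)))
    (S : Subgroup G) (hTS : T ≤ S) (hS : S ≤ Q ⊔ T) (hSsyl : IsPGroup 2 S ∧ ¬ 2 ∣ S.relIndex (Q ⊔ T)) :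
    T ⊓ Q = ⊥ ∧
      T ⊓ (S ⊓ Subgroup.normalizer (T : Set G) ⊓ Q) = ⊥ ∧
      ⁅T, S ⊓ Subgroup.normalizer (T : Set G) ⊓ Q⁆ = ⊥ ∧
      T ⊔ (S ⊓ Subgroup.normalizer (T : Set G) ⊓ Q) = S ⊓ Subgroup.normalizer (T : Set G) ∧
      Nonempty (↥(S ⊓ Subgroup.normalizer (T : Set G) ⊓ Q) ≃* T) := by
  haveI : Fact (Nat.Prime 2) := ⟨Nat.prime_two⟩
  change T ≤ H1.cj g Q ⊓ _ at hT
  change _ ∧ ¬ 2 ∣ T.relIndex (H1.cj g Q ⊓ _) at hTsyl
  have hQ2 : ∀ x, x ∉ Subgroup.normalizer (Q : Set G) → Odd (Nat.card ↥(Q ⊓ H1.cj x Q)) := hQ.2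
  set Q' := H1.cj g Q with hQ'
  have hQ'2 : ∀ x, x ∉ Subgroup.normalizer (Q' : Set G) → Odd (Nat.card ↥(Q' ⊓ H1.cj x Q')) := by
    intro x hx
    rw [hQ', ← H1.cj_normalizer, H1.mem_cj] at hx
    have := hQ2 _ hx
    rw [← H1.card_cj g, H1.cj_inf, ← H1.cj_mul] at this
    rwa [hQ', ← H1.cj_mul, show x * g = g * (g⁻¹ * x * g) by group]
  have hdis : ∀ X : Subgroup G, IsPGroup 2 X → X ≤ Q' → X ⊓ Q = ⊥ := fun X hX hXQ =>
    eq_bot_iff.2 fun x hx => eq1 (hQ2 g hg) hX ⟨hx.2, hXQ hx.1⟩ hx.1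
  have hTQ' : T ≤ Q' := hT.trans inf_le_left
  have hTN : T ≤ Subgroup.normalizer (Q : Set G) := hT.trans inf_le_right
  have h1 := hdis T hTsyl.1 hTQ'
  set R := S ⊓ Subgroup.normalizer (T : Set G) ⊓ Q with hR
  have hRQ : R ≤ Q := inf_le_right
  have hRS : R ≤ S := inf_le_left.trans inf_le_left
  have hRN : R ≤ Subgroup.normalizer (T : Set G) := inf_le_left.trans inf_le_right
  have hRp : IsPGroup 2 R := hSsyl.1.to_le hRS
  have h3 : ⁅T, R⁆ = ⊥ := by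
    rw [eq_bot_iff, ← h1]
    refine le_inf (H2.commutator_le_left_of_le_normalizer hRN) ?_
    rw [Subgroup.commutator_comm]
    exact (Subgroup.commutator_mono hRQ le_rfl).trans (H2.commutator_le_left_of_le_normalizer hTN)
  have hTC : T ≤ Subgroup.centralizer (R : Set G) :=
    Subgroup.commutator_eq_bot_iff_le_centralizer.1 h3
  have hSdec : ∀ s ∈ S, ∃ q ∈ S ⊓ Q, ∃ t ∈ T, q * t = s := by
    intro s hs
    obtain ⟨q, hq, t, ht, rfl⟩ := (H2.mem_sup_of_le_normalizer' hTN).1 (hS hs)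
    exact ⟨q, ⟨(S.mul_mem_cancel_right (hTS ht)).1 hs, hq⟩, t, ht, rfl⟩
  refine ⟨h1, eq_bot_iff.2 (h1 ▸ inf_le_inf_left _ hRQ), h3, ?_, ?_⟩
  · refine le_antisymm (sup_le (le_inf hTS Subgroup.le_normalizer) inf_le_left) fun s hs => ?_
    obtain ⟨q, hq, t, ht, rfl⟩ := hSdec s hs.1
    rw [sup_comm]
    exact Subgroup.mul_mem_sup ⟨⟨hq.1, (Subgroup.mul_mem_cancel_right _
      (Subgroup.le_normalizer ht)).1 hs.2⟩, hq.2⟩ ht
  set U := S ⊓ Q with hU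
  have hUp : IsPGroup 2 U := hSsyl.1.to_le inf_le_left
  have hTU : T ≤ Subgroup.normalizer (U : Set G) :=
    H2.le_normalizer_inf (hTS.trans Subgroup.le_normalizer) hTN
  have hRU : R ≤ U := le_inf hRS hRQ
  have hUsyl : ¬ 2 ∣ U.relIndex Q := by
    have e1 := H2.card_sup_mul_card_inf hTN
    have e2 := H2.card_sup_mul_card_inf hTU
    have e3 : T ⊔ U = S := le_antisymm (sup_le hTS inf_le_left) fun s hs => by
      obtain ⟨q, hq, t, ht, rfl⟩ := hSdec s hs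
      rw [sup_comm]; exact Subgroup.mul_mem_sup hq ht
    have e4 : T ⊓ U = ⊥ := eq_bot_iff.2 (h1 ▸ inf_le_inf_left _ inf_le_right)
    rw [h1, Subgroup.card_bot, mul_one, sup_comm] at e1
    rw [e3, e4, Subgroup.card_bot, mul_one] at e2
    have e5 := H2.card_mul_relIndex hS
    have e6 := H2.card_mul_relIndex (inf_le_right : U ≤ Q)
    rw [e1, e2, ← e6, mul_assoc] at e5
    have e7 := Nat.eq_of_mul_eq_mul_left Nat.card_pos (Nat.eq_of_mul_eq_mul_left Nat.card_pos e5)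
    exact e7 ▸ hSsyl.2
  have hnorm : ∀ (X B : Subgroup G), (∀ x, x ∉ Subgroup.normalizer (B : Set G) →
      Odd (Nat.card ↥(B ⊓ H1.cj x B))) → IsPGroup 2 X → X ≠ ⊥ → X ≤ B →
      Subgroup.normalizer (X : Set G) ≤ Subgroup.normalizer (B : Set G) := by
    intro X B hB hX hX1 hXB x hx
    by_contra hxB
    refine hX1 (eq_bot_iff.2 fun y hy => eq1 (hB x hxB) hX ⟨hXB hy, ?_⟩ hy)
    exact H1.mem_cj.2 (hXB (H1.conj_mem_of_mem_normalizer' hx hy))
  have hTmax : ∀ X : Subgroup G, IsPGroup 2 X → T ≤ X → X ≤ Q' →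
      X ≤ Subgroup.normalizer (Q : Set G) → X = T := fun X hX h h' h'' =>
    H2.eq_of_le_of_not_dvd_relIndex hX (le_inf h' h'') h hTsyl.2
  have hTR : T ≤ Subgroup.normalizer (R : Set G) := hTC.trans (Subgroup.centralizer_le_normalizer _)
  have hWp : IsPGroup 2 (T ⊔ R : Subgroup G) := hSsyl.1.to_le (sup_le hTS hRS)
  have hU1 : U ≠ ⊥ := by
    intro h
    rw [h, Subgroup.relIndex_bot_left] at hUsyl
    exact hUsyl (even_iff_two_dvd.1 hQ.1)
  have hA : R < U → ∃ f : T →* R, Function.Injective f := fun h =>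
    embed hQ'2 hTQ' hTsyl.1 hUp h hTU (eq_bot_iff.2 (h1 ▸ inf_le_inf_left _ inf_le_right)) hTC
      (fun x hx => ⟨⟨hx.1.1, hx.2⟩, hx.1.2⟩)
      (hTmax _ (hWp.to_le inf_le_left) (le_inf le_sup_left hTQ') inf_le_right
        (inf_le_left.trans (sup_le hTN (hRQ.trans Subgroup.le_normalizer)))).le
  have hR1 : R ≠ ⊥ := by
    intro h
    obtain ⟨f, hf⟩ := hA (by rw [h]; exact bot_lt_iff_ne_bot.2 hU1)
    have := Nat.card_le_card_of_injective f hf
    rw [h, Subgroup.card_bot] at this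
    exact hT1 (Subgroup.eq_bot_of_card_le _ this)
  have hRQ' : R ≤ Subgroup.normalizer (Q' : Set G) := hRN.trans (hnorm T Q' hQ'2 hTsyl.1 hT1 hTQ')
  obtain ⟨U', hTU', hU'Q, hU'p, hU'syl, hRU'⟩ : ∃ U' : Subgroup G, T ≤ U' ∧ U' ≤ Q' ∧
      IsPGroup 2 U' ∧ ¬ 2 ∣ U'.relIndex Q' ∧ R ≤ Subgroup.normalizer (U' : Set G) := by
    obtain ⟨S', hS'1, hS'2⟩ := H1.exists_isSylowIn_ge hWp
      (sup_le (hTQ'.trans le_sup_left) le_sup_right : T ⊔ R ≤ Q' ⊔ R)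
    have := hS'2.inf_of_normal (le_sup_left : Q' ≤ Q' ⊔ R) (sup_le Subgroup.le_normalizer hRQ')
    exact ⟨S' ⊓ Q', le_inf (le_sup_left.trans hS'1) hTQ', inf_le_right, this.isPGroup,
      this.not_dvd, H2.le_normalizer_inf ((le_sup_right.trans hS'1).trans Subgroup.le_normalizer)
        hRQ'⟩
  have hB : T < U' → ∃ f : R →* T, Function.Injective f := fun h =>
    embed hQ2 hRQ hRp hU'p h hRU' (eq_bot_iff.2 (by
        rw [← hdis U' hU'p hU'Q, inf_comm]; exact inf_le_inf_left _ hRQ))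
      (Subgroup.le_centralizer_iff.1 hTC)
      (hTmax _ (hU'p.to_le inf_le_left) (le_inf hTU' hTR) (inf_le_left.trans hU'Q)
        (inf_le_right.trans (hnorm R Q hQ2 hRp hR1 hRQ))).le
      (fun x hx => by
        obtain ⟨r, hr, t, ht, rfl⟩ := (H2.mem_sup_of_le_normalizer hRN).1 hx.1
        have : t ∈ T ⊓ Q := ⟨ht, (Q.mul_mem_cancel_left (hRQ hr)).1 hx.2⟩
        rw [h1, Subgroup.mem_bot] at this
        rwa [this, mul_one])
  obtain ⟨k, hk, hkU⟩ : ∃ k, H1.cj k U = U' := by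
    have s1 : H1.IsSylowIn 2 (H1.cj g U) Q' :=
      ⟨H1.cj_mono g inf_le_right, H1.isPGroup_cj g hUp, by rw [hQ', H1.relIndex_cj]; exact hUsyl⟩
    have s2 : H1.IsSylowIn 2 U' Q' := ⟨hU'Q, hU'p, hU'syl⟩
    obtain ⟨k, hk, hk'⟩ := s2.exists_cj_le s1.isPGroup s1.le
    refine ⟨k * g, ?_⟩
    rw [H1.cj_mul]
    have s3 : H1.IsSylowIn 2 (H1.cj k (H1.cj g U)) Q' :=
      ⟨H1.cj_le_of_le hk s1.le, H1.isPGroup_cj k s1.isPGroup, by
        rw [← H1.cj_eq_of_mem hk, H1.relIndex_cj]; exact s1.not_dvd⟩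
    exact (s3.eq_of_le hU'p hk' hU'Q).symm
  have hcard : Nat.card (H1.cj k U) = Nat.card U := H1.card_cj k U
  rcases hRU.lt_or_eq with a | a <;> rcases hTU'.lt_or_eq with b | b
  · obtain ⟨f, hf⟩ := hA a
    obtain ⟨f', hf'⟩ := hB b
    exact ⟨MulEquiv.ofBijective f' (hf'.bijective_of_nat_card_le
      (Nat.card_le_card_of_injective f hf))⟩
  · obtain ⟨f, hf⟩ := hA a
    have := Nat.card_le_card_of_injective f hf
    have := H2.card_lt_of_lt a
    rw [← b] at hcard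
    omega
  · obtain ⟨f, hf⟩ := hB b
    have := Nat.card_le_card_of_injective f hf
    have := H2.card_lt_of_lt b
    have : Nat.card R = Nat.card U := congrArg (fun X : Subgroup G => Nat.card X) a
    omega
  · rw [a, b]
    exact ⟨U.equivMapOfInjective _ (MulAut.conj k).injective⟩

end Cfsg.Agent.S1910
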