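import Cfsg.Statements.S1915
import Cfsg.Agent.H3.RelNoFour
import Cfsg.Agent.H1.ThompsonTransfer
import Cfsg.Agent.L.Comp

set_option autoImplicit false
open Cfsg

namespace Cfsg.Agent.S1915

open Subgroup in
theorem two_group {T : Type*} [Group T] [Finite T] (hT : IsPGroup 2 T) (S : Subgroup T)
    [hSn : S.Normal] {u1 u2 : T} (h1 : u1 * u1 = 1) (h2 : u2 * u2 = 1) (h12 : u1 * u2 = u2 * u1)
    (hrk : ∀ u, u = u1 ∨ u = u2 ∨ u = u1 * u2 → ∀ a ∈ S, ∀ b ∈ S, orderOf a = 2 → orderOf b = 2 →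
      a * b = b * a → a * u = u * a → b * u = u * b → a = b)
    {a b : T} (ha : a ∈ S) (hb : b ∈ S) (ha2 : orderOf a = 2) (hb2 : orderOf b = 2) (hab : a ≠ b) :
    ∃ C ≤ S, C.relIndex S = 2 ∧ ∃ u, (u = u1 ∨ u = u2 ∨ u = u1 * u2) ∧ ∃ v ∈ S, v ∉ C ∧
      orderOf v = 2 ∧ ∃ z, orderOf z = 2 ∧ (∀ g, g * z = z * g) ∧
      (∀ x ∈ C, orderOf x = 2 → x = z) ∧ (∀ s ∈ S, (s * u) ^ 2 ∈ C) ∧
      ∃ i ∈ S, u * i * v = v * (u * i) ∧ (u * i) ^ 2 = z := by
  have hsq : ∀ x : T, orderOf x = 2 → x ^ 2 = 1 := fun x hx => hx ▸ pow_orderOf_eq_one x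
  have hne : ∀ x : T, orderOf x = 2 → x ≠ 1 := fun x hx h => by simp [h] at hx
  have hcyc : ∀ A : Subgroup T, A.Normal → A ≤ S → IsMulCommutative A → IsCyclic A := by
    intro A hAn hAS hAc
    by_contra hcon
    have hnu : ¬ H3.UniqInv A := fun hu => hcon (by
      have := H2.isCyclic_of_uniqInv_of_comm (hT.to_subgroup A) hu (A := ⊤)
        ⟨⟨fun x y => Subtype.ext (hAc.is_comm.comm x.1 y.1)⟩⟩
      exact isCyclic_of_surjective topEquiv topEquiv.surjective)
    unfold H3.UniqInv at hnu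
    push Not at hnu
    obtain ⟨x, y, hx, hy, -, hxy⟩ := hnu
    obtain ⟨z, hz, e, he, hz2, he2, hez, hzc, hec⟩ := H3.exists_normal_four_of_abelian hT
      (fun a ha b hb => setLike_mul_comm (s := A) ha hb) x.2 y.2 (by simpa using hx)
      (by simpa using hy) (fun h => hxy (Subtype.ext h))
    have key : ∀ u, u = u1 ∨ u = u2 ∨ u = u1 * u2 → u * e * u⁻¹ ≠ e := fun u hu h =>
      hez (hrk u hu e (hAS he) z (hAS hz) he2 hz2 (hzc e) (mul_inv_eq_iff_eq_mul.mp h).symm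
        (hzc u).symm)
    have k1 := (hec u1).resolve_left (key u1 (Or.inl rfl))
    have k2 := (hec u2).resolve_left (key u2 (Or.inr (Or.inl rfl)))
    refine key _ (Or.inr (Or.inr rfl)) ?_
    calc u1 * u2 * e * (u1 * u2)⁻¹ = u1 * (u2 * e * u2⁻¹) * u1⁻¹ := by group
      _ = u1 * e * u1⁻¹ * z := by rw [k2, ← mul_assoc, mul_assoc _ z, ← hzc, ← mul_assoc]
      _ = e := by rw [k1, mul_assoc, ← sq, hsq z hz2, mul_one]
  obtain ⟨c, hcS, k, hCn, hc, hD⟩ := H3.rel_noFour hT S hcyc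
    (H2.not_isCyclic_of_two_involutions ha hb (hne a ha2) (hne b hb2) (hsq a ha2) (hsq b hb2) hab)
  set y := c ^ 2 ^ k with hy
  set z := c ^ 2 ^ (k + 1) with hz
  have hy4 : orderOf y = 2 ^ 2 := by
    rw [hy, orderOf_pow_of_dvd (by positivity) (hc ▸ pow_dvd_pow 2 (by omega)), hc,
      Nat.pow_div (by omega) two_pos, Nat.add_sub_cancel_left]
  have hyz : y * y = z := by rw [hy, hz, ← sq, ← pow_mul, ← pow_succ]
  have hz2 : orderOf z = 2 := hyz ▸ H3.orderOf_sq_of_four hy4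
  have hyC : y ∈ zpowers c := pow_mem (mem_zpowers c) _
  have hzC : z ∈ zpowers c := pow_mem (mem_zpowers c) _
  have hCS : zpowers c ≤ S := zpowers_le.mpr hcS
  have huniq : ∀ x ∈ zpowers c, orderOf x = 2 → x = z := fun x hx hx2 =>
    (H2.eq_one_or_eq_of_sq_eq_one hc hx (hsq x hx2)).resolve_left (hne x hx2)
  have hzc : ∀ g, g * z = z * g := fun g => by
    have := huniq _ (hCn.conj_mem z hzC g) (by rw [← hz2]; exact (MulAut.conj g).orderOf_eq z)
    exact mul_inv_eq_iff_eq_mul.mp this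
  haveI hYn : (zpowers y).Normal := H2.normal_of_le_zpowers (zpowers_le.mpr hyC)
  have hy1 : y * y * (y * y) = 1 := H3.pow_four_of_four hy4
  have hconj : ∀ g, g * y * g⁻¹ = y ∨ g * y * g⁻¹ = y⁻¹ := fun g => by
    classical
    have h3 : orderOf (g * y * g⁻¹) = 4 := by rw [← show 2 ^ 2 = 4 by norm_num, ← hy4]; exact (MulAut.conj g).orderOf_eq y
    have h4 := hYn.conj_mem y (mem_zpowers y) g
    rw [mem_zpowers_iff_mem_range_orderOf, hy4] at h4
    simp only [Finset.mem_image, Finset.mem_range] at h4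
    obtain ⟨j, hj, hj2⟩ := h4
    rw [← hj2] at h3 ⊢
    norm_num at hj
    interval_cases j
    · simp at h3
    · simp
    · rw [sq, hyz, hz2] at h3; omega
    · right; rw [eq_inv_iff_mul_eq_one, ← hy1]; simp only [pow_succ, pow_zero, one_mul, mul_assoc]
  have hcent : ∀ s ∈ S, s * y * s⁻¹ = y → s ∈ zpowers c := fun s hs h => hD ⟨by
    rintro _ ⟨i, rfl⟩
    exact ((Commute.zpow_right (mul_inv_eq_iff_eq_mul.mp h : Commute s y) i).eq).symm, hs⟩
  have hinv : ∀ s ∈ S, s ∉ zpowers c → s * y * s⁻¹ = y⁻¹ := fun s hs h =>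
    (hconj s).resolve_left fun h' => h (hcent s hs h')
  have hmul : ∀ s ∈ S, ∀ t ∈ S, s ∉ zpowers c → t ∉ zpowers c → s * t ∈ zpowers c :=
    fun s hs t ht h h' => hcent _ (mul_mem hs ht) (by
      calc s * t * y * (s * t)⁻¹ = s * (t * y * t⁻¹) * s⁻¹ := by group
        _ = (s * y * s⁻¹)⁻¹ := by rw [hinv t ht h']; group
        _ = y := by rw [hinv s hs h, inv_inv])
  obtain ⟨v, hvS, hvC, hv2⟩ : ∃ v ∈ S, v ∉ zpowers c ∧ orderOf v = 2 := by
    by_cases haC : a ∈ zpowers c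
    · exact ⟨b, hb, fun hbC => hab ((huniq a haC ha2).trans (huniq b hbC hb2).symm), hb2⟩
    · exact ⟨a, ha, haC, ha2⟩
  obtain ⟨u, hu, huy⟩ : ∃ u, (u = u1 ∨ u = u2 ∨ u = u1 * u2) ∧ u * y * u⁻¹ = y := by
    rcases hconj u1 with k1 | k1
    · exact ⟨u1, Or.inl rfl, k1⟩
    rcases hconj u2 with k2 | k2
    · exact ⟨u2, Or.inr (Or.inl rfl), k2⟩
    refine ⟨_, Or.inr (Or.inr rfl), ?_⟩
    calc u1 * u2 * y * (u1 * u2)⁻¹ = u1 * (u2 * y * u2⁻¹) * u1⁻¹ := by group
      _ = (u1 * y * u1⁻¹)⁻¹ := by rw [k2]; group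
      _ = y := by rw [k1, inv_inv]
  have huu : u * u = 1 := by
    rcases hu with rfl | rfl | rfl
    · exact h1
    · exact h2
    · rw [mul_assoc, ← mul_assoc u2, ← h12, mul_assoc, h2, mul_one, h1]
  have hui : u⁻¹ = u := inv_eq_of_mul_eq_one_right huu
  have hvv : v * v = 1 := (sq v).symm.trans (hsq v hv2)
  have hvi : v⁻¹ = v := inv_eq_of_mul_eq_one_right hvv
  have hnC : ∀ s, s ∉ zpowers c → u * s * u⁻¹ ∉ zpowers c := fun s hs h => hs (by
    simpa [mul_assoc] using hCn.conj_mem' _ h u)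
  -- `u` moves `v` to `v * z`
  have huv : u * v * u⁻¹ = v * z := by
    have hx : v * (u * v * u⁻¹) ∈ zpowers c :=
      hmul v hvS _ (hSn.conj_mem v hvS u) hvC (hnC v hvC)
    set x := v * (u * v * u⁻¹) with hxdef
    have hxi : u * x * u⁻¹ = x⁻¹ := by
      rw [hxdef, mul_inv_rev, mul_inv_rev, mul_inv_rev, hvi, hui, hui]
      calc u * (v * (u * v * u)) * u = u * v * u * v * (u * u) := by group
        _ = _ := by rw [huu]; group
    have hx2 : x ^ 2 = 1 := by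
      by_contra hx2
      obtain ⟨m, hm⟩ := IsPGroup.iff_orderOf.mp hT x
      obtain ⟨m, rfl⟩ : ∃ m', m = m' + 2 := by
        rcases m with _ | _ | m
        · exact absurd (by rw [orderOf_eq_one_iff.mp hm, one_pow]) hx2
        · exact absurd (hsq x (by simpa using hm)) hx2
        · exact ⟨m, rfl⟩
      have hw4 : orderOf (x ^ 2 ^ m) = 2 ^ 2 := by
        rw [orderOf_pow_of_dvd (by positivity) (hm ▸ pow_dvd_pow 2 (by omega)), hm,
          Nat.pow_div (by omega) two_pos, Nat.add_sub_cancel_left]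
      have hwC : x ^ 2 ^ m ∈ zpowers c := pow_mem hx _
      have hwi : u * x ^ 2 ^ m * u⁻¹ = (x ^ 2 ^ m)⁻¹ := by rw [← conj_pow, hxi, inv_pow]
      generalize x ^ 2 ^ m = w at hw4 hwC hwi
      have hww : w * w = z := huniq _ (mul_mem hwC hwC) (H3.orderOf_sq_of_four hw4)
      have hwy : w * y = y * w := H2.commute_of_mem_zpowers hwC hyC
      have h5 : (w * y) ^ 2 = 1 := by
        rw [sq, mul_assoc, ← mul_assoc y, ← hwy, mul_assoc, ← mul_assoc, hww, hyz, ← sq, hsq z hz2]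
      have h6 : u * (w * y) * u⁻¹ = w * y := by
        rcases H2.eq_one_or_eq_of_sq_eq_one hc (mul_mem hwC hyC) h5 with h | h
        · rw [h]; group
        · rw [h]; exact mul_inv_eq_iff_eq_mul.mpr (hzc u)
      have h7 : w⁻¹ * y = w * y := by
        rw [← h6, ← hwi]; nth_rewrite 1 [← huy]; group
      exact H3.ne_inv_of_four hw4 (mul_right_cancel h7).symm
    rcases H2.eq_one_or_eq_of_sq_eq_one hc hx hx2 with h | h
    · exfalso
      have h8 : u * v * u⁻¹ = v := (inv_eq_of_mul_eq_one_right h).symm.trans hvi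
      have := hrk u hu v hvS z (hCS hzC) hv2 hz2 (hzc v) (mul_inv_eq_iff_eq_mul.mp h8).symm
        (hzc u).symm
      exact hvC (this ▸ hzC)
    · rw [← hz] at h
      rw [← h, hxdef, ← mul_assoc, hvv, one_mul]
  refine ⟨zpowers c, hCS, ?_, u, hu, v, hvS, hvC, hv2, z, hz2, hzc, huniq, fun s hs => ?_,
    y, hCS hyC, ?_, ?_⟩
  · rw [relIndex, index_eq_two_iff]
    refine ⟨⟨v, hvS⟩, fun s => ?_⟩
    simp only [mem_subgroupOf, coe_mul]
    by_cases hs : (s : T) ∈ zpowers c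
    · exact Or.inr ⟨hs, fun h => hvC ((mul_mem_cancel_left hs).mp h)⟩
    · exact Or.inl ⟨hmul _ s.2 v hvS hs hvC, hs⟩
  · rw [show (s * u) ^ 2 = s * (u * s * u⁻¹) by rw [hui, sq]; group]
    by_cases hsC : s ∈ zpowers c
    · exact mul_mem hsC (hCn.conj_mem s hsC u)
    · exact hmul s hs _ (hSn.conj_mem s hs u) hsC (hnC s hsC)
  · have h3 := hinv v hvS hvC
    rw [hvi] at h3
    have h4 : y * v = v * y⁻¹ := by rw [← h3, ← mul_assoc, ← mul_assoc, hvv, one_mul]
    have h5 : u * v = v * z * u := mul_inv_eq_iff_eq_mul.mp huv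
    have h6 : u * y = y * u := mul_inv_eq_iff_eq_mul.mp huy
    have h7 : z * y⁻¹ = y := by rw [← hyz]; group
    have h8 : u * y⁻¹ = y⁻¹ * u := (show Commute u y from h6).inv_right.eq
    rw [mul_assoc, h4, ← mul_assoc, h5, mul_assoc, h8, ← mul_assoc, mul_assoc v, h7, mul_assoc, h6]
  · have h6 : u * y = y * u := mul_inv_eq_iff_eq_mul.mp huy
    rw [sq, mul_assoc, ← mul_assoc y, ← h6, mul_assoc, ← mul_assoc, huu, one_mul, hyz]

theorem eq_of_pRankLE {G : Type*} [Group G] [Finite G] {K : Subgroup G} (h : Cfsg.PRankLE 2 1 K)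
    {a b : G} (ha : a ∈ K) (hb : b ∈ K) (ha2 : orderOf a = 2) (hb2 : orderOf b = 2)
    (hab : a * b = b * a) : a = b := by
  by_contra hne
  have hsq : ∀ x : G, orderOf x = 2 → x * x = 1 := fun x hx => (sq x).symm.trans
    (hx ▸ pow_orderOf_eq_one x)
  let E : Subgroup K :=
    { carrier := {x | (x : G) = 1 ∨ (x : G) = a ∨ (x : G) = b ∨ (x : G) = a * b}
      one_mem' := Or.inl rfl
      mul_mem' := by
        have h1 := hsq a ha2
        have h2 := hsq b hb2
        have h3 : ∀ x, a * (a * x) = x := fun x => by rw [← mul_assoc, h1, one_mul]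
        have h4 : ∀ x, b * (a * x) = a * (b * x) := fun x => by rw [← mul_assoc, ← hab, mul_assoc]
        rintro x y (hx | hx | hx | hx) (hy | hy | hy | hy) <;>
          simp only [Set.mem_ofPred_eq, Subgroup.coe_mul, hx, hy] <;>
          simp [h1, h2, h3, h4, ← hab, mul_assoc]
      inv_mem' := by
        have h1 := inv_eq_of_mul_eq_one_right (hsq a ha2)
        have h2 := inv_eq_of_mul_eq_one_right (hsq b hb2)
        rintro x (hx | hx | hx | hx) <;>
          simp only [Set.mem_ofPred_eq, Subgroup.coe_inv, hx] <;> simp [h1, h2, hab] }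
  have hcomm : ∀ x ∈ E, ∀ y ∈ E, x * y = y * x := by
    have h4 : ∀ x, b * (a * x) = a * (b * x) := fun x => by rw [← mul_assoc, ← hab, mul_assoc]
    rintro x (hx | hx | hx | hx) y (hy | hy | hy | hy) <;> apply Subtype.ext <;>
      simp [hx, hy, h4, ← hab, mul_assoc]
  have h2 := h E ⟨⟨fun x y => Subtype.ext (hcomm x x.2 y y.2)⟩⟩ (by
    have h4 : ∀ x, b * (a * x) = a * (b * x) := fun x => by rw [← mul_assoc, ← hab, mul_assoc]
    have h3 : ∀ x, a * (a * x) = x := fun x => by rw [← mul_assoc, hsq a ha2, one_mul]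
    rintro x (hx | hx | hx | hx) <;> apply Subtype.ext <;>
      simp [sq, hx, hsq a ha2, hsq b hb2, h3, h4, mul_assoc])
  have hne1 : ∀ x : G, orderOf x = 2 → x ≠ 1 := fun x hx h => by simp [h] at hx
  have h3 : 2 < Nat.card E := by
    classical
    letI := Fintype.ofFinite E
    rw [Nat.card_eq_fintype_card, Fintype.two_lt_card_iff]
    refine ⟨1, ⟨⟨a, ha⟩, Or.inr (Or.inl rfl)⟩, ⟨⟨b, hb⟩, Or.inr (Or.inr (Or.inl rfl))⟩, ?_, ?_, ?_⟩
    · intro h; exact hne1 a ha2 (congrArg (fun x : E => ((x : K) : G)) h).symm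
    · intro h; exact hne1 b hb2 (congrArg (fun x : E => ((x : K) : G)) h).symm
    · intro h; exact hne (congrArg (fun x : E => ((x : K) : G)) h)
  omega

theorem pRankLE_mono {G : Type*} [Group G] {p k : ℕ} {K L : Subgroup G} (hKL : K ≤ L)
    (h : Cfsg.PRankLE p k L) : Cfsg.PRankLE p k K := by
  intro E hE hp
  have := h (E.map (Subgroup.inclusion hKL)) inferInstance (by
    rintro _ ⟨x, hx, rfl⟩
    rw [← map_pow, hp x hx, map_one])
  rwa [Subgroup.card_map_of_injective (Subgroup.inclusion_injective hKL)] at this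

/-- Let A be a semisimple subgroup (A = E(A)) of a finite group and U a Klein four-group normalizing A. If the subgroup of A generated by the normalizers N_A(V) of the nontrivial subgroups V of U has 2-rank exactly 1, then A has 2-rank exactly 1. -/
theorem result {G : Type*} [Group G] [Finite G] (A : Subgroup G) (hA : Cfsg.layer ↥A = ⊤)
    (U : Subgroup G) (hU : IsKleinFour U) (hUA : U ≤ Subgroup.normalizer (A : Set G))
    (hΓ : Cfsg.PRankLE 2 1 ↥(⨆ V : {V : Subgroup G // V ≤ U ∧ V ≠ ⊥}, A ⊓ Subgroup.normalizer ((V : Subgroup G) : Set G)) ∧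
      ¬ Cfsg.PRankLE 2 0 ↥(⨆ V : {V : Subgroup G // V ≤ U ∧ V ≠ ⊥}, A ⊓ Subgroup.normalizer ((V : Subgroup G) : Set G))) :
    Cfsg.PRankLE 2 1 A ∧ ¬ Cfsg.PRankLE 2 0 A := by
  haveI : Fact (Nat.Prime 2) := ⟨Nat.prime_two⟩
  set Γ := ⨆ V : {V : Subgroup G // V ≤ U ∧ V ≠ ⊥}, A ⊓ Subgroup.normalizer ((V : Subgroup G) : Set G)
    with hΓdef
  have hΓA : Γ ≤ A := iSup_le fun V => inf_le_left
  refine ⟨?_, fun h => hΓ.2 (pRankLE_mono hΓA h)⟩
  have hrk : ∀ u ∈ U, u ≠ 1 → ∀ a ∈ A, ∀ b ∈ A, orderOf a = 2 → orderOf b = 2 →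
      a * b = b * a → a * u = u * a → b * u = u * b → a = b := by
    intro u hu hu1 a ha b hb ha2 hb2 hab hau hbu
    have key : ∀ x ∈ A, x * u = u * x → x ∈ Γ := fun x hx hxu => by
      refine le_iSup (fun V : {V : Subgroup G // V ≤ U ∧ V ≠ ⊥} =>
        A ⊓ Subgroup.normalizer ((V : Subgroup G) : Set G))
        ⟨Subgroup.zpowers u, Subgroup.zpowers_le.mpr hu, by simpa using hu1⟩ ⟨hx, ?_⟩
      refine Subgroup.centralizer_le_normalizer _ ?_
      rintro _ ⟨i, rfl⟩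
      exact ((Commute.zpow_right hxu i).eq).symm
    exact eq_of_pRankLE hΓ.1 (key a ha hau) (key b hb hbu) ha2 hb2 hab
  intro E hE hE2
  by_contra hcard
  obtain ⟨a, ha, b, hb, ha2, hb2, hab, hne⟩ : ∃ a ∈ A, ∃ b ∈ A, orderOf a = 2 ∧ orderOf b = 2 ∧
      a * b = b * a ∧ a ≠ b := by
    by_contra hcon
    push Not at hcon
    refine hcard (H2.card_le_two_of_uniqInv (fun x y hx hy hxy => Subtype.ext ?_) hE hE2)
    exact hcon x x.2 y y.2 (by simpa using hx) (by simpa using hy) (congrArg Subtype.val hxy)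
  have hU2 : ∀ u ∈ U, u * u = 1 := fun u hu =>
    congrArg Subtype.val (IsKleinFour.mul_self (⟨u, hu⟩ : U))
  have hUp : IsPGroup 2 U := IsPGroup.of_card (n := 2) (by rw [hU.card_four]; norm_num)
  obtain ⟨T, hUT, hT⟩ := H1.exists_isSylowIn_ge hUp (le_sup_right : U ≤ A ⊔ U)
  have hXA : A ⊔ U ≤ Subgroup.normalizer (A : Set G) := sup_le Subgroup.le_normalizer hUA
  have hS := hT.inf_of_normal le_sup_left hXA
  have hab2 : IsPGroup 2 ↥(Subgroup.zpowers a ⊔ Subgroup.zpowers b) :=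
    (H1.isPGroup_zpowers (k := 1) (by simpa using ha2 ▸ pow_orderOf_eq_one a)).to_sup_of_normal_right'
      (H1.isPGroup_zpowers (k := 1) (by simpa using hb2 ▸ pow_orderOf_eq_one b))
      (Subgroup.zpowers_le.mpr (Subgroup.centralizer_le_normalizer _ (by
        rintro _ ⟨i, rfl⟩
        exact ((Commute.zpow_right hab i).eq).symm)))
  obtain ⟨g, hg, hgle⟩ := hS.exists_cj_le hab2
    (sup_le (Subgroup.zpowers_le.mpr ha) (Subgroup.zpowers_le.mpr hb))
  have ha' := hgle (H1.conj_mem_cj (Subgroup.mem_sup_left (Subgroup.mem_zpowers a)))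
  have hb' := hgle (H1.conj_mem_cj (Subgroup.mem_sup_right (Subgroup.mem_zpowers b)))
  obtain ⟨u1, u2, hu1, hu2, hu12⟩ : ∃ u1 u2 : U, u1 ≠ 1 ∧ u2 ≠ 1 ∧ u1 ≠ u2 := by
    classical
    letI := Fintype.ofFinite U
    have h4 : 2 < (Finset.univ.erase (1 : U)).card := by
      rw [Finset.card_erase_of_mem (Finset.mem_univ _), Finset.card_univ,
        ← Nat.card_eq_fintype_card, hU.card_four]; norm_num
    obtain ⟨x, y, -, hx, hy, -, hxy, -⟩ := Finset.two_lt_card_iff.mp h4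
    exact ⟨x, y, Finset.ne_of_mem_erase hx, Finset.ne_of_mem_erase hy, hxy⟩
  have hUc : ∀ x ∈ U, ∀ y ∈ U, x * y = y * x := fun x hx y hy => by
    have h1 := inv_eq_of_mul_eq_one_right (hU2 x hx)
    have h2 := inv_eq_of_mul_eq_one_right (hU2 y hy)
    have h3 := inv_eq_of_mul_eq_one_right (hU2 _ (U.mul_mem hx hy))
    rw [← h3, mul_inv_rev, h1, h2]
  haveI hSn : (A.subgroupOf T).Normal :=
    Subgroup.normal_subgroupOf_of_le_normalizer (hT.le.trans hXA)
  have hUmem : ∀ u : T, u = ⟨u1, hUT u1.2⟩ ∨ u = ⟨u2, hUT u2.2⟩ ∨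
      u = ⟨u1, hUT u1.2⟩ * ⟨u2, hUT u2.2⟩ → (u : G) ∈ U ∧ (u : G) ≠ 1 := by
    rintro u (rfl | rfl | rfl)
    · exact ⟨u1.2, fun h => hu1 (Subtype.ext h)⟩
    · exact ⟨u2.2, fun h => hu2 (Subtype.ext h)⟩
    · refine ⟨U.mul_mem u1.2 u2.2, fun h => hu12 (Subtype.ext ?_)⟩
      exact (eq_inv_of_mul_eq_one_left h).trans (inv_eq_of_mul_eq_one_right (hU2 _ u2.2))
  obtain ⟨C, hCS, hCi, u, hu, v, hvS, hvC, hv2, z, hz2, hzc, huniq, hsq, i, hiS, hw1, hw2⟩ :=
    two_group hT.isPGroup (A.subgroupOf T) (u1 := ⟨u1, hUT u1.2⟩) (u2 := ⟨u2, hUT u2.2⟩)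
      (Subtype.ext (hU2 _ u1.2)) (Subtype.ext (hU2 _ u2.2)) (Subtype.ext (hUc _ u1.2 _ u2.2))
      (fun u hu a ha b hb ha2 hb2 hab hau hbu => Subtype.ext
        (hrk u (hUmem u hu).1 (hUmem u hu).2 a ha b hb (by simpa using ha2) (by simpa using hb2)
          (congrArg Subtype.val hab) (congrArg Subtype.val hau) (congrArg Subtype.val hbu)))
      (a := ⟨_, ha'.1⟩) (b := ⟨_, hb'.1⟩) ha'.2 hb'.2
      (by rw [← ha2, Subgroup.orderOf_mk]; exact (MulAut.conj g).orderOf_eq a)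
      (by rw [← hb2, Subgroup.orderOf_mk]; exact (MulAut.conj g).orderOf_eq b)
      (fun h => hne (by simpa using congrArg Subtype.val h))
  have huU := (hUmem u hu).1
  -- Thompson transfer in `A`
  obtain ⟨g1, hg1, hg1v⟩ : ∃ g1 ∈ A, g1 * v * g1⁻¹ = z := by
    have hCA : C.map T.subtype ≤ T ⊓ A := by
      rintro _ ⟨x, hx, rfl⟩
      exact ⟨x.2, hCS hx⟩
    have hrel : ((C.map T.subtype).subgroupOf A).relIndex ((T ⊓ A).subgroupOf A) = 2 := by
      rw [Subgroup.relIndex_subgroupOf inf_le_right, ← hCi,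
        ← Subgroup.relIndex_map_map_of_injective C _ T.subtype_injective,
        Subgroup.subgroupOf_map_subtype, inf_comm]
    rcases H1.thompson_transfer_index_two (G := A) (S := (T ⊓ A).subgroupOf A) hS.not_dvd hrel
      (y := ⟨v, hvS⟩) (Subtype.ext (by
        have := hv2 ▸ pow_orderOf_eq_one v
        exact (congrArg Subtype.val this :))) ⟨v.2, hvS⟩
      (by rintro ⟨x, hx, hxv⟩; exact hvC ((Subtype.ext hxv : x = v) ▸ hx)) with ⟨M, hMn, hM2, -⟩ | ⟨g1, x, hx, hxv⟩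
    · exfalso
      have h1 : commutator A ≤ M := by
        rw [← Subgroup.Normal.quotient_commutative_iff_commutator_le]
        haveI : IsCyclic (A ⧸ M) := isCyclic_of_prime_card (p := 2) hM2
        exact inferInstance
      have h2 := L.commutator_layer (G := A)
      rw [hA] at h2
      rw [commutator_def, h2, top_le_iff] at h1
      simp [h1] at hM2
    · refine ⟨g1, g1.2, ?_⟩
      have h3 : (x : G) = g1 * v * (g1 : G)⁻¹ := hxv
      rw [← h3, huniq x hx (by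
        rw [← Subgroup.orderOf_coe, h3, ← hv2, ← Subgroup.orderOf_coe v]
        exact (MulAut.conj (g1 : G)).orderOf_eq _)]
  set w : G := u * i with hwdef
  have hwv : w * v = v * w := congrArg Subtype.val hw1
  have hwz : w ^ 2 = z := congrArg Subtype.val hw2
  have hwT : w ∈ T := T.mul_mem u.2 i.2
  have hTc : H1.IsSylowIn 2 T ((A ⊔ U) ⊓ Subgroup.centralizer {(z : G)}) :=
    hT.of_le (le_inf hT.le fun t ht => Subgroup.mem_centralizer_singleton_iff.mpr
      (congrArg Subtype.val (hzc ⟨t, ht⟩))) inf_le_left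
  obtain ⟨h, ⟨hh1, hh2⟩, hhle⟩ := hTc.exists_cj_le (Q := Subgroup.zpowers (g1 * w * g1⁻¹))
    (H1.isPGroup_zpowers (k := 2) (by
      rw [conj_pow, show 2 ^ 2 = 2 * 2 by norm_num, pow_mul, hwz, ← Subgroup.coe_pow, ← hz2,
        pow_orderOf_eq_one]; simp))
    (Subgroup.zpowers_le.mpr ⟨(A ⊔ U).mul_mem ((A ⊔ U).mul_mem (Subgroup.mem_sup_left hg1)
      (hT.le hwT)) ((A ⊔ U).inv_mem (Subgroup.mem_sup_left hg1)),
      Subgroup.mem_centralizer_singleton_iff.mpr (by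
        rw [← hg1v]
        calc g1 * w * g1⁻¹ * (g1 * v * g1⁻¹) = g1 * (w * v) * g1⁻¹ := by group
          _ = _ := by rw [hwv]; group)⟩)
  have hhz : h * z = z * h := Subgroup.mem_centralizer_singleton_iff.mp hh2
  have hw' := hhle (H1.conj_mem_cj (Subgroup.mem_zpowers _))
  have hgX : h * g1 ∈ A ⊔ U := (A ⊔ U).mul_mem hh1 (Subgroup.mem_sup_left hg1)
  have hw'' : h * g1 * w * (h * g1)⁻¹ ∈ T := by convert hw' using 1; group
  have hgv : h * g1 * v * (h * g1)⁻¹ = z := by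
    calc _ = h * (g1 * v * g1⁻¹) * h⁻¹ := by group
      _ = _ := by rw [hg1v, hhz]; group
  generalize h * g1 = k at hgX hw'' hgv
  have hkA : k * w * k⁻¹ * (u : G)⁻¹ ∈ A := by
    obtain ⟨a', ha', u', hu', rfl⟩ := (H2.mem_sup_of_le_normalizer' hUA).1 hgX
    have h1 : a' * u' * w * (a' * u')⁻¹ * (u : G)⁻¹ =
        a' * (u * ((u' * i * u'⁻¹) * a'⁻¹) * (u : G)⁻¹) := by
      rw [hwdef]
      calc _ = a' * (u' * u) * i * u'⁻¹ * a'⁻¹ * (u : G)⁻¹ := by group
        _ = _ := by rw [hUc u' hu' u huU]; group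
    rw [h1]
    exact A.mul_mem ha' (H1.conj_mem_of_mem_normalizer (hUA huU) (A.mul_mem
      (H1.conj_mem_of_mem_normalizer (hUA hu') hiS) (A.inv_mem ha')))
  have h5 := hsq (⟨_, hw''⟩ * u⁻¹) hkA
  rw [inv_mul_cancel_right] at h5
  have h6 : ((⟨_, hw''⟩ : T) ^ 2 : T) = z := huniq _ h5 (by
    rw [← Subgroup.orderOf_coe, Subgroup.coe_pow, conj_pow, hwz, ← hz2, ← Subgroup.orderOf_coe z]
    exact (MulAut.conj k).orderOf_eq _)
  have h7 : k * z * k⁻¹ = z := by
    have := congrArg Subtype.val h6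
    rwa [Subgroup.coe_pow, conj_pow, hwz] at this
  have h8 : (v : G) = z := by simpa using hgv.trans h7.symm
  have h10 : (z : T) ∈ C := h6 ▸ h5
  exact hvC ((Subtype.ext h8 : v = z) ▸ h10)

end Cfsg.Agent.S1915
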