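import Cfsg.Statements.S1914
import Cfsg.Agent.H3.Cent4c
import Cfsg.Agent.S1915
import Cfsg.Agent.S4418

set_option autoImplicit false
open Cfsg

namespace Cfsg.Agent.S1914

open Subgroup in
theorem fus {G : Type*} [Group G] [Finite G] {A H T : Subgroup G} (hA : commutator A = ⊤)
    (hAH : A ≤ H) (hHA : H ≤ normalizer (A : Set G)) (hT : H1.IsSylowIn 2 T H) (t : T)
    (huniq : ∀ a ∈ A, ∀ b ∈ A, a * a = 1 → b * b = 1 → a ≠ 1 → b ≠ 1 → a * b = b * a →
      a * t = t * a → b * t = t * b → a = b) :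
    H3.C4.Fus (A.subgroupOf T) t (fun x y : T => ∃ g ∈ H, g * x * g⁻¹ = y) := by
  haveI : Fact (Nat.Prime 2) := ⟨Nat.prime_two⟩
  have hp : ∀ (g : G) (x : T), IsPGroup 2 (zpowers (g * x * g⁻¹)) := fun g x => by
    obtain ⟨n, hn⟩ := hT.isPGroup x
    exact H1.isPGroup_zpowers (k := n) (by rw [conj_pow, ← coe_pow, hn]; simp)
  have hcomm : ∀ g x y : G, x * y = y * x → g * x * g⁻¹ * (g * y * g⁻¹) =
      g * y * g⁻¹ * (g * x * g⁻¹) := fun g x y h => by rw [conj_mul, conj_mul, h]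
  refine ⟨fun g x => ⟨g, hT.le g.2, rfl⟩, ?_, ?_, ?_, ?_, ?_, ?_, ?_, ?_, ?_⟩
  · rintro x y ⟨g, hg, h⟩
    exact ⟨g⁻¹, inv_mem hg, by rw [← h]; group⟩
  · rintro x y z ⟨g, hg, h⟩ ⟨g', hg', h'⟩
    exact ⟨g' * g, mul_mem hg' hg, by rw [← h', ← h]; group⟩
  · rintro x y ⟨g, hg, h⟩ hx
    rw [mem_subgroupOf, ← h]
    exact H1.conj_mem_of_mem_normalizer (hHA hg) hx
  · rintro x y ⟨g, hg, h⟩ hx
    apply Subtype.ext
    rw [coe_mul, ← h, conj_mul, ← coe_mul, hx]; simp
  · rintro x ⟨g, hg, h⟩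
    exact Subtype.ext (by simpa using h)
  · intro φ x y hx hy hxy h1
    by_contra h2
    push Not at h2
    let φ' := φ.comp (subgroupOfEquivOfLe hT.le).toMonoidHom
    have key : ∀ (x : T) (e : ℤˣ), x * x = 1 → (∀ x' : T, (∃ g ∈ H, g * x * g⁻¹ = x') → φ x' = e) →
        φ'.transfer ⟨x, hT.le x.2⟩ = e ^ (T.subgroupOf H).index := fun x e hx h => by
      have hx2 : (⟨x, hT.le x.2⟩ : H) ^ 2 = 1 := Subtype.ext (by
        have := congrArg Subtype.val hx
        simpa [sq] using this)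
      exact H1.transfer_eq_pow_of_extremal (p := 2) φ' hx2
        (H1.isPGroup_zpowers (k := 1) (by simpa using hx2)) (mem_zpowers _)
        (by rintro _ ⟨n, rfl⟩; exact ((Commute.refl _).zpow_left n).eq) (Int.units_sq e)
        fun g _ hg => h _ ⟨g⁻¹, inv_mem g.2, by simp⟩
    have k1 := key x 1 hx h1
    have k2 := key y (-1) hy fun y' hy' => (Int.units_eq_one_or _).resolve_left (h2 y' hy')
    have k3 : (φ'.transfer.comp (inclusion hAH)) ⟨_, hxy⟩ = 1 :=
      Abelianization.commutator_subset_ker _ (hA ▸ mem_top _)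
    rw [(show Odd (T.subgroupOf H).index from
      Nat.not_even_iff_odd.mp fun h => hT.not_dvd h.two_dvd).neg_one_pow] at k2
    rw [one_pow] at k1
    have k4 : φ'.transfer ((⟨x, hT.le x.2⟩ : H)⁻¹ * ⟨y, hT.le y.2⟩) = 1 := k3
    rw [map_mul, map_inv, k1, k2] at k4
    simp at k4
  · rintro t' ⟨g, hg, h⟩ a ha b hb haa hbb ha1 hb1 hab hat hbt
    have h1 : (t : G) = g⁻¹ * t' * g⁻¹⁻¹ := by rw [← h]; group
    have := huniq (g⁻¹ * a * g⁻¹⁻¹) (H1.conj_mem_of_mem_normalizer (inv_mem (hHA hg)) ha)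
      (g⁻¹ * b * g⁻¹⁻¹) (H1.conj_mem_of_mem_normalizer (inv_mem (hHA hg)) hb)
      (by rw [conj_mul, ← coe_mul, haa]; simp) (by rw [conj_mul, ← coe_mul, hbb]; simp)
      (by rw [Ne, conj_eq_one_iff]; simpa using ha1) (by rw [Ne, conj_eq_one_iff]; simpa using hb1)
      (hcomm _ _ _ (congrArg Subtype.val hab))
      (h1 ▸ hcomm _ _ _ (congrArg Subtype.val hat)) (h1 ▸ hcomm _ _ _ (congrArg Subtype.val hbt))
    exact Subtype.ext (by simpa using this)
  · rintro u z f hz ⟨g, hg, h⟩ hf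
    have hTc : H1.IsSylowIn 2 T (H ⊓ centralizer {(z : G)}) :=
      hT.of_le (le_inf hT.le fun t ht => mem_centralizer_singleton_iff.mpr
        (congrArg Subtype.val (hz ⟨t, ht⟩))) inf_le_left
    obtain ⟨c, ⟨hc1, hc2⟩, hle⟩ := hTc.exists_cj_le (hp g f) (zpowers_le.mpr
      ⟨H.mul_mem (H.mul_mem hg (hT.le f.2)) (H.inv_mem hg), mem_centralizer_singleton_iff.mpr
        (h ▸ hcomm _ _ _ (congrArg Subtype.val hf))⟩)
    have hcz : c * z = z * c := mem_centralizer_singleton_iff.mp hc2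
    have h1 : c * g * (f * f : T) * (c * g)⁻¹ =
        c * (g * f * g⁻¹) * c⁻¹ * (c * (g * f * g⁻¹) * c⁻¹) := by rw [coe_mul]; group
    refine ⟨⟨_, hle (H1.conj_mem_cj (mem_zpowers _))⟩, ⟨c * g, mul_mem hc1 hg, h1⟩, fun h2 => ?_⟩
    have h3 := h1.trans (congrArg Subtype.val h2)
    have h4 : c * g * u * (c * g)⁻¹ = z := by
      calc _ = c * (g * u * g⁻¹) * c⁻¹ := by group
        _ = _ := by rw [h, hcz]; group
    exact Subtype.ext (by simpa using h3.trans h4.symm)
  · rintro w u z y hu huc hz hzc hy hyw ⟨g, hg, h⟩ hiso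
    have hS := hT.inf_of_normal hAH hHA
    have hwz : (w : G) * z = z * w := congrArg Subtype.val (hzc w)
    have hSc : H1.IsSylowIn 2 (T ⊓ A) (A ⊓ centralizer {(u : G)}) :=
      hS.of_le (le_inf inf_le_right fun x hx => mem_centralizer_singleton_iff.mpr
        (congrArg Subtype.val (huc ⟨x, hx.1⟩ hx.2))) inf_le_left
    obtain ⟨c, ⟨hc1, hc2⟩, hle⟩ := hSc.exists_cj_le (hp g z) (zpowers_le.mpr
      ⟨H1.conj_mem_of_mem_normalizer (hHA hg) hz, mem_centralizer_singleton_iff.mpr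
        (h ▸ hcomm _ _ _ hwz.symm)⟩)
    have hcu : c * u = u * c := mem_centralizer_singleton_iff.mp hc2
    have h1 : c * g * z * (c * g)⁻¹ = z := Eq.trans (by group) (congrArg Subtype.val
      (hiso ⟨_, (hle (H1.conj_mem_cj (mem_zpowers _))).1⟩ ⟨c * g, mul_mem (hAH hc1) hg, by group⟩))
    have h2 : c * g * w * (c * g)⁻¹ = u := by
      calc _ = c * (g * w * g⁻¹) * c⁻¹ := by group
        _ = _ := by rw [h, hcu]; group
    have hgH : c * g ∈ H := mul_mem (hAH hc1) hg
    generalize c * g = d at h1 h2 hgH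
    have h3 : d * y * d⁻¹ * u * (d * y * d⁻¹)⁻¹ = u * z := by
      have := congrArg Subtype.val hyw
      simp only [coe_mul, coe_inv] at this
      calc _ = d * (y * w * (y : G)⁻¹) * d⁻¹ := by rw [← h2]; group
        _ = _ := by rw [this, ← conj_mul, h1, h2]
    have h4 : d * y * d⁻¹ * z = z * (d * y * d⁻¹) := by
      have := hcomm d _ _ (congrArg Subtype.val (hzc y))
      rwa [h1] at this
    have hn : ∀ x : G, x * z = z * x → x ∈ normalizer (zpowers (z : G) : Set G) := fun x hx =>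
      centralizer_le_normalizer _ (by
        rintro _ ⟨i, rfl⟩
        exact ((Commute.zpow_right hx i).eq).symm)
    have hSL : H1.IsSylowIn 2 (T ⊓ A) (A ⊓ H3.C4.Zm (zpowers (z : G)) u) :=
      hS.of_le (le_inf inf_le_right fun x hx => H3.C4.mem_Zm_of_comm
        (hn x (congrArg Subtype.val (hzc ⟨x, hx.1⟩)))
        (congrArg Subtype.val (huc ⟨x, hx.1⟩ hx.2))) inf_le_left
    obtain ⟨n, ⟨-, hn2⟩, hle⟩ := hSL.exists_cj_le (hp d y) (zpowers_le.mpr
      ⟨H1.conj_mem_of_mem_normalizer (hHA hgH) hy, hn _ h4, by rw [h3]; simp⟩)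
    have h5 := hle (H1.conj_mem_cj (mem_zpowers _))
    have h6 : n * (d * y * d⁻¹) * n⁻¹ * u = u * (n * (d * y * d⁻¹) * n⁻¹) :=
      congrArg Subtype.val (huc ⟨_, h5.1⟩ h5.2)
    generalize d * y * d⁻¹ = e at h3 h4 h6
    obtain ⟨i, hi⟩ := ((H3.C4.Zm (zpowers (z : G)) u).inv_mem hn2).2
    have h7 : e * (z : G) ^ i = (z : G) ^ i * e := (Commute.zpow_right h4 i).eq
    simp only at hi
    have h8 : e * (u * (z : G) ^ i) = u * (z : G) ^ i * e := by
      rw [hi]
      calc _ = n⁻¹ * (n * e * n⁻¹ * u) * n := by group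
        _ = _ := by rw [h6]; group
    rw [mul_assoc, ← h7, ← mul_assoc, ← mul_assoc, mul_left_inj] at h8
    rw [h8, mul_inv_cancel_right, left_eq_mul] at h3
    exact Subtype.ext h3

/-- Let A be a semisimple subgroup (a central product of quasisimple groups, A = E(A)) of a finite group and t an involution normalizing A such that the Sylow 2-subgroups of C_A(t) are cyclic of order 4. Then A has 2-rank exactly 1. -/
theorem result {G : Type*} [Group G] [Finite G] (A : Subgroup G) (hA : Cfsg.layer ↥A = ⊤)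
    (t : G) (ht : orderOf t = 2) (htA : t ∈ Subgroup.normalizer (A : Set G))
    (hC : ∀ R : Sylow 2 ↥(A ⊓ Subgroup.centralizer ({t} : Set G)), IsCyclic R ∧ Nat.card R = 4) :
    Cfsg.PRankLE 2 1 A ∧ ¬ Cfsg.PRankLE 2 0 A := by
  haveI : Fact (Nat.Prime 2) := ⟨Nat.prime_two⟩
  have hP : ∀ P : Subgroup G, IsPGroup 2 P → P ≤ A ⊓ Subgroup.centralizer {t} →
      IsCyclic P ∧ Nat.card P ≤ 4 := fun P hP hle => by
    obtain ⟨R, hPR, hR⟩ := H1.exists_isSylowIn_ge hP hle
    obtain ⟨h1, h2⟩ := hC hR.toSylow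
    have e := Subgroup.subgroupOfEquivOfLe hR.le
    haveI : IsCyclic (R.subgroupOf (A ⊓ Subgroup.centralizer {t})) := h1
    haveI : IsCyclic R := isCyclic_of_surjective e e.surjective
    exact ⟨Subgroup.isCyclic_of_le hPR, (Subgroup.card_le_of_le hPR).trans
      ((Nat.card_congr e.toEquiv).symm.trans h2).le⟩
  obtain ⟨r, hrA, hrt, hr4⟩ : ∃ r ∈ A, r * t = t * r ∧ orderOf r = 4 := by
    obtain ⟨R⟩ : Nonempty (Sylow 2 ↥(A ⊓ Subgroup.centralizer ({t} : Set G))) := inferInstance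
    obtain ⟨h1, h2⟩ := hC R
    obtain ⟨r, hr⟩ := isCyclic_iff_exists_orderOf_eq_natCard.mp h1
    exact ⟨r.1.1, r.1.2.1, Subgroup.mem_centralizer_singleton_iff.mp r.1.2.2, by
      rw [Subgroup.orderOf_coe, Subgroup.orderOf_coe, hr, h2]⟩
  have hjoin : ∀ a b : G, a * b = b * a → IsPGroup 2 (Subgroup.zpowers a) →
      IsPGroup 2 (Subgroup.zpowers b) → IsPGroup 2 ↥(Subgroup.zpowers a ⊔ Subgroup.zpowers b) :=
    fun a b hab ha hb => ha.to_sup_of_normal_right' hb
      (Subgroup.zpowers_le.mpr (Subgroup.centralizer_le_normalizer _ (by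
        rintro _ ⟨i, rfl⟩
        exact ((Commute.zpow_right hab i).eq).symm)))
  have hinv : ∀ a : G, a * a = 1 → IsPGroup 2 (Subgroup.zpowers a) := fun a ha =>
    H1.isPGroup_zpowers (k := 1) (by simpa [sq] using ha)
  have huniq : ∀ a ∈ A, ∀ b ∈ A, a * a = 1 → b * b = 1 → a ≠ 1 → b ≠ 1 → a * b = b * a →
      a * t = t * a → b * t = t * b → a = b := fun a ha b hb haa hbb ha1 hb1 hab hat hbt => by
    haveI := (hP _ (hjoin a b hab (hinv a haa) (hinv b hbb)) (sup_le
      (Subgroup.zpowers_le.mpr ⟨ha, Subgroup.mem_centralizer_singleton_iff.mpr hat⟩)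
      (Subgroup.zpowers_le.mpr ⟨hb, Subgroup.mem_centralizer_singleton_iff.mpr hbt⟩))).1
    exact congrArg Subtype.val (H1.eq_of_sq_eq_one_of_isCyclic
      (A := ↥(Subgroup.zpowers a ⊔ Subgroup.zpowers b))
      (a := ⟨a, Subgroup.mem_sup_left (Subgroup.mem_zpowers a)⟩)
      (b := ⟨b, Subgroup.mem_sup_right (Subgroup.mem_zpowers b)⟩)
      (Subtype.ext (by simpa [sq] using haa)) (Subtype.ext (by simpa [sq] using hbb))
      (fun h => ha1 (congrArg Subtype.val h)) (fun h => hb1 (congrArg Subtype.val h)))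
  have htt : t * t = 1 := (sq t).symm.trans (ht ▸ pow_orderOf_eq_one t)
  have ht1 : t ≠ 1 := fun h => by simp [h] at ht
  have hr2 : orderOf (r ^ 2) = 2 := by rw [orderOf_pow' r two_ne_zero, hr4]; norm_num
  refine ⟨?_, fun h => ?_⟩
  swap
  · have := h (Subgroup.zpowers (⟨r ^ 2, pow_mem hrA 2⟩ : A)) inferInstance (by
      rintro _ ⟨i, rfl⟩
      have : (⟨r ^ 2, pow_mem hrA 2⟩ : A) ^ 2 = 1 := Subtype.ext (by
        have := pow_orderOf_eq_one (r ^ 2)
        rwa [hr2] at this)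
      simp only
      rw [← zpow_natCast, ← zpow_mul, mul_comm, zpow_mul, zpow_natCast, this, one_zpow])
    rw [Nat.card_zpowers, Subgroup.orderOf_mk, hr2] at this
    omega
  suffices main : ∀ a ∈ A, ∀ b ∈ A, a * a = 1 → b * b = 1 → a ≠ 1 → b ≠ 1 → a * b = b * a →
      a = b by
    intro E hE hE2
    have hsq : ∀ x : A, orderOf x = 2 → (x : G) * x = 1 ∧ (x : G) ≠ 1 := fun x hx =>
      ⟨congrArg Subtype.val ((sq x).symm.trans (hx ▸ pow_orderOf_eq_one x)),
        fun h => by rw [(Subtype.ext h : x = 1)] at hx; simp at hx⟩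
    exact H2.card_le_two_of_uniqInv (fun x y hx hy hxy => Subtype.ext
      (main x x.2 y y.2 (hsq x hx).1 (hsq y hy).1 (hsq x hx).2 (hsq y hy).2
        (congrArg Subtype.val hxy))) hE hE2
  intro a ha b hb haa hbb ha1 hb1 hab
  have hred : ∀ S : Subgroup G, H1.IsSylowIn 2 S A → (∀ a ∈ S, ∀ b ∈ S, a * a = 1 → b * b = 1 →
      a ≠ 1 → b ≠ 1 → a * b = b * a → a = b) → a = b := fun S hS h => by
    obtain ⟨g, hg, hgle⟩ := hS.exists_cj_le (hjoin a b hab (hinv a haa) (hinv b hbb))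
      (sup_le (Subgroup.zpowers_le.mpr ha) (Subgroup.zpowers_le.mpr hb))
    have := h _ (hgle (H1.conj_mem_cj (Subgroup.mem_sup_left (Subgroup.mem_zpowers a))))
      _ (hgle (H1.conj_mem_cj (Subgroup.mem_sup_right (Subgroup.mem_zpowers b))))
      (by rw [conj_mul, haa]; simp) (by rw [conj_mul, hbb]; simp) (by simpa using ha1)
      (by simpa using hb1) (by rw [conj_mul, conj_mul, hab])
    simpa using this
  by_cases htA' : t ∈ A
  · obtain ⟨S, htS, hS⟩ := H1.exists_isSylowIn_ge (hinv t htt) (Subgroup.zpowers_le.mpr htA')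
    have htS' : t ∈ S := htS (Subgroup.mem_zpowers t)
    haveI : Nontrivial S := ⟨⟨t, htS'⟩, 1, fun h => ht1 (congrArg Subtype.val h)⟩
    haveI := hS.isPGroup.center_nontrivial
    obtain ⟨z, hz⟩ := exists_prime_orderOf_dvd_card' (G := Subgroup.center S) 2 (by
      obtain ⟨n, hn, h⟩ := (hS.isPGroup.to_subgroup (Subgroup.center S)).nontrivial_iff_card.mp
        inferInstance
      rw [h]; exact dvd_pow_self 2 hn.ne')
    have hzc : ∀ x ∈ S, x * z.1.1 = z.1.1 * x := fun x hx =>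
      congrArg Subtype.val (Subgroup.mem_center_iff.mp z.2 ⟨x, hx⟩)
    have hzt : z.1.1 = t := huniq _ (hS.le z.1.2) t htA'
      (congrArg (fun x : Subgroup.center S => x.1.1) ((sq z).symm.trans (hz ▸ pow_orderOf_eq_one z)))
      htt (fun h => by rw [(Subtype.ext (Subtype.ext h) : z = 1)] at hz; simp at hz) ht1
      (hzc t htS').symm (hzc t htS').symm rfl
    rw [hzt] at hzc
    exact hred S hS fun a ha b hb haa hbb ha1 hb1 hab =>
      huniq a (hS.le ha) b (hS.le hb) haa hbb ha1 hb1 hab (hzc a ha) (hzc b hb)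
  have hHA : A ⊔ Subgroup.zpowers t ≤ Subgroup.normalizer (A : Set G) :=
    sup_le Subgroup.le_normalizer (Subgroup.zpowers_le.mpr htA)
  have hrp : IsPGroup 2 (Subgroup.zpowers r) :=
    H1.isPGroup_zpowers (k := 2) (by simpa [hr4] using pow_orderOf_eq_one r)
  obtain ⟨T, hle, hT⟩ := H1.exists_isSylowIn_ge (hjoin r t hrt hrp (hinv t htt))
    (sup_le_sup_right (Subgroup.zpowers_le.mpr hrA) _)
  have hrT : r ∈ T := hle (Subgroup.mem_sup_left (Subgroup.mem_zpowers r))
  have htT : t ∈ T := hle (Subgroup.mem_sup_right (Subgroup.mem_zpowers t))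
  have hS := hT.inf_of_normal le_sup_left hHA
  have hcomm : commutator A = ⊤ := by
    have h2 := L.commutator_layer (G := A)
    rwa [hA] at h2
  have H : H3.C4.Hyp (A.subgroupOf T) ⟨t, htT⟩ ⟨r, hrT⟩ := by
    refine ⟨hT.isPGroup, Subgroup.normal_subgroupOf_of_le_normalizer (hT.le.trans hHA),
      Subtype.ext htt, htA', fun x => ?_, hrA, by rw [Subgroup.orderOf_mk, hr4], Subtype.ext hrt,
      fun x hx hxt => ?_⟩
    · obtain ⟨a, ha, _, ⟨i, rfl⟩, h⟩ := (H2.mem_sup_of_le_normalizer'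
        (Subgroup.zpowers_le.mpr htA)).1 (hT.le x.2)
      simp only [Subgroup.mem_subgroupOf, Subgroup.coe_mul, ← h]
      rcases Int.even_or_odd' i with ⟨m, rfl | rfl⟩
      · left
        rw [zpow_mul, zpow_two, htt, one_zpow, mul_one]; exact ha
      · right
        rw [zpow_add_one, zpow_mul, zpow_two, htt, one_zpow, one_mul, mul_assoc, htt, mul_one]
        exact ha
    · have h1 := (hP (T ⊓ (A ⊓ Subgroup.centralizer {t})) hT.isPGroup.to_inf_left inf_le_right).2
      have h2 : Subgroup.zpowers r = T ⊓ (A ⊓ Subgroup.centralizer {t}) :=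
        Subgroup.eq_of_le_of_card_ge (Subgroup.zpowers_le.mpr
          ⟨hrT, hrA, Subgroup.mem_centralizer_singleton_iff.mpr hrt⟩)
          (by rwa [Nat.card_zpowers, hr4])
      obtain ⟨i, hi⟩ : (x : G) ∈ Subgroup.zpowers r := h2 ▸
        ⟨x.2, hx, Subgroup.mem_centralizer_singleton_iff.mpr (congrArg Subtype.val hxt)⟩
      exact ⟨i, Subtype.ext (by simpa using hi)⟩
  have hcore := fun (a : T) ha haa => H3.C4.core (a := a) H
    (fus hcomm le_sup_left hHA hT ⟨t, htT⟩ huniq) (fun k hk s hs hn hgen => by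
      by_contra hss
      let P := hS.toSylow
      let j : ↥(P : Subgroup A) →* T :=
        (A.subtype.comp (P : Subgroup A).subtype).codRestrict T fun x => x.2.1
      have hj : Function.Injective j := fun x y h =>
        Subtype.ext (Subtype.ext (congrArg (fun x : T => (x : G)) h))
      let N := (Subgroup.zpowers k).comap j
      haveI : N.Normal := hn.comap j
      let s' : ↥(P : Subgroup A) := ⟨⟨s, hs⟩, s.2, hs⟩
      have h1 : IsCyclic N := isCyclic_of_injective
        ((j.comp N.subtype).codRestrict (Subgroup.zpowers k) fun x => x.2)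
        fun x y h => Subtype.ext (hj (congrArg Subtype.val h))
      have h2 : IsCyclic (↥(P : Subgroup A) ⧸ N) := ⟨⟨(s' : ↥(P : Subgroup A) ⧸ N), fun q => by
        obtain ⟨x, rfl⟩ := QuotientGroup.mk_surjective q
        obtain ⟨i, hi⟩ := hgen (j x) x.1.2
        refine ⟨i, ?_⟩
        simp only [zpow_natCast]
        rw [← QuotientGroup.mk_pow, eq_comm, ← mul_inv_eq_one, ← QuotientGroup.mk_inv,
          ← QuotientGroup.mk_mul, QuotientGroup.eq_one_iff]
        exact hi⟩⟩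
      have h3 : 2 < Nat.card (↥(P : Subgroup A) ⧸ N) := by
        by_contra h3
        have h4 : orderOf (s' : ↥(P : Subgroup A) ⧸ N) ∣ 2 := by
          have h5 := orderOf_le_card (x := (s' : ↥(P : Subgroup A) ⧸ N))
          have h6 := orderOf_pos (s' : ↥(P : Subgroup A) ⧸ N)
          generalize orderOf (s' : ↥(P : Subgroup A) ⧸ N) = n at h5 h6
          obtain rfl | rfl : n = 1 ∨ n = 2 := by omega
          all_goals norm_num
        rw [orderOf_dvd_iff_pow_eq_one, ← QuotientGroup.mk_pow, QuotientGroup.eq_one_iff, sq] at h4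
        exact hss h4
      haveI := S4418.result P N h1 h2 h3
      have h4 := (L.layer_eq_bot_of_solvable (G := A)).symm.trans hA
      have h5 : (⟨r ^ 2, pow_mem hrA 2⟩ : A) ∈ (⊥ : Subgroup A) := h4 ▸ Subgroup.mem_top _
      have h6 : r ^ 2 = 1 := congrArg Subtype.val (Subgroup.mem_bot.mp h5)
      simp [h6] at hr2) ha haa
  exact hred _ hS fun a ha b hb haa hbb ha1 hb1 _ => congrArg Subtype.val
    (((hcore ⟨a, ha.1⟩ ha.2 (Subtype.ext haa)).resolve_left
      fun h => ha1 (congrArg Subtype.val h)).trans ((hcore ⟨b, hb.1⟩ hb.2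
        (Subtype.ext hbb)).resolve_left fun h => hb1 (congrArg Subtype.val h)).symm)

end Cfsg.Agent.S1914
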