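import Cfsg.Statements.S1916
import Cfsg.Agent.H8.DS5

set_option autoImplicit false
open Cfsg

namespace Cfsg.Agent.S1916

/-- Let L be a non-abelian simple subgroup of a finite group with dihedral Sylow 2-subgroups, and a, b two distinct commuting involutions normalizing L such that C_L(a) and C_L(b) have cyclic Sylow 2-subgroups and L is not contained in the subgroup generated by a, b, C_L(a) and C_L(b). Then ab centralizes L. -/
theorem result {G : Type*} [Group G] [Finite G] (L : Subgroup G) (hL : IsSimpleGroup L) (hLn : ¬ IsMulCommutative L)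
    (hD : ∀ P : Sylow 2 L, ∃ n : ℕ, Nonempty (↥(P : Subgroup L) ≃* DihedralGroup n))
    (a b : G) (ha : orderOf a = 2) (hb : orderOf b = 2) (hab : a ≠ b) (hc : a * b = b * a)
    (haL : a ∈ Subgroup.normalizer (L : Set G)) (hbL : b ∈ Subgroup.normalizer (L : Set G))
    (hCa : ∀ R : Sylow 2 ↥(L ⊓ Subgroup.centralizer ({a} : Set G)), IsCyclic R)
    (hCb : ∀ R : Sylow 2 ↥(L ⊓ Subgroup.centralizer ({b} : Set G)), IsCyclic R)
    (hgen : ¬ L ≤ Subgroup.closure ({a, b} : Set G) ⊔ (L ⊓ Subgroup.centralizer ({a} : Set G)) ⊔ (L ⊓ Subgroup.centralizer ({b} : Set G))) :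
    a * b ∈ Subgroup.centralizer (L : Set G) := by
  have : Fact (Nat.Prime 2) := ⟨Nat.prime_two⟩
  have haa := H3.mul_self_of_orderOf_two ha
  have hbb := H3.mul_self_of_orderOf_two hb
  have hai : a⁻¹ = a := H3.inv_eq_of_orderOf_two ha
  have hcab : Commute a b := hc
  have uqa : ∀ v ∈ L, ∀ w ∈ L, orderOf v = 2 → orderOf w = 2 → Commute v a → Commute w a →
      Commute v w → v = w := fun v hv w hw hv2 hw2 hva hwa hvw =>
    H8.DS.uq_of_cyclic hCa ⟨hv, Subgroup.mem_centralizer_singleton_iff.2 hva.eq⟩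
      ⟨hw, Subgroup.mem_centralizer_singleton_iff.2 hwa.eq⟩ hv2 hw2 hvw
  have uqb : ∀ v ∈ L, ∀ w ∈ L, orderOf v = 2 → orderOf w = 2 → Commute v b → Commute w b →
      Commute v w → v = w := fun v hv w hw hv2 hw2 hva hwa hvw =>
    H8.DS.uq_of_cyclic hCb ⟨hv, Subgroup.mem_centralizer_singleton_iff.2 hva.eq⟩
      ⟨hw, Subgroup.mem_centralizer_singleton_iff.2 hwa.eq⟩ hv2 hw2 hvw
  obtain ⟨U, hU⟩ : ∃ U, U = Subgroup.closure ({a, b} : Set G) := ⟨_, rfl⟩
  rw [← hU] at hgen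
  have haU : a ∈ U := hU ▸ Subgroup.subset_closure (by simp)
  have hbU : b ∈ U := hU ▸ Subgroup.subset_closure (by simp)
  have hUle : ∀ K : Subgroup G, a ∈ K → b ∈ K → U ≤ K := fun K h1 h2 => by
    rw [hU, Subgroup.closure_le]; rintro x (rfl | rfl); exacts [h1, h2]
  have hUc : ∀ x, Commute x a → Commute x b → ∀ w ∈ U, Commute x w := fun x h1 h2 w hw =>
    Commute.symm (Subgroup.mem_centralizer_singleton_iff.1 (hUle (Subgroup.centralizer {x})
      (Subgroup.mem_centralizer_singleton_iff.2 h1.symm.eq)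
      (Subgroup.mem_centralizer_singleton_iff.2 h2.symm.eq) hw))
  have hUU : ∀ w ∈ U, ∀ w' ∈ U, Commute w w' := fun w hw =>
    hUc w (hUc a (Commute.refl a) hcab w hw).symm (hUc b hcab.symm (Commute.refl b) w hw).symm
  have hUL := hUle _ haL hbL
  have hHL : L ⊔ U ≤ Subgroup.normalizer (L : Set G) := sup_le Subgroup.le_normalizer hUL
  have hab' : ∀ g ∈ L ⊔ U, ∀ c ∈ L ⊔ U, g * c * g⁻¹ * c⁻¹ ∈ L := by
    intro g hg c hc
    obtain ⟨l, hl, w, hw, rfl⟩ := (H1.mem_sup_iff_of_le_normalizer' hUL).1 hg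
    obtain ⟨l', hl', w', hw', rfl⟩ := (H1.mem_sup_iff_of_le_normalizer' hUL).1 hc
    have e : l * w * (l' * w') * (l * w)⁻¹ * (l' * w')⁻¹ =
        l * (w * l' * w⁻¹) * (w * w' * w⁻¹) * l⁻¹ * w'⁻¹ * l'⁻¹ := by group
    rw [e, (hUU w hw w' hw').eq, mul_inv_cancel_right, mul_assoc _ w', mul_assoc _ (w' * _)]
    exact L.mul_mem (L.mul_mem (L.mul_mem hl (H1.conj_mem_of_mem_normalizer (hUL hw) hl'))
      (H1.conj_mem_of_mem_normalizer (hUL hw') (L.inv_mem hl))) (L.inv_mem hl')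
  obtain ⟨P, hUP, hP⟩ := H1.exists_isSylowIn_ge
    (hU ▸ H3.isPGroup_closure_pair_of_commute haa hbb hcab : IsPGroup 2 U) (le_sup_right (a := L))
  have hS : H1.IsSylowIn 2 (P ⊓ L) L := hP.inf_of_normal le_sup_left hHL
  have haP := hUP haU
  have hbP := hUP hbU
  have hPc : ∀ x, (∀ y ∈ P ⊓ L, Commute x y) → Commute x a → Commute x b →
      ∀ p ∈ P, Commute x p := by
    intro x h1 h2 h3 p hp
    obtain ⟨l, hl, w, hw, rfl⟩ := (H1.mem_sup_iff_of_le_normalizer' hUL).1 (hP.le hp)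
    exact (h1 l ⟨(P.mul_mem_cancel_right (hUP hw)).1 hp, hl⟩).mul_right (hUc x h2 h3 w hw)
  have hnS : ∀ d ∈ P, d ∈ Subgroup.normalizer ((P ⊓ L : Subgroup G) : Set G) := fun d hd =>
    H1.normalizer_inf_le _ _ ⟨Subgroup.le_normalizer hd, hHL (hP.le hd)⟩
  obtain ⟨r0, s0, k, hD0⟩ := H8.DS.exists_dih hL hLn hD hS
  obtain ⟨r, s1, hD1, i1, hi1⟩ := hD0.exists_invariant haa (hnS a haP)
  have hza : Commute (r ^ 2 ^ k) a := (hD1.conj_z hi1).symm
  have hzS := hD1.z_mem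
  have hzb : Commute (r ^ 2 ^ k) b := by
    have h1 := H1.conj_mem_of_mem_normalizer (hnS b hbP) hzS
    have h2 : Commute (b * r ^ 2 ^ k * b⁻¹) a := by
      have := (H8.DS.commute_conj_iff (g := b)).2 hza
      rwa [← hc, mul_inv_cancel_right] at this
    exact Commute.symm (mul_inv_eq_iff_eq_mul.1 (uqa _ h1.2 _ hzS.2
      (by rw [H3.orderOf_conj, hD1.orderOf_z]) hD1.orderOf_z h2 hza (hD1.z_comm h1).symm))
  have hzc := hPc _ (fun y hy => hD1.z_comm hy) hza hzb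
  obtain ⟨s, hD2, hfus⟩ : ∃ s, H8.DS.Dih (P ⊓ L) r s k ∧ ∃ g ∈ L, g * s * g⁻¹ = r ^ 2 ^ k := by
    by_contra hcon
    push Not at hcon
    refine H8.DS.not_central hL hLn hzS.2 hD1.z_ne (H8.DS.zstar_in hL le_rfl Subgroup.le_normalizer
      hzS.2 hD1.orderOf_z hS hzS hD1.orderOf_z fun g hg hgz => ?_)
    obtain ⟨i, hi | hi⟩ := (hD1.mem _).1 hgz
    · have h2 : orderOf (r ^ i) = 2 := by rw [← hi, H3.orderOf_conj, hD1.orderOf_z]
      rcases hD1.rot_inv (H3.mul_self_of_orderOf_two h2) with h3 | h3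
      · exact absurd h3 (H3.ne_one_of_orderOf_two h2)
      · exact hi.trans h3
    · exact absurd (by rw [← hi]; group) (hcon _ (hD1.shift i) g⁻¹ (L.inv_mem hg))
  have A : H8.DS.Amb L (L ⊔ U) P (P ⊓ L) r s k :=
    ⟨hL, le_sup_left, hHL, hP, fun _ => Iff.rfl, hab', hD2, hzc, hfus⟩
  obtain ⟨har, j, hj, has⟩ := A.swap haP haa uqa
  obtain ⟨hbr, j', hj', hbs⟩ := A.swap hbP hbb uqb
  have hrot : ∀ i : ℤ, a * r ^ i * a⁻¹ = r ^ (-i) := H3.conj_zpow_of_inverts har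
  obtain ⟨m, hm⟩ := hD2.mem_zpowers_odd hj
  have hss := hD2.aa
  have hsL := hD2.a_mem.2
  have haL' : a ∉ L := by
    intro h
    have h1 := uqa a h _ hzS.2 ha hD2.orderOf_z (Commute.refl a) hza hza.symm
    have h2 : r ^ j = 1 := by
      have h3 := (hD2.z_comm hD2.a_mem).eq
      rw [← h1] at h3
      rw [h3, mul_inv_cancel_right] at has
      simpa using has
    apply hD2.z_ne
    rw [← hm, h2]; simp
  -- the element `t = a b` is central in `P`
  have htt : a * b * (a * b) = 1 := by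
    rw [mul_assoc, ← mul_assoc b, ← hc, mul_assoc, hbb, mul_one, haa]
  have ht2 : orderOf (a * b) = 2 := H3.orderOf_two_of_mul_self htt fun h =>
    hab (by rw [← hai]; exact (eq_inv_of_mul_eq_one_right h).symm)
  have htr : a * b * r * (a * b)⁻¹ = r := by
    calc a * b * r * (a * b)⁻¹ = a * (b * r * b⁻¹) * a⁻¹ := by group
      _ = (a * r * a⁻¹)⁻¹ := by rw [hbr]; group
      _ = r := by rw [har, inv_inv]
  have hts : Commute (a * b) s := by
    obtain ⟨n, hn⟩ : Even (j - j') := hj.sub_odd hj'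
    have h1 : a * b * s * (a * b)⁻¹ = r ^ (2 * n) * s := by
      calc a * b * s * (a * b)⁻¹ = a * (b * s * b⁻¹) * a⁻¹ := by group
        _ = (a * r ^ j' * a⁻¹) * (a * s * a⁻¹) := by rw [hbs]; group
        _ = _ := by rw [hrot, has, two_mul, ← hn]; group
    have h2 := A.even_case (P.mul_mem haP hbP) htt (i := 1) (by simpa using htr) h1
    rw [← conj_zpow, htr] at h2
    rw [two_mul, zpow_add] at h1
    nth_rewrite 1 [h2] at h1
    exact mul_inv_eq_iff_eq_mul.1 (by simpa using h1)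
  have htc : ∀ p ∈ P, Commute (a * b) p := by
    refine hPc _ (fun y hy => ?_) ((Commute.refl a).mul_left hcab.symm)
      (hcab.mul_left (Commute.refl b))
    have h1 : Commute (a * b) r := mul_inv_eq_iff_eq_mul.1 htr
    obtain ⟨i, rfl | rfl⟩ := (hD2.mem y).1 hy
    · exact h1.zpow_right i
    · exact (h1.zpow_right i).mul_right hts
  have hasP : a * s ∈ P := P.mul_mem haP hD2.a_mem.1
  have hrefl : ∀ i i' : ℤ, ∃ p ∈ P, p * (r ^ i * s) * p⁻¹ = r ^ i' * s := by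
    have h0 : ∀ i i' : ℤ, Even (i' - i) → ∃ p ∈ P, p * (r ^ i * s) * p⁻¹ = r ^ i' * s := by
      rintro i i' ⟨n, hn⟩
      exact ⟨r ^ n, (hD2.rot_mem n).1, by rw [hD2.conj_refl, show i + 2 * n = i' by omega]⟩
    intro i i'
    rcases Int.even_or_odd (i' - i) with h | h
    · exact h0 i i' h
    · obtain ⟨p, hp, e⟩ := h0 (-i + j) i' (by
        obtain ⟨x, hx⟩ := h
        obtain ⟨y, hy⟩ := hj
        exact ⟨x + i - y, by omega⟩)
      refine ⟨p * a, P.mul_mem hp haP, ?_⟩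
      rw [← e, zpow_add, ← hrot, mul_assoc (a * r ^ i * a⁻¹), ← has]; group
  rcases A.isolated (fun v hv hv2 hvc => uqa v hv.2 _ hzS.2 hv2 hD2.orderOf_z (hvc a haP) hza
    (hvc _ hzS.1)) hrefl (P.mul_mem haP hbP) ht2 htc with h | hzt
  · exact h
  exfalso
  apply hgen
  -- the core case
  have hH1 : ∀ x ∈ L ⊔ Subgroup.zpowers a, x ∈ L ∨ x * a ∈ L := by
    intro x hx
    obtain ⟨l, hl, w, hw, rfl⟩ :=
      (H1.mem_sup_iff_of_le_normalizer' (Subgroup.zpowers_le.2 haL)).1 hx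
    obtain ⟨i, rfl⟩ := Subgroup.mem_zpowers_iff.1 hw
    rcases H2.zpow_eq_one_or_self (show a ^ 2 = 1 by rwa [pow_two]) i with h | h
    · left; simpa [h] using hl
    · right; simpa [h, mul_assoc, haa] using hl
  have hle : L ⊔ Subgroup.zpowers a ≤ L ⊔ U := sup_le_sup_left (Subgroup.zpowers_le.2 haU) _
  have haH : a ∈ L ⊔ Subgroup.zpowers a := Subgroup.mem_sup_right (Subgroup.mem_zpowers a)
  have hT : H1.IsSylowIn 2 (P ⊓ (L ⊔ Subgroup.zpowers a)) (L ⊔ Subgroup.zpowers a) := by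
    refine hP.inf_of_normal hle fun g hg => H1.mem_normalizer_of_conj_mem fun x hx => ?_
    have := Subgroup.mul_mem _ (Subgroup.mem_sup_left (hab' g hg x (hle hx))) hx
    simpa using this
  have huu : (a * s) ^ 2 = r ^ j := by
    calc (a * s) ^ 2 = a * s * a⁻¹ * s := by rw [hai, pow_two]; group
      _ = r ^ j := by rw [has, mul_assoc, hss, mul_one]
  have hinv : a * (a * s) * a⁻¹ = (a * s)⁻¹ := H3.left_inverts haa hss
  have hu1 : (a * s) ^ 2 ^ (k + 2) = 1 := by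
    rw [pow_succ', pow_mul, huu, hD2.zpow_pow_eq_one]
  have huz : (a * s) ^ 2 ^ (k + 1) = r ^ 2 ^ k := by
    have e : (a * s) ^ 2 ^ (k + 1) = r ^ (j * (2 ^ k : ℕ)) := by
      rw [pow_succ', pow_mul, huu, zpow_mul, zpow_natCast]
    rw [e]
    refine (hD2.rot_inv ?_).resolve_left fun h => hD2.z_ne ?_
    · rw [← e, ← pow_add, ← two_mul, ← pow_succ', hu1]
    · rw [← hm, ← zpow_natCast, ← zpow_mul, mul_comm, zpow_mul, ← zpow_mul r, h, one_zpow]
  have hr : ∀ i : ℤ, r ^ i = (a * s) ^ (2 * m * i) := fun i => by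
    rw [zpow_mul, zpow_mul, zpow_ofNat, huu, hm]
  have hs' : s = (a * s) ^ (-1 : ℤ) * a := by
    rw [zpow_neg_one, ← hinv, ← mul_assoc, haa]; simp
  have huT : a * s ∈ P ⊓ (L ⊔ Subgroup.zpowers a) :=
    ⟨hasP, Subgroup.mul_mem _ haH (Subgroup.mem_sup_left hsL)⟩
  have hSm : ∀ x ∈ P ⊓ L, ∃ i : ℤ, x = (a * s) ^ i ∨ x = (a * s) ^ i * a := by
    intro x hx
    obtain ⟨i, rfl | rfl⟩ := (hD2.mem x).1 hx
    · exact ⟨_, Or.inl (hr i)⟩
    · exact ⟨2 * m * i + (-1), Or.inr (by rw [zpow_add, ← hr, mul_assoc, ← hs'])⟩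
  have hDT : H8.DS.Dih (P ⊓ (L ⊔ Subgroup.zpowers a)) (a * s) a (k + 1) := by
    refine ⟨orderOf_eq_prime_pow (by rw [huz]; exact hD2.z_ne) hu1, haa, hinv, fun i hi => ?_,
      fun x => ⟨fun hx => ?_, ?_⟩⟩
    · have h1 : Commute a (a * s) := by
        nth_rewrite 1 [hi]; exact (Commute.refl _).zpow_left i
      rw [h1.eq, mul_inv_cancel_right, eq_inv_iff_mul_eq_one, ← pow_two] at hinv
      apply hD2.z_ne
      rw [← huz, pow_succ', pow_mul, hinv, one_pow]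
    · rcases hH1 x hx.2 with h | h
      · exact hSm x ⟨hx.1, h⟩
      · obtain ⟨i, hi | hi⟩ := hSm (x * a) ⟨P.mul_mem hx.1 haP, h⟩
        · exact ⟨i, Or.inr (by rw [← hi, mul_assoc, haa, mul_one])⟩
        · exact ⟨i, Or.inl (mul_right_cancel hi)⟩
    · rintro ⟨i, rfl | rfl⟩
      · exact Subgroup.zpow_mem _ huT i
      · exact Subgroup.mul_mem _ (Subgroup.zpow_mem _ huT i) ⟨haP, haH⟩
  have haM : a ∈ U ⊔ (L ⊓ Subgroup.centralizer ({a} : Set G)) ⊔
      (L ⊓ Subgroup.centralizer ({b} : Set G)) := Subgroup.mem_sup_left (Subgroup.mem_sup_left haU)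
  have hMa : ∀ x ∈ L, Commute x a → x ∈ U ⊔ (L ⊓ Subgroup.centralizer ({a} : Set G)) ⊔
      (L ⊓ Subgroup.centralizer ({b} : Set G)) := fun x hx hxa =>
    Subgroup.mem_sup_left (Subgroup.mem_sup_right
      ⟨hx, Subgroup.mem_centralizer_singleton_iff.2 hxa.eq⟩)
  have hMb : ∀ x ∈ L, Commute x (a * r ^ 2 ^ k) → x ∈ U ⊔ (L ⊓ Subgroup.centralizer ({a} : Set G)) ⊔
      (L ⊓ Subgroup.centralizer ({b} : Set G)) := fun x hx hxa => by
    refine Subgroup.mem_sup_right ⟨hx, Subgroup.mem_centralizer_singleton_iff.2 ?_⟩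
    have h1 : Commute x (r ^ 2 ^ k * (a * b)) := Subgroup.mem_centralizer_iff.1 hzt x hx
    have h2 : b = a * r ^ 2 ^ k * (r ^ 2 ^ k * (a * b)) := by
      rw [mul_assoc, ← mul_assoc (r ^ 2 ^ k), hD2.z_sq, one_mul, ← mul_assoc, haa, one_mul]
    rw [h2]; exact (hxa.mul_right h1).eq
  refine H8.DS.core_in hL le_sup_left haH hH1 hT hDT
    (fun h => haL' ((L.mul_mem_cancel_right hsL).1 h)) haL' ?_ uqa (fun x hx hxa => ?_)
    (fun x hx hxa => ?_)
  · obtain ⟨g, hg, e⟩ := hfus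
    exact ⟨-1, g, hg, by rw [← hs', huz, e]⟩
  · rcases hH1 x hx with h | h
    · exact hMa x h hxa
    · exact (Subgroup.mul_mem_cancel_right _ haM).1 (hMa _ h (hxa.mul_left (Commute.refl a)))
  · rw [huz] at hxa
    rcases hH1 x hx with h | h
    · exact hMb x h hxa
    · have h1 := hMb (x * (a * r ^ 2 ^ k)) (by rw [← mul_assoc]; exact L.mul_mem h hzS.2)
        (hxa.mul_left (Commute.refl _))
      exact (Subgroup.mul_mem_cancel_right _ (Subgroup.mul_mem _ haM (hMa _ hzS.2 hza))).1 h1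

end Cfsg.Agent.S1916
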