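import Cfsg.Statements.S1921
import Cfsg.Agent.L.Comp
import Cfsg.Agent.H3.Dihedral

set_option autoImplicit false
open Cfsg

namespace Cfsg.Agent.S1921

/-- Let a be an involution of a finite group H and L a component of H with a L a⁻¹ ≠ L; put M = ⟨L, aLa⁻¹⟩ and let J be the subgroup generated by the elements x · a x a⁻¹ with x ∈ L (the diagonal). Then every element of M outside J·Z(M) generates M together with J. -/
theorem result {H : Type*} [Group H] [Finite H] (a : H) (ha : orderOf a = 2) (L : Subgroup H) (hL : Cfsg.IsComponent L)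
    (hLa : L.map (MulAut.conj a).toMonoidHom ≠ L) (x : H) (hxM : x ∈ L ⊔ L.map (MulAut.conj a).toMonoidHom)
    (hxJ : x ∉ Subgroup.closure {y : H | ∃ l ∈ L, y = l * (a * l * a⁻¹)} ⊔
      ((L ⊔ L.map (MulAut.conj a).toMonoidHom) ⊓ Subgroup.centralizer ((L ⊔ L.map (MulAut.conj a).toMonoidHom : Subgroup H) : Set H))) :
    Subgroup.closure {y : H | ∃ l ∈ L, y = l * (a * l * a⁻¹)} ⊔ Subgroup.zpowers x = L ⊔ L.map (MulAut.conj a).toMonoidHom := by
  have ha2 := H3.mul_self_of_orderOf_two ha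
  have hL' := Cfsg.Agent.L.compIn_top_iff.2 hL
  have hLa' := hL'.conj (g := a) (by rw [Subgroup.normalizer_eq_top]; trivial)
  have hcen := hL'.le_centralizer_of_ne hLa' hLa.symm
  set J := Subgroup.closure {y : H | ∃ l ∈ L, y = l * (a * l * a⁻¹)} with hJ
  set L' := L.map (MulAut.conj a).toMonoidHom with hL'def
  have hmem : ∀ l ∈ L, a * l * a⁻¹ ∈ L' := fun l hl => ⟨l, hl, rfl⟩
  have hJm : ∀ l ∈ L, l * (a * l * a⁻¹) ∈ J := fun l hl => Subgroup.subset_closure ⟨l, hl, rfl⟩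
  have hcomm : ∀ l ∈ L, ∀ m ∈ L', m * l = l * m := fun l hl m hm => hcen hl m hm
  have hJM : J ≤ L ⊔ L' := by
    rw [hJ, Subgroup.closure_le]
    rintro _ ⟨l, hl, rfl⟩
    exact Subgroup.mul_mem_sup hl (hmem l hl)
  refine le_antisymm (sup_le hJM (Subgroup.zpowers_le_of_mem hxM)) ?_
  set K := J ⊔ Subgroup.zpowers x with hK
  have hnorm : L ≤ Subgroup.normalizer (L' : Set H) :=
    hcen.trans (Subgroup.centralizer_le_normalizer _)
  have hx' : x ∈ ((L ⊔ L' : Subgroup H) : Set H) := hxM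
  rw [Subgroup.coe_mul_of_left_le_normalizer_right L L' hnorm] at hx'
  obtain ⟨l₁, hl₁, _, ⟨l, hl, rfl⟩, hx⟩ := hx'
  change l₁ * (a * l * a⁻¹) = x at hx
  have hxe : x = l₁ * l⁻¹ * (l * (a * l * a⁻¹)) := by rw [← hx]; group
  have hy : l₁ * l⁻¹ ∈ K := by
    have : l₁ * l⁻¹ = x * (l * (a * l * a⁻¹))⁻¹ := by rw [hxe]; group
    rw [this]
    exact K.mul_mem (Subgroup.mem_sup_right (Subgroup.mem_zpowers x))
      (K.inv_mem (Subgroup.mem_sup_left (hJm l hl)))
  have hyL : l₁ * l⁻¹ ∈ L := L.mul_mem hl₁ (L.inv_mem hl)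
  have hKL : K ⊓ L = L := by
    refine ((Cfsg.Agent.L.isQuasisimple_subgroup_iff.1 hL.2).2.2 (K ⊓ L) inf_le_right ?_).resolve_right ?_
    · rw [Subgroup.le_normalizer_iff]
      intro m hm y hy'
      refine ⟨?_, L.mul_mem (L.mul_mem hm hy'.2) (L.inv_mem hm)⟩
      have h1 := Subgroup.mem_sup_left (T := Subgroup.zpowers x) (hJm m hm)
      have h2 := K.mul_mem (K.mul_mem h1 hy'.1) (K.inv_mem h1)
      have e : m * (a * m * a⁻¹) * y * (m * (a * m * a⁻¹))⁻¹ = m * y * m⁻¹ := by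
        rw [mul_assoc m, hcomm y hy'.2 _ (hmem m hm)]; group
      rwa [e] at h2
    · intro h
      apply hxJ
      rw [hxe, sup_comm]
      refine Subgroup.mul_mem_sup ⟨Subgroup.mem_sup_left hyL, ?_⟩ (hJm l hl)
      have : L ⊔ L' ≤ Subgroup.centralizer {l₁ * l⁻¹} := sup_le
        (fun m hm => Subgroup.mem_centralizer_singleton_iff.2 (h ⟨hy, hyL⟩ m hm))
        (fun m hm => Subgroup.mem_centralizer_singleton_iff.2 (hcomm _ hyL m hm))
      exact fun m hm => Subgroup.mem_centralizer_singleton_iff.1 (this hm)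
  have hLK : L ≤ K := hKL ▸ inf_le_left
  refine sup_le hLK ?_
  rintro _ ⟨m, hm, rfl⟩
  have := K.mul_mem (K.inv_mem (hLK hm)) (Subgroup.mem_sup_left (hJm m hm))
  rwa [inv_mul_cancel_left] at this

end Cfsg.Agent.S1921
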