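import Cfsg.Statements.S1922
import Cfsg.Agent.H3.Misc

set_option autoImplicit false
open Cfsg

namespace Cfsg.Agent.S1922

/-- Let z be an involution of a finite group G and H a proper subgroup such that z lies in gHg⁻¹ exactly when g ∈ H. Then the following are equivalent: (1) for every conjugate t ≠ z of z commuting with z, the product zt lies in gHg⁻¹ exactly when g ∈ H; (2) z lies in the centre of some Sylow 2-subgroup of G, and for every conjugate t ≠ z of z commuting with z, the centralizer of zt is contained in H. -/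
theorem result {G : Type*} [Group G] [Finite G] (z : G) (hz : orderOf z = 2) (H : Subgroup G) (hH : H ≠ ⊤)
    (h0 : ∀ g : G, z ∈ H.map (MulAut.conj g).toMonoidHom ↔ g ∈ H) :
    (∀ t : G, IsConj z t → t ≠ z → t * z = z * t → ∀ g : G, z * t ∈ H.map (MulAut.conj g).toMonoidHom ↔ g ∈ H) ↔
      ((∃ P : Sylow 2 G, z ∈ (Subgroup.center ↥(P : Subgroup G)).map (P : Subgroup G).subtype) ∧
        ∀ t : G, IsConj z t → t ≠ z → t * z = z * t → Subgroup.centralizer ({z * t} : Set G) ≤ H) := by
  classical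
  have hz2 := H3.mul_self_of_orderOf_two hz
  simp only [H3.mem_map_conj_iff] at h0 ⊢
  have hzH : z ∈ H := by simpa using (h0 1).2 H.one_mem
  constructor
  · intro h1
    have hC : ∀ t : G, IsConj z t → t ≠ z → t * z = z * t →
        Subgroup.centralizer ({z * t} : Set G) ≤ H := by
      intro t ht htz hc c hc'
      apply (h1 t ht htz hc c).1
      rw [mul_assoc, ← Subgroup.mem_centralizer_singleton_iff.1 hc', inv_mul_cancel_left]
      simpa using (h1 t ht htz hc 1).2 H.one_mem
    refine ⟨?_, hC⟩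
    haveI := Fintype.ofFinite G
    have hsq : ∀ d, IsConj z d → d * d = 1 := fun d hd =>
      H3.mul_self_of_orderOf_two ((H3.orderOf_eq_of_isConj hd).symm.trans hz)
    -- the central involution of a dihedral group of even rotation order
    have key : ∀ a e : G, IsConj z e → Even (orderOf (a * z * a⁻¹ * e)) →
        ∀ g, g⁻¹ * (a * z * a⁻¹ * e) ^ (orderOf (a * z * a⁻¹ * e) / 2) * g ∈ H ↔ a⁻¹ * g ∈ H := by
      intro a e he hev g
      have hd : IsConj z (a * z * a⁻¹) := isConj_iff.2 ⟨a, rfl⟩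
      obtain ⟨hu, hud, -⟩ := H3.half_pow_central (hsq _ hd) (hsq _ he) hev
      have hconj : IsConj z (a * z * a⁻¹ * (a * z * a⁻¹ * e) ^ (orderOf (a * z * a⁻¹ * e) / 2)) :=
        (H3.isConj_mul_pow (hsq _ hd) (hsq _ he) _).elim hd.trans he.trans
      generalize (a * z * a⁻¹ * e) ^ (orderOf (a * z * a⁻¹ * e) / 2) = u at *
      have hu' : z * (a⁻¹ * u * a) = a⁻¹ * u * a * z := by
        calc z * (a⁻¹ * u * a) = a⁻¹ * (a * z * a⁻¹ * u) * a := by group
          _ = a⁻¹ * u * a * z := by rw [← hud.eq]; group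
      have := h1 (z * (a⁻¹ * u * a)) (hconj.trans (isConj_iff.2 ⟨a⁻¹, by group⟩))
        (fun h => H3.ne_one_of_orderOf_two hu (by
          have h2 : a⁻¹ * u * a = 1 := by simpa using h
          calc u = a * (a⁻¹ * u * a) * a⁻¹ := by group
            _ = 1 := by rw [h2]; group))
        (by rw [mul_assoc z, ← hu']) (a⁻¹ * g)
      rw [← this, ← mul_assoc z z, hz2, one_mul]
      congr! 1
      group
    have hodd1 : ∀ a b : G, a⁻¹ * b ∉ H → Odd (orderOf (a * z * a⁻¹ * (b * z * b⁻¹))) := by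
      intro a b hab
      by_contra hev
      rw [Nat.not_odd_iff_even] at hev
      have hd : IsConj z (a * z * a⁻¹) := isConj_iff.2 ⟨a, rfl⟩
      have he : IsConj z (b * z * b⁻¹) := isConj_iff.2 ⟨b, rfl⟩
      have hinv : b * z * b⁻¹ * (a * z * a⁻¹) = (a * z * a⁻¹ * (b * z * b⁻¹))⁻¹ := by
        rw [mul_inv_rev, inv_eq_of_mul_eq_one_right (hsq _ hd),
          inv_eq_of_mul_eq_one_right (hsq _ he)]
      have h2 := (key b _ hd (by rw [hinv, orderOf_inv]; exact hev) b).2 (by simp)
      rw [hinv, orderOf_inv, inv_pow, H3.inv_eq_of_orderOf_two (H3.orderOf_half_pow hev)] at h2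
      exact hab ((key a _ he hev b).1 h2)
    obtain ⟨b, hb⟩ : ∃ b, b ∉ H := by
      by_contra hcon
      push Not at hcon
      exact hH (eq_top_iff.2 fun g _ => hcon g)
    set e := b * z * b⁻¹ with he
    have heD : IsConj z e := isConj_iff.2 ⟨b, rfl⟩
    let M : Finset G := Finset.univ.filter fun m => IsConj z m ∧ m * e * m ∈ H
    let D₀ : Finset G := Finset.univ.filter fun d => IsConj z d ∧ d ∈ H
    have hM : ∀ m, m ∈ M ↔ IsConj z m ∧ m * b ∈ H := by
      intro m
      simp only [M, Finset.mem_filter, Finset.mem_univ, true_and]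
      refine and_congr_right fun hm => ?_
      rw [← inv_mem_iff (x := m * b), ← h0 (m * b)⁻¹, inv_inv, mul_inv_rev,
        inv_eq_of_mul_eq_one_right (hsq m hm), he]
      congr! 1
      group
    have hconjD : ∀ m s, IsConj z m → IsConj z s → IsConj z (m * s * m) := fun m s hm hs =>
      hs.trans (isConj_iff.2 ⟨m, by rw [inv_eq_of_mul_eq_one_right (hsq m hm)]⟩)
    have hmm : ∀ m ∈ M, ∀ m' ∈ M, m * m' ∈ H := by
      intro m hm m' hm'
      rw [hM] at hm hm'
      have := H.mul_mem hm.2 (H.inv_mem hm'.2)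
      rwa [mul_inv_rev, mul_assoc, mul_inv_cancel_left,
        inv_eq_of_mul_eq_one_right (hsq _ hm'.1)] at this
    have hMst : ∀ m ∈ M, ∀ s ∈ M, m * s * m ∈ M := by
      intro m hm s hs
      have h2 := hmm m hm s hs
      rw [hM] at hm hs ⊢
      refine ⟨hconjD _ _ hm.1 hs.1, ?_⟩
      rw [mul_assoc]; exact H.mul_mem h2 hm.2
    have hModd : ∀ m ∈ M, ∀ s ∈ M, Odd (orderOf (m * s)) := by
      intro m hm s hs
      have h2 := hmm m hm s hs
      rw [hM] at hm hs
      by_contra hev
      rw [Nat.not_odd_iff_even] at hev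
      obtain ⟨a, rfl⟩ := isConj_iff.1 hm.1
      have h3 := (key a s hs.1 hev 1).1 (by simpa using H.pow_mem h2 _)
      rw [mul_one] at h3
      have h4 : a * z * a⁻¹ ∈ H := H.mul_mem (H.mul_mem (by simpa using h3) hzH) h3
      exact hb ((H.mul_mem_cancel_left h4).1 hm.2)
    have hfib : ∀ d ∈ D₀, ∃ m ∈ M, m * e * m = d := by
      intro d hd
      simp only [D₀, Finset.mem_filter, Finset.mem_univ, true_and] at hd
      obtain ⟨a, rfl⟩ := isConj_iff.1 hd.1
      have ha : a⁻¹ ∈ H := (h0 a⁻¹).1 (by simpa using hd.2)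
      obtain ⟨k, hk⟩ := hodd1 a b fun h => hb ((H.mul_mem_cancel_left ha).1 h)
      have hd2 := hsq _ hd.1
      have he2 := hsq _ heD
      rw [← he] at hk
      have hcj : IsConj z (a * z * a⁻¹ * (a * z * a⁻¹ * e) ^ (k + 1)) :=
        (H3.isConj_mul_pow hd2 he2 _).elim hd.1.trans heD.trans
      have hi := H3.left_inverts hd2 he2
      have hede : e = a * z * a⁻¹ * (a * z * a⁻¹ * e) := by rw [← mul_assoc, hd2, one_mul]
      have hr : (a * z * a⁻¹ * e) ^ (2 * k + 1) = 1 := by rw [← hk, pow_orderOf_eq_one]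
      have hfin : a * z * a⁻¹ * (a * z * a⁻¹ * e) ^ (k + 1) * e *
          (a * z * a⁻¹ * (a * z * a⁻¹ * e) ^ (k + 1)) = a * z * a⁻¹ := by
        generalize a * z * a⁻¹ = d at *
        generalize d * e = r at *
        have hdi : d⁻¹ = d := inv_eq_of_mul_eq_one_right hd2
        have e1 : d * r ^ (k + 1) * d = (r ^ (k + 1))⁻¹ := by
          rw [← inv_pow, ← hi, conj_pow, hdi]
        have e2 : r * d = d * r⁻¹ := by rw [← hi, hdi, ← mul_assoc, ← mul_assoc, hd2, one_mul]
        have e3 : (r ^ (k + 1))⁻¹ * d = d * r ^ (k + 1) := by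
          rw [← e1, mul_assoc, hd2, mul_one]
        calc d * r ^ (k + 1) * e * (d * r ^ (k + 1))
            = (d * r ^ (k + 1) * d) * (r * d) * r ^ (k + 1) := by rw [hede]; group
          _ = ((r ^ (k + 1))⁻¹ * d) * r⁻¹ * r ^ (k + 1) := by rw [e1, e2]; group
          _ = d * r ^ (2 * k + 1) := by rw [e3]; group
          _ = d := by rw [hr, mul_one]
      refine ⟨_, ?_, hfin⟩
      simp only [M, Finset.mem_filter, Finset.mem_univ, true_and]
      exact ⟨hcj, by rw [hfin]; exact hd.2⟩
    have hMsq : ∀ s ∈ M, s * s = 1 := fun s hs => hsq s ((hM s).1 hs).1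
    have hzD : z ∈ D₀ := Finset.mem_filter.2 ⟨Finset.mem_univ _, IsConj.refl z, hzH⟩
    have hMo : Odd M.card := by
      obtain ⟨m, hm, -⟩ := hfib z hzD
      exact H3.odd_card_of_pairwise_odd hm hMsq (hMst m hm) (hModd m hm)
    have hD₀ : Odd D₀.card := by
      have h2 : M.card = ∑ d ∈ D₀, (M.filter fun m => m * e * m = d).card := by
        apply Finset.card_eq_sum_card_fiberwise
        intro m hm
        have hm' : m ∈ M := hm
        simp only [M, Finset.mem_filter, Finset.mem_univ, true_and] at hm'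
        simp only [D₀, Finset.coe_filter, Finset.mem_univ, true_and, Set.mem_ofPred_eq]
        exact ⟨hconjD _ _ hm'.1 heD, hm'.2⟩
      rw [h2, Finset.odd_sum_iff_odd_card_odd, Finset.filter_true_of_mem] at hMo
      · exact hMo
      intro d hd
      obtain ⟨m, hm, hmd⟩ := hfib d hd
      refine H3.odd_card_of_pairwise_odd (m := m) (Finset.mem_filter.2 ⟨hm, hmd⟩)
        (fun s hs => hMsq s (Finset.mem_filter.1 hs).1) (fun s hs => ?_)
        fun s hs => hModd m hm s (Finset.mem_filter.1 hs).1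
      obtain ⟨hs1, hs2⟩ := Finset.mem_filter.1 hs
      refine Finset.mem_filter.2 ⟨hMst m hm s hs1, ?_⟩
      calc m * s * m * e * (m * s * m) = m * s * (m * e * m) * s * m := by group
        _ = m * (s * s) * e * (s * s) * m := by rw [hmd, ← hs2]; group
        _ = d := by rw [hMsq s hs1, ← hmd]; group
    have hHi : Odd H.index := by
      haveI : Fact (Nat.Prime 2) := ⟨Nat.prime_two⟩
      have h2 := (H3.isPGroup_zpowers_of_orderOf_two hz).card_modEq_card_fixedPoints (G ⧸ H)
      have h3 : MulAction.fixedPoints (Subgroup.zpowers z) (G ⧸ H) = {((1 : G) : G ⧸ H)} := by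
        ext q
        obtain ⟨g, rfl⟩ := QuotientGroup.mk_surjective q
        rw [Set.mem_singleton_iff, QuotientGroup.eq, mul_one, inv_mem_iff, ← h0,
          MulAction.mem_fixedPoints]
        constructor
        · intro h
          have h4 : ((z * g : G) : G ⧸ H) = g := h ⟨z, Subgroup.mem_zpowers z⟩
          rw [eq_comm, QuotientGroup.eq] at h4
          rwa [mul_assoc]
        · rintro h ⟨_, k, rfl⟩
          change ((z ^ k * g : G) : G ⧸ H) = g
          rw [eq_comm, QuotientGroup.eq]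
          have := H.zpow_mem h k
          rwa [show g⁻¹ * z * g = g⁻¹ * z * g⁻¹⁻¹ by group, conj_zpow, inv_inv, mul_assoc] at this
      rw [h3] at h2
      simp only [Nat.card_unique] at h2
      exact Nat.odd_iff.2 h2
    have hCH : Subgroup.centralizer ({z} : Set G) ≤ H := fun c hc => (h0 c).1 (by
      rw [mul_assoc, ← Subgroup.mem_centralizer_singleton_iff.1 hc, inv_mul_cancel_left]
      exact hzH)
    have hrel : (Subgroup.centralizer ({z} : Set G)).relIndex H = D₀.card := by
      have h2 := H3.card_class_eq_index (⟨z, hzH⟩ : H)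
      have h3 : Subgroup.centralizer ({⟨z, hzH⟩} : Set H) =
          (Subgroup.centralizer ({z} : Set G)).subgroupOf H := by
        ext c
        rw [Subgroup.mem_subgroupOf, Subgroup.mem_centralizer_singleton_iff,
          Subgroup.mem_centralizer_singleton_iff, Subtype.ext_iff]
        rfl
      rw [h3] at h2
      rw [Subgroup.relIndex, ← h2, ← Nat.card_eq_finsetCard]
      refine Nat.card_congr (Equiv.ofBijective (fun y => ⟨y.1.1, ?_⟩) ⟨?_, ?_⟩)
      · simp only [D₀, Finset.mem_filter, Finset.mem_univ, true_and]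
        exact ⟨H.subtype.map_isConj y.2, y.1.2⟩
      · intro y y' h
        have h' : y.1.1 = y'.1.1 := congrArg (fun w : D₀ => (w : G)) h
        exact Subtype.ext (Subtype.ext h')
      · rintro ⟨d, hd⟩
        simp only [D₀, Finset.mem_filter, Finset.mem_univ, true_and] at hd
        obtain ⟨a, rfl⟩ := isConj_iff.1 hd.1
        have ha : a⁻¹ ∈ H := (h0 a⁻¹).1 (by simpa using hd.2)
        exact ⟨⟨⟨_, hd.2⟩, isConj_iff.2 ⟨⟨a, by simpa using ha⟩, rfl⟩⟩, rfl⟩
    obtain ⟨P, hzP, hP⟩ := H3.exists_sylow_central_of_odd_index hz (by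
      rw [← Subgroup.relIndex_mul_index hCH, hrel]; exact hD₀.mul hHi)
    exact ⟨P, ⟨z, hzP⟩, Subgroup.mem_center_iff.2 fun x => Subtype.ext (hP x x.2), rfl⟩
  · rintro ⟨⟨P, ⟨z', hz'P⟩, hz'c, rfl⟩, h2⟩ t ht htz hc g
    change G at z'
    have hPc : ∀ x ∈ (P : Subgroup G), x * z' = z' * x := fun x hx =>
      congrArg Subtype.val (Subgroup.mem_center_iff.1 hz'c ⟨x, hx⟩)
    simp only [Subgroup.coe_subtype] at *
    have hu : z' * t ∈ H := h2 t ht htz hc (Subgroup.mem_centralizer_singleton_iff.2 rfl)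
    refine ⟨fun hg => ?_, fun hg => H.mul_mem (H.mul_mem (H.inv_mem hg) hu) hg⟩
    haveI : Fact (Nat.Prime 2) := ⟨Nat.prime_two⟩
    have hPH : (P : Subgroup G) ≤ H := fun c hc => (h0 c).1 (by
      rw [mul_assoc, ← hPc c hc, inv_mul_cancel_left]
      exact hzH)
    have ht2 : t * t = 1 :=
      H3.mul_self_of_orderOf_two ((H3.orderOf_eq_of_isConj ht).symm.trans hz)
    have hsq : (g⁻¹ * (z' * t) * g) ^ 2 ^ 1 = 1 := by
      calc (g⁻¹ * (z' * t) * g) ^ 2 ^ 1 = g⁻¹ * (z' * (t * z') * t) * g := by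
            rw [pow_one, pow_two]; group
        _ = 1 := by rw [hc, ← mul_assoc z', hz2, one_mul, ht2]; group
    obtain ⟨j, -, hj⟩ := (Nat.dvd_prime_pow Nat.prime_two).1 (orderOf_dvd_of_pow_eq_one hsq)
    obtain ⟨h, hh⟩ := H3.exists_conj_mem_sylow (P.subtype hPH) (x := ⟨_, hg⟩) (k := j)
      (by rw [← Subgroup.orderOf_coe]; exact hj)
    have hh' : (h : G) * (g⁻¹ * (z' * t) * g) * (h : G)⁻¹ ∈ (P : Subgroup G) := hh
    have h3 : g * (h : G)⁻¹ * z' * (g * (h : G)⁻¹)⁻¹ ∈ H := by
      apply h2 t ht htz hc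
      rw [Subgroup.mem_centralizer_singleton_iff]
      have := hPc _ hh'
      calc g * (h : G)⁻¹ * z' * (g * (h : G)⁻¹)⁻¹ * (z' * t)
          = g * (h : G)⁻¹ * (z' * (h * (g⁻¹ * (z' * t) * g) * (h : G)⁻¹)) * (g * (h : G)⁻¹)⁻¹ := by
            group
        _ = _ := by rw [← this]; group
    have h4 := (h0 (g * (h : G)⁻¹)⁻¹).1 (by simpa using h3)
    rw [inv_mem_iff] at h4
    exact (H.mul_mem_cancel_right (H.inv_mem h.2)).1 h4

end Cfsg.Agent.S1922
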