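import Cfsg.Statements.S1929
import Cfsg.Agent.FB.S29b
import Cfsg.Agent.FB.S29c

set_option autoImplicit false
open Cfsg

namespace Cfsg.Agent.S1929

/-- Inside a finite group let G be a subgroup and R a subgroup of prime order r normalizing G, with the order of G prime to r. Let K be a quasisimple subgroup of G that commutes elementwise with every conjugate of K, other than K itself, under the subgroup generated by R and C_G(R). Then K is a component of C_G(R), or K is a component of G, or K is contained in a component of G that is normalized by R. -/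
theorem result {X : Type*} [Group X] [Finite X] (G R : Subgroup X) (r : ℕ) [Fact r.Prime] (hR : Nat.card ↥R = r) (hcop : (Nat.card ↥G).Coprime r) (hnorm : R ≤ Subgroup.normalizer (G : Set X)) (K : Subgroup X) (hKG : K ≤ G) (hKq : Cfsg.IsQuasisimple ↥K) (hcomm : ∀ g ∈ R ⊔ (G ⊓ Subgroup.centralizer (R : Set X)), K.map (MulAut.conj g).toMonoidHom ≠ K → ⁅K, K.map (MulAut.conj g).toMonoidHom⁆ = ⊥) : (K ≤ G ⊓ Subgroup.centralizer (R : Set X) ∧ Cfsg.IsComponent (K.subgroupOf (G ⊓ Subgroup.centralizer (R : Set X)))) ∨ Cfsg.IsComponent (K.subgroupOf G) ∨ ∃ L : Subgroup X, L ≤ G ∧ Cfsg.IsComponent (L.subgroupOf G) ∧ (∀ a ∈ R, L.map (MulAut.conj a).toMonoidHom = L) ∧ K ≤ L := by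
  have hr : r.Prime := Fact.out
  have c1 : (Nat.card R).Coprime (Nat.card G) := hR ▸ hcop.symm
  rcases FB.S29a hnorm hKG hKq hcomm with ⟨h1, h2⟩ | ⟨H, h1, h2, h3, h4, h5, h6⟩
  · exact .inl ⟨h1, (L.compIn_iff.1 h2).2⟩
  have h7 := h4.ge.trans (FB.S33 hr hR hnorm c1 h1 h2 h3)
  obtain ⟨A, hA, h8⟩ := FB.S29b hr hR hnorm c1 h7 h2 h4 h5
  by_cases h9 : R ≤ Subgroup.normalizer (A : Set X)
  · exact .inr (.inr ⟨A, hA.le, (L.compIn_iff.1 hA).2,
      fun a ha => H1.cj_eq_iff_mem_normalizer.2 (h9 ha), h8.trans (SF.ncl_le le_rfl h9)⟩)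
  · exact .inr (.inl (L.compIn_iff.1 (FB.S29c hr hR hnorm c1 h7 h2 h4 h5 h6 hA h8 h9)).2)

end Cfsg.Agent.S1929
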