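import Cfsg.Statements.S1930
import Cfsg.Agent.H3.Fl7

set_option autoImplicit false
open Cfsg

namespace Cfsg.Agent.S1930

/-- Inside a finite group let G be a nontrivial subgroup and R an r-subgroup (r a prime) normalizing G, with the order of G prime to r. Let p > 3 be a prime with F*(G) = O_p(G), and let P be the intersection of all R-invariant Sylow p-subgroups of G. Then P has a nontrivial characteristic subgroup that is normalized by G. -/
theorem result {X : Type*} [Group X] [Finite X] (G R : Subgroup X) (r : ℕ) [Fact r.Prime] (hR : IsPGroup r ↥R) (hcop : (Nat.card ↥G).Coprime r) (hnorm : R ≤ Subgroup.normalizer (G : Set X)) (hG : G ≠ ⊥) (p : ℕ) [Fact p.Prime] (hp : 3 < p) (hF : Cfsg.generalizedFittingSubgroup ↥G = Cfsg.pCore p ↥G) (P : Subgroup X) (hP : P = ⨅ S : {S : Sylow p ↥G // ∀ a ∈ R, ((S : Subgroup ↥G).map G.subtype).map (MulAut.conj a).toMonoidHom = (S : Subgroup ↥G).map G.subtype}, ((S : Sylow p ↥G) : Subgroup ↥G).map G.subtype) : ∃ C : Subgroup ↥P,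 C.Characteristic ∧ C ≠ ⊥ ∧ G ≤ Subgroup.normalizer ((C.map P.subtype : Subgroup X) : Set X) := by
  have := hR.isNilpotent
  have hc : (Nat.card R).Coprime (Nat.card G) := by
    obtain ⟨n, hn⟩ := hR.exists_card_eq
    rw [hn]
    exact (hcop.pow_right n).symm
  have key : ∀ S, H9.IsSylowIn p S G → R ≤ Subgroup.normalizer (S : Set X) → P ≤ S :=
    fun S h1 h2 => hP ▸ iInf_le_of_le ⟨h1.toSylow, fun a ha => by
      rw [h1.map_toSylow]; exact H9.cj_eq_of_mem_normalizer (h2 ha)⟩ h1.map_toSylow.le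
  obtain ⟨S, -, s1, s2, s3, s4⟩ := H2.exists_invariant_sylow_ge (p := p) hnorm hc
    (Or.inl inferInstance) bot_le IsPGroup.of_bot Subgroup.le_normalizer_of_normal
  have hPp : IsPGroup p P := s2.to_le (key S ⟨s1, s2, s3⟩ s4)
  have hTP : pCoreOf p G ≤ P := hP ▸ le_iInf fun S => (H9.isSylowIn_map_subtype S.1).pCoreOf_le
  have hT : L.gfOf G = pCoreOf p G := congrArg (Subgroup.map G.subtype) hF
  have hN := H3.Fl.le_normalizer_kInf hp hPp hnorm hTP (hT ▸ L.inf_centralizer_gfOf_le G)
    fun g hg => ⟨hnorm, hc, inferInstance, fun H h1 h2 h3 => by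
      obtain ⟨S, -, a1, a2, a3, a4⟩ := H2.exists_invariant_sylow_ge (p := p) h2
        (hc.coprime_dvd_right (Subgroup.card_dvd_of_le h1)) (Or.inl inferInstance) bot_le
        IsPGroup.of_bot Subgroup.le_normalizer_of_normal
      refine a1 (key S ⟨a1.trans h1, a2, ?_⟩ a4 hg)
      rw [← Subgroup.relIndex_mul_relIndex S H G a1 h1]
      exact fun e => ((Fact.out : p.Prime).dvd_mul.1 e).elim a3 h3⟩
  refine ⟨kInfLower P, Subgroup.characteristic_iff_map_eq.2 fun e => (H9.map_kInf_equiv e).1,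
    fun e => H9.ind_ne_bot (H9.isCharPFunctor_kInfLower p) hPp (fun h => hG ?_)
      (by rw [inducedFunctor, e, Subgroup.map_bot]), Subgroup.le_normalizer.trans hN⟩
  have h1 := L.inf_centralizer_gfOf_le G
  rw [hT, le_bot_iff.1 (hTP.trans h.le)] at h1
  exact le_bot_iff.1 fun x hx => h1 ⟨hx, fun a ha => by rw [Subgroup.mem_bot.1 ha]; simp⟩

end Cfsg.Agent.S1930
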