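import Cfsg.Statements.S1931
import Cfsg.Agent.H3.Fl8

set_option autoImplicit false
open Cfsg

namespace Cfsg.Agent.S1931

/-- Inside a finite group let G be a subgroup and R a noncyclic abelian r-subgroup (r a prime) normalizing G, with the order of G prime to r, and let p > 3 be a prime. Suppose that for every nonidentity a ∈ R, R centralizes the subgroup O^p(F*(C_G(a))) generated by the p'-elements of the generalized Fitting subgroup of C_G(a). Then R centralizes O^p(F*(G)). -/
theorem result {X : Type*} [Group X] [Finite X] (G R : Subgroup X) (r : ℕ) [Fact r.Prime] (hR : IsPGroup r ↥R) (hcop : (Nat.card ↥G).Coprime r) (hnorm : R ≤ Subgroup.normalizer (G : Set X)) (hab : IsMulCommutative ↥R) (hnc : ¬ IsCyclic ↥R) (p : ℕ) [Fact p.Prime] (hp : 3 < p) (hloc : ∀ a ∈ R, a ≠ 1 → R ≤ Subgroup.centralizer ((((Cfsg.pResidual p ↥(Cfsg.generalizedFittingSubgroup ↥(G ⊓ Subgroup.centralizer ({a} : Set X)))).map (Cfsg.generalizedFittingSubgroup ↥(G ⊓ Subgroup.centralizer ({a} : Set X))).subtype).map (G ⊓ Subgroup.centralizer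 ({a} : Set X)).subtype : Subgroup X) : Set X)) : R ≤ Subgroup.centralizer ((((Cfsg.pResidual p ↥(Cfsg.generalizedFittingSubgroup ↥G)).map (Cfsg.generalizedFittingSubgroup ↥G).subtype).map G.subtype : Subgroup X) : Set X) := by
  have key : ∀ H : Subgroup X, ((pResidual p (generalizedFittingSubgroup H)).map
      (generalizedFittingSubgroup H).subtype).map H.subtype = H3.Fl.Uf p H := fun H => by
    rw [H1.map_subtype_pResidual, H1.map_pResidualOf]; rfl
  have hc : (Nat.card R).Coprime (Nat.card G) := by
    obtain ⟨n, hn⟩ := hR.exists_card_eq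
    rw [hn]
    exact (hcop.pow_right n).symm
  simp only [key] at hloc ⊢
  refine H3.Fl.cent_Uf hp hab hnc G hnorm hc fun b hb hb1 => ⟨_, le_rfl, inf_le_left,
    H2.le_normalizer_inf hnorm (le_trans (fun r hr => Subgroup.mem_centralizer_singleton_iff.2
      (congrArg Subtype.val (hab.is_comm.comm (⟨r, hr⟩ : R) ⟨b, hb⟩))) Subgroup.le_normalizer),
    hloc b hb hb1⟩

end Cfsg.Agent.S1931
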