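import Cfsg.Statements.S1932
import Cfsg.Agent.H1.Constrained
import Cfsg.Agent.H1.S4Free

set_option autoImplicit false
open Cfsg

namespace Cfsg.Agent.S1932

open Cfsg.Agent.H1
open scoped commutatorElement

/-- Let G be a finite group that is 2-constrained and has no section isomorphic to the symmetric group of degree 4, and let S be a Sylow 2-subgroup of G of nilpotency class at most 2. Then G = N_G(J(S))·O_{2'}(G), where J(S) is the Thompson subgroup generated by the elementary abelian subgroups of S of largest order. -/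
theorem result {G : Type*} [Group G] [Finite G] (hcon : Cfsg.IsPConstrained 2 G) (hS4 : ¬ Cfsg.Involves (Equiv.Perm (Fin 4)) G) (S : Sylow 2 G) (hcl : Subgroup.lowerCentralSeries (S : Subgroup G) 2 = ⊥) : Subgroup.normalizer ((Cfsg.thompsonSubgroupOf 2 (S : Subgroup G)) : Set G) ⊔ Cfsg.pPrimeCore 2 G = ⊤ := by
  have hS := sylow_isSylowIn_top S
  rw [thompsonSubgroupOf_eq, normalizer_sup_pPrimeCore_eq_top_iff (hS.isPGroup.to_le (JJ_le _)),
    map_JJ_of_coprime (Or.inr rfl) _ (by rw [QuotientGroup.ker_mk']; exact not_dvd_card_pPrimeCore)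
      hS.isPGroup]
  refine JJ_normal_of_class_two (isPConstrained_iff.1 hcon) (isSylowIn_map_mk' hS _) ?_ ?_
  · rw [← Subgroup.map_commutator, ← Subgroup.map_commutator]
    exact (congrArg _ hcl).trans (Subgroup.map_bot _)
  · intro W hW h
    exact hS4 (involves_iff_sec.2 (((h.sec_S4 hW le_top le_rfl).trans (H9.Sec.subgroup _)).trans
      (H9.Sec.quotient _)))

end Cfsg.Agent.S1932
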