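import Cfsg.Statements.S2003
import Cfsg.Agent.H9.Chief

set_option autoImplicit false
open Cfsg

namespace Cfsg.Agent.S2003

open Cfsg.Agent.H9

open Subgroup
open scoped commutatorElement

theorem exists_minimal_normal {G : Type*} [Group G] [Finite G] (Φ : Subgroup G → Prop)
    {X : Subgroup G} [hX : X.Normal] (h : Φ X) :
    ∃ E : Subgroup G, E.Normal ∧ E ≤ X ∧ Φ E ∧ ∀ N : Subgroup G, N.Normal → N < E → ¬ Φ N := by
  obtain ⟨E, hE, hmin⟩ := Finite.exists_le_minimal (p := fun E : Subgroup G => E.Normal ∧ Φ E)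
    ⟨hX, h⟩
  exact ⟨E, hmin.1.1, hE, hmin.1.2, fun N hN hlt hΦ => hlt.not_ge (hmin.2 ⟨hN, hΦ⟩ hlt.le)⟩


/-- Let p be a prime, G a finite group, P a normal p-subgroup of G and Q a critical subgroup of P: a characteristic subgroup with Q/Z(Q) elementary abelian, [P, Q] ≤ Z(Q), C_P(Q) = Z(Q), and such that every automorphism of P of order prime to p fixing Q elementwise is trivial. Let g ∈ G and i, j ≥ 1, and suppose that [X, g, …, g] ≤ Y with i entries g for every chief factor X/Y of G with X ≤ Q, and with j entries g for every chief factor X/Y of G with X ≤ Z(Q). Then [X, g, …, g] ≤ Y with i + j − 1 entries g for every chief factor X/Y of G with X ≤ P. -/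
theorem result {G : Type*} [Group G] [Finite G] {p : ℕ} [Fact p.Prime] (P : Subgroup G) [P.Normal] (hP : IsPGroup p ↥P) (Q : Subgroup G) (hQP : Q ≤ P) (hQchar : (Q.subgroupOf P).Characteristic) (hQ1 : ∀ a ∈ Q, a ^ p ∈ Q ⊓ Subgroup.centralizer ((Q : Subgroup G) : Set G)) (hQ2 : ⁅Q, Q⁆ ≤ Subgroup.centralizer ((Q : Subgroup G) : Set G)) (hQ3 : ⁅P, Q⁆ ≤ Q ⊓ Subgroup.centralizer ((Q : Subgroup G) : Set G)) (hQ4 : P ⊓ Subgroup.centralizer ((Q : Subgroup G) : Set G) = Q ⊓ Subgroup.centralizer ((Q : Subgroup G) : Set G)) (hQ5 : ∀ φ : MulAut ↥P, (orderOf φ).Coprime p → (∀ a : ↥P, (a : G) ∈ Q → φ a = a) → φ = 1) (g : G) (i j : ℕ) (hi : 1 ≤ i) (hj : 1 ≤ j) (hQi : ∀ U V : Subgroup G, Cfsg.IsChiefFactor U V → U ≤ Q → Cfsg.iterCommutator U (Subgroup.zpowers g) i ≤ V) (hZj : ∀ U V : Subgroup G, Cfsg.IsChiefFactor U V → U ≤ Q ⊓ Subgroup.centralizer ((Q : Subgroup G) : Set G) → Cfsg.iterCommutator U (Subgroup.zpowers g) j ≤ V) : ∀ U V : Subgroup G, Cfsg.IsChiefFactor U V → U ≤ P → Cfsg.iterCommutator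 U (Subgroup.zpowers g) (i + j - 1) ≤ V := by
  have hQn : Q.Normal := by
    rw [← Subgroup.map_subgroupOf_eq_of_le hQP]; infer_instance
  intro U V hc hUP
  have := hc.2.1
  have := hc.2.2.1
  set Z := Q ⊓ centralizer (Q : Set G) with hZ
  by_cases hUZ : U ⊓ Z ≤ V
  swap
  · rw [← chief_eq_of_not_le hc inf_le_left hUZ, iterCommutator_sup_le_iff]
    exact (iterCommutator_anti le_normalizer_of_normal (by omega)).trans
      ((hZj _ _ (chief_inf hc hUZ) inf_le_right).trans inf_le_left)
  obtain ⟨E, hEn, hEU, hEV, hEmin⟩ := exists_minimal_normal (fun E => ¬ E ≤ V) hc.1.not_ge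
  rw [← chief_eq_of_not_le hc hEU hEV, iterCommutator_sup_le_iff]
  have hEP : E ≤ P := hEU.trans hUP
  have h1 : ⁅Q, E⁆ ≠ ⊥ := by
    intro h
    rw [commutator_comm, commutator_eq_bot_iff_le_centralizer] at h
    exact hEV ((le_inf hEU (hQ4 ▸ le_inf hEP h)).trans hUZ)
  obtain ⟨A₁, hA₁n, hA₁Q, hA₁E, hA₁min⟩ := exists_minimal_normal (fun A => ⁅A, E⁆ ≠ ⊥) h1
  have hA₁0 : ⊥ < A₁ := bot_lt_iff_ne_bot.2 fun h => hA₁E (by rw [h, commutator_bot_left])
  obtain ⟨A₀, -, hA⟩ := exists_chief_below hA₁0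
  have hA₀E : ⁅A₀, E⁆ = ⊥ := not_not.1 (hA₁min A₀ hA.2.2.1 hA.1)
  obtain ⟨D₀, -, hD⟩ := exists_chief_below (bot_lt_iff_ne_bot.2 hA₁E)
  have := hD.2.2.1
  set D₁ := ⁅A₁, E⁆ with hD₁
  have hD₁Z : D₁ ≤ Z := by
    rw [hD₁, commutator_comm]; exact (commutator_mono hEP hA₁Q).trans hQ3
  have hD₁P : ⁅D₁, P⁆ ≤ D₀ := chief_commutator_le hD hP (hD₁Z.trans (inf_le_left.trans hQP))
  set C := zpowers g with hC
  have key : ∀ k s t, t + i ≤ s + k + 1 →
      ⁅iterCommutator A₁ C s, iterCommutator E C k⁆ ≤ iterCommutator D₁ C t ⊔ D₀ := by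
    intro k
    induction k with
    | zero =>
      intro s t hst
      rcases t with _ | t
      · exact (commutator_mono (iterCommutator_le le_normalizer_of_normal _) le_rfl).trans
          le_sup_left
      · refine le_trans (commutator_mono ((iterCommutator_anti le_normalizer_of_normal
          (by omega)).trans (hQi _ _ hA hA₁Q)) le_rfl) ?_
        exact hA₀E.le.trans bot_le
    | succ k ih =>
      intro s t hst
      rcases t with _ | t
      · exact (commutator_mono (iterCommutator_le le_normalizer_of_normal _)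
          (iterCommutator_le le_normalizer_of_normal _)).trans le_sup_left
      have hN : ∀ t, P ≤ normalizer ((iterCommutator D₁ C t ⊔ D₀ : Subgroup G) : Set G) := by
        intro t
        rw [le_normalizer_iff_commutator_le_left]
        exact (commutator_mono (sup_le (iterCommutator_le le_normalizer_of_normal _) hD.1.le)
          le_rfl).trans (hD₁P.trans le_sup_right)
      have hN' : ∀ t, C ≤ normalizer ((iterCommutator D₁ C t ⊔ D₀ : Subgroup G) : Set G) :=
        fun t => H2.le_normalizer_sup (le_normalizer_iterCommutator le_normalizer_of_normal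
          le_normalizer t) le_normalizer_of_normal
      rw [commutator_comm, iterCommutator_succ]
      refine H2.three_subgroups'
        (((iterCommutator_le le_normalizer_of_normal _).trans hEP).trans (hN _)) (hN' _)
        (((iterCommutator_le le_normalizer_of_normal _).trans (hA₁Q.trans hQP)).trans (hN _)) ?_ ?_
      · rw [commutator_comm C]
        exact ih (s + 1) (t + 1) (by omega)
      · refine (commutator_mono (ih s t (by omega)) le_rfl).trans ?_
        refine H2.commutator_sup_left_le ?_ (le_sup_right.trans le_normalizer) le_sup_left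
          ((commutator_le_left _ _).trans le_sup_right)
        exact ((iterCommutator_le le_normalizer_of_normal _).trans
          (hD₁Z.trans (inf_le_left.trans hQP))).trans (hN _)
  have h2 := (key (i + j - 1) 0 j (by omega)).trans (sup_le (hZj _ _ hD hD₁Z) le_rfl)
  have h3 : E ⊓ ck A₁ D₀ ≤ V := by
    refine not_not.1 (hEmin _ inferInstance (lt_of_le_of_ne inf_le_left fun he => ?_))
    exact hD.1.not_ge (le_ck_iff'.1 (inf_eq_left.1 he))
  exact le_trans (le_inf (iterCommutator_le le_normalizer_of_normal _) (le_ck_iff'.2 h2)) h3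

end Cfsg.Agent.S2003
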