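import Cfsg.Statements.S1983
import Cfsg.Agent.H9.Stable
import Cfsg.Agent.S1982
import Cfsg.Agent.S2003
import Cfsg.Agent.H2.Omega

set_option autoImplicit false
universe u
open Cfsg

namespace Cfsg.Agent.S1983

open Cfsg.Agent.H9

open Subgroup
open scoped commutatorElement

theorem main {G : Type u} [Group G] [Finite G] {p : ℕ} [Fact p.Prime] {S : Subgroup G}
    (hS : IsSylowIn p S ⊤)
    (hK : ¬ (inducedFunctor kInfLower S).Normal ∨ ¬ (inducedFunctor kInfUpper S).Normal) :
    ∃ g ∈ S, g ∉ pCore p G ∧ (∀ U V : Subgroup G, IsChiefFactor U V → U ≤ pCore p G →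
      iterCommutator U (zpowers g) 4 ≤ V) ∧ ⁅⁅zc (pCore p G), zpowers g⁆, zpowers g⁆ = ⊥ ∧
      (Constrained p G → ∃ U V : Subgroup G, IsChiefFactor U V ∧ U ≤ pCore p G ∧
        ⁅⁅U, zpowers g⁆, zpowers g⁆ ≤ V ∧ ¬ ⁅U, zpowers g⁆ ≤ V) := by
  have hTp : IsPGroup p (pCore p G) := L.pCore_isPGroup p
  obtain ⟨H, hH, h1, h2, h3⟩ := H2.exists_critical hTp
  set A := H.map (pCore p G).subtype with hA
  have hAT : A ≤ pCore p G := Subgroup.map_subtype_le _
  have hAH : A.subgroupOf (pCore p G) = H :=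
    Subgroup.comap_map_eq_self_of_injective (pCore p G).subtype_injective _
  have hzc : (zc H).map (pCore p G).subtype = zc A := map_zc (pCore p G).subtype_injective _
  have hA1 : ∀ a ∈ A, a ^ p ∈ zc A := by
    rintro _ ⟨a, ha, rfl⟩
    rw [← hzc]
    exact ⟨a ^ p, ⟨pow_mem ha p, h1 a ha⟩, rfl⟩
  have hA3 : ⁅pCore p G, A⁆ ≤ zc A := by
    have := Subgroup.map_mono (f := (pCore p G).subtype) h2
    rwa [Subgroup.map_commutator, map_subtype_top, hzc, commutator_comm] at this
  have hA4 : pCore p G ⊓ centralizer (A : Set G) = zc A :=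
    le_antisymm (le_inf (inf_centralizer_map_subtype_le h3) inf_le_right)
      (inf_le_inf_right _ hAT)
  have hA5 : ∀ φ : MulAut ↥(Cfsg.pCore p G), (orderOf φ).Coprime p →
      (∀ a : ↥(Cfsg.pCore p G), (a : G) ∈ A → φ a = a) → φ = 1 := fun φ hφ h =>
    H2.mulAut_eq_one_of_fixes_self_centralizing hTp h3 (pow_orderOf_eq_one φ) hφ
      fun x hx => h x ⟨x, hx, rfl⟩
  obtain ⟨g, hgS, hgT, h4, h5, h6⟩ := S1982.main hS hAT hA3 _ (S1982.eq_one_of_hA5 hA5) hK
  refine ⟨g, hgS, hgT, ?_, ?_, fun hc => ?_⟩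
  · refine S2003.result (pCore p G) hTp A hAT (hAH ▸ hH) hA1
      ((commutator_mono hAT le_rfl).trans (hA3.trans inf_le_right)) hA3 hA4 hA5 g 3 2
      (by norm_num) (by norm_num) (fun U V hc hU => ?_) (fun U V hc hU => ?_)
    · have := hc.2.1
      have := hc.2.2.1
      by_cases h : U ⊓ zc A ≤ V
      · exact le_trans (le_inf (iterCommutator_le le_normalizer_of_normal _)
          ((iterCommutator_mono hU le_rfl 3).trans h4)) h
      · rw [← chief_eq_of_not_le hc inf_le_left h, iterCommutator_sup_le_iff]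
        refine (iterCommutator_succ_le le_normalizer_of_normal 2).trans ?_
        exact (iterCommutator_mono inf_le_right le_rfl 2).trans (h5.le.trans bot_le)
    · exact (iterCommutator_mono hU le_rfl 2).trans (h5.le.trans bot_le)
  · refine le_bot_iff.1 ((commutator_mono (commutator_mono ?_ le_rfl) le_rfl).trans h5.le)
    rw [← hA4]
    exact inf_le_inf_left _ (centralizer_le hAT)
  · obtain ⟨U, V, a, b, c⟩ := h6 hc
    exact ⟨U, V, a, b.trans hAT, c⟩


/-- Let p be a prime, G a finite group with Sylow p-subgroup S and T = O_p(G). Suppose that the lower or the upper K-infinity subgroup of S is not normal in G. Then there is an element g of S outside T such that [X, g, g, g, g] ≤ Y for every chief factor X/Y of G with X ≤ T, and [Z(T), g, g] = 1; and if moreover C_G(T) ≤ T then some quotient group of G is not p-stable (in the normalizer form: some quadratically acting element of a normalizer fails to map into O_p of the automizer). -/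
theorem result {G : Type u} [Group G] [Finite G] {p : ℕ} [Fact p.Prime] (S : Sylow p G) (hK : ¬ (Cfsg.inducedFunctor Cfsg.kInfLower (S : Subgroup G)).Normal ∨ ¬ (Cfsg.inducedFunctor Cfsg.kInfUpper (S : Subgroup G)).Normal) : ∃ g : G, g ∈ (S : Subgroup G) ∧ g ∉ (Cfsg.pCore p G) ∧ (∀ U V : Subgroup G, Cfsg.IsChiefFactor U V → U ≤ (Cfsg.pCore p G) → Cfsg.iterCommutator U (Subgroup.zpowers g) 4 ≤ V) ∧ ⁅⁅((Cfsg.pCore p G) ⊓ Subgroup.centralizer (((Cfsg.pCore p G) : Subgroup G) : Set G)), (Subgroup.zpowers g)⁆, (Subgroup.zpowers g)⁆ = ⊥ ∧ (Subgroup.centralizer (((Cfsg.pCore p G) : Subgroup G) : Set G) ≤ (Cfsg.pCore p G) → ∃ (N : Subgroup G) (_ : N.Normal), ¬ Cfsg.IsNormalizerPStable p (G ⧸ N)) := by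
  obtain ⟨g, h1, h2, h3, h4, h5⟩ := main (isSylowIn_top S) hK
  refine ⟨g, h1, h2, h3, h4, fun hc => ?_⟩
  obtain ⟨U, V, a, b, c, d⟩ := h5 hc
  have := a.2.2.1
  exact ⟨V, this, not_stable_of_chief a ((L.pCore_isPGroup p).to_le b) c d⟩

end Cfsg.Agent.S1983
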