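import Cfsg.Statements.S2530
import Cfsg.Agent.H1.Basic
import Mathlib.Data.Finite.Perm
import Mathlib.GroupTheory.Perm.Cycle.Type

set_option autoImplicit false
open Cfsg

namespace Cfsg.Agent.S2530

open Cfsg.Agent.H1
open scoped commutatorElement

def cc {G : Type*} [Group G] (s : ℕ → G) : ℕ → G
  | 0 => 1
  | k + 1 => s k * cc s k

theorem card_le {G : Type*} [Group G] (n : ℕ) : ∀ s : ℕ → G, (∀ i < n, s i * s i = 1) →
    (∀ i, i + 1 < n → s i * s (i + 1) * s i = s (i + 1) * s i * s (i + 1)) →
    (∀ i j, i + 1 < j → j < n → s i * s j = s j * s i) →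
    Finite (Subgroup.closure (s '' {i | i < n})) ∧
      Nat.card (Subgroup.closure (s '' {i | i < n})) ≤ (n + 1).factorial := by
  induction n with
  | zero => intro s _ _ _; simp; infer_instance
  | succ n ih =>
    intro s h1 h2 h3
    obtain ⟨hf, hc⟩ := ih (fun i => s (i + 1)) (fun i hi => h1 _ (by omega))
      (fun i hi => h2 _ (by omega)) (fun i j hi hj => h3 _ _ (by omega) (by omega))
    set H := Subgroup.closure ((fun i => s (i + 1)) '' {i | i < n}) with hH
    have hsH : ∀ i, 0 < i → i < n + 1 → s i ∈ H := fun i h0 hi =>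
      Subgroup.subset_closure ⟨i - 1, by simp; omega, by simp [Nat.sub_add_cancel h0]⟩
    have hgt : ∀ i k, k < i → i < n + 1 → s i * cc s k = cc s k * s i := by
      intro i k hk hi
      induction k with
      | zero => simp [cc]
      | succ k ihk => rw [cc, ← mul_assoc, ← h3 k i hk hi, mul_assoc, ihk (by omega), mul_assoc]
    have hlt : ∀ i k, i + 2 ≤ k → k ≤ n + 1 → s i * cc s k = cc s k * s (i + 1) := by
      intro i k hk hkn
      induction k, hk using Nat.le_induction with
      | base =>
        rw [cc, cc, ← mul_assoc, ← mul_assoc, h2 i (by omega), mul_assoc,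
          hgt (i + 1) i (by omega) (by omega)]
        simp only [mul_assoc]
      | succ k hk ihk =>
        rw [cc, ← mul_assoc, h3 i k (by omega) (by omega), mul_assoc, ihk (by omega), mul_assoc]
    have key : ∀ x ∈ Subgroup.closure (s '' {i | i < n + 1}), ∃ k ≤ n + 1, ∃ h ∈ H,
        x = cc s k * h := by
      have hm : ∀ i < n + 1, ∀ y, (∃ k ≤ n + 1, ∃ h ∈ H, y = cc s k * h) →
          ∃ k ≤ n + 1, ∃ h ∈ H, s i * y = cc s k * h := by
        rintro i hi _ ⟨k, hk, h, hh, rfl⟩
        rcases lt_trichotomy i k with h4 | rfl | h4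
        · rcases (by omega : i + 1 = k ∨ i + 2 ≤ k) with rfl | h5
          · exact ⟨i, by omega, h, hh, by
              rw [cc, ← mul_assoc, ← mul_assoc, h1 i hi, one_mul]⟩
          · exact ⟨k, hk, s (i + 1) * h, H.mul_mem (hsH _ (by omega) (by omega)) hh, by
              rw [← mul_assoc, hlt i k h5 hk, mul_assoc]⟩
        · exact ⟨i + 1, by omega, h, hh, by rw [cc, mul_assoc]⟩
        · exact ⟨k, hk, s i * h, H.mul_mem (hsH _ (by omega) hi) hh, by
            rw [← mul_assoc, hgt i k h4 hi, mul_assoc]⟩
      intro x hx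
      induction hx using Subgroup.closure_induction_left with
      | one => exact ⟨0, by omega, 1, H.one_mem, by simp [cc]⟩
      | mul_left x hx y _ ih =>
        obtain ⟨i, hi, rfl⟩ := hx
        exact hm i hi y ih
      | inv_mul_cancel x hx y _ ih =>
        obtain ⟨i, hi, rfl⟩ := hx
        rw [inv_eq_of_mul_eq_one_left (h1 i hi)]
        exact hm i hi y ih
    choose k hk h hh he using key
    let f : Subgroup.closure (s '' {i | i < n + 1}) → Fin (n + 2) × H := fun x =>
      (⟨k x x.2, Nat.lt_succ_of_le (hk x x.2)⟩, ⟨h x x.2, hh x x.2⟩)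
    have hinj : Function.Injective f := by
      intro x y hxy
      simp only [f, Prod.mk.injEq, Fin.mk.injEq, Subtype.mk.injEq] at hxy
      exact Subtype.ext (by rw [he x x.2, he y y.2, hxy.1, hxy.2])
    refine ⟨Finite.of_injective f hinj, (Nat.card_le_card_of_injective f hinj).trans ?_⟩
    rw [Nat.card_prod, Nat.card_fin, Nat.factorial_succ]
    exact Nat.mul_le_mul_left _ hc

/-- The Coxeter presentation of the symmetric group: for every n, the symmetric group on n+1 letters is the Coxeter group of type A_n with the adjacent transpositions (i, i+1) as simple reflections; that is, it is presented by generators r_1, …, r_n subject to r_i² = 1, (r_i r_j)² = 1 for |i − j| > 1 and (r_i r_{i+1})³ = 1, with r_i mapping to (i, i+1). -/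
theorem result (n : ℕ) :
    ∃ cs : CoxeterSystem (CoxeterMatrix.A n) (Equiv.Perm (Fin (n + 1))), ∀ i : Fin n, cs.simple i = Equiv.swap i.castSucc i.succ := by
  let cs := (CoxeterMatrix.A n).toCoxeterSystem
  have hl : (CoxeterMatrix.A n).IsLiftable
      (fun i : Fin n => Equiv.swap i.castSucc i.succ) := by
    intro i j
    simp only [CoxeterMatrix.A, Matrix.of_apply]
    have hi : i.castSucc ≠ i.succ := i.castSucc_lt_succ.ne
    have hj : j.castSucc ≠ j.succ := j.castSucc_lt_succ.ne
    have h3 : ∀ {a b c : Fin (n + 1)}, a ≠ b → a ≠ c → b ≠ c →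
      (Equiv.swap a b * Equiv.swap a c) ^ 3 = 1 := fun h1 h2 h3 => by
        rw [← (Equiv.Perm.isThreeCycle_swap_mul_swap_same h1 h2 h3).orderOf, pow_orderOf_eq_one]
    split_ifs with h h'
    · simp [h]
    · rcases h' with h' | h'
      · have : i.castSucc = j.succ := Fin.ext (by simp [h'])
        rw [Equiv.swap_comm j.castSucc, ← this]
        exact h3 hi (by simp [h]) (by simp [Fin.ext_iff]; omega)
      · have : j.castSucc = i.succ := Fin.ext (by simp [h'])
        rw [Equiv.swap_comm i.castSucc, this]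
        exact h3 hi.symm (by simp [h]) (by simp [Fin.ext_iff]; omega)
    · rw [Commute.mul_pow, sq, sq, Equiv.swap_mul_self, Equiv.swap_mul_self, mul_one]
      refine Equiv.Perm.Disjoint.commute (Equiv.Perm.disjoint_swap_swap ?_)
      simp [Fin.ext_iff] at h h' ⊢
      omega
  let φ := cs.lift ⟨_, hl⟩
  have hφ : ∀ i, φ (cs.simple i) = Equiv.swap i.castSucc i.succ := cs.lift_apply_simple hl
  have hsurj : Function.Surjective φ := by
    rw [← MonoidHom.mrange_eq_top, eq_top_iff, ← Equiv.Perm.mclosure_swap_castSucc_succ,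
      Submonoid.closure_le]
    rintro _ ⟨i, rfl⟩
    exact ⟨_, hφ i⟩
  let s : ℕ → (CoxeterMatrix.A n).Group := fun i => if h : i < n then cs.simple ⟨i, h⟩ else 1
  obtain ⟨hf, hc⟩ := card_le n s (fun i hi => by simp [s, hi])
    (fun i hi => by
      have := cs.simple_mul_simple_pow ⟨i, by omega⟩ ⟨i + 1, hi⟩
      rw [show CoxeterMatrix.A n ⟨i, by omega⟩ ⟨i + 1, hi⟩ = 3 by simp [CoxeterMatrix.A]] at this
      simp only [s, dif_pos hi, dif_pos (show i < n by omega)]
      rw [← mul_inv_eq_one, ← this, pow_three]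
      simp [mul_assoc])
    (fun i j hi hj => by
      have := cs.simple_mul_simple_pow ⟨i, by omega⟩ ⟨j, hj⟩
      rw [show CoxeterMatrix.A n ⟨i, by omega⟩ ⟨j, hj⟩ = 2 by
        simp only [CoxeterMatrix.A, Matrix.of_apply, Fin.mk.injEq]
        rw [if_neg (by omega), if_neg (by omega)]] at this
      simp only [s, dif_pos hj, dif_pos (show i < n by omega)]
      rw [← mul_inv_eq_one, ← this, sq]
      simp [mul_assoc])
  have htop : Subgroup.closure (s '' {i | i < n}) = ⊤ := by
    rw [eq_top_iff, ← cs.subgroup_closure_range_simple]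
    refine Subgroup.closure_mono ?_
    rintro _ ⟨i, rfl⟩
    exact ⟨i, i.2, by simp [s]⟩
  rw [htop] at hf hc
  have : Finite (CoxeterMatrix.A n).Group := Finite.of_equiv _ Subgroup.topEquiv.toEquiv
  have hbij := hsurj.bijective_of_nat_card_le (by
    rwa [Nat.card_perm, Nat.card_fin, ← Subgroup.card_top])
  exact ⟨cs.map (MulEquiv.ofBijective φ hbij), hφ⟩

end Cfsg.Agent.S2530
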