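import Cfsg.Statements.S2650
import Cfsg.Agent.H4.M23Ext

set_option autoImplicit false
open Cfsg

set_option maxRecDepth 100000

namespace Cfsg.Agent.S2650

open Cfsg.Agent.H4 Cfsg.Agent.H4.Coh
open scoped Pointwise

/-- The table of the factor set. -/
def TH : ℕ := nat_lit 0xdc95d3a02548496b93cd770883c2ea3e444e22427464c0bf47b683d10cd230bb5d58e0dfcdbef9cf0372102ccedcbaef202bf9af8d6c6be035f44ec6585113a26aaf5be70cddc23a2d040c5e093947cb4d026d4120b04aaf4c1f00683f4125ca2edce5ae0fd1fa3f4e42eff2e446a5cb2ba963273f9870d5600b92730a450c9c253fffa15df61d29bbf2af097095e445199350468267d95212903d3314cca31c24490cd8296995138478482801bd4d3f3360a41571cea33e48cc35ebf7256d6c826c6e9a5542070f38a2c37562d761ab5d93d130ebf81d691f202048000de9dee43f01b81e24202265374d040c611d320280bd73574d120c5143150700d35200efd41bf57eaa33c2e0e216d14a43ff19e51fbf0e7357714c0c50253a0778217335b10207611b31077883abfd20226c0abf7d0dddd02f2f145e626798f31fb7c441315fa5526751d2b8a798af2e5052ae6888054338c088b92a8fbaacd9b7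f64a4cffffc3c9bd0a41e4e59a14d868b914a9ce105650e888ce68b50329ce487195709ca076fef819ce81503260cf24a4ca8417a3a6de200a6dfc6c5ba47cc802922aaf820411980a0bf6bd6914a86c9550380c445981b60c6f5f254606921c53e6f92012310411a4540bf7db4614d06eea6ea7a277c804912f574c82b0344244a8a1bd09f7df5e69015e66c006830d9f4b806148650ecbcec2868a678063842a85caf6c94692bf17e2fc37c905a61bdfe5251a4a6ede3381181e60e871bc4d2605678d50aff5fec96ed5b90085c141010140d1815bc0fdf5099123863487e535e3030b3abd6cec7129bc6d402520990023c6b0e28088109935ebf651c99100905982993a8cd38df13275c892a7a416e839136778176855376441841daf73de6c42b2a7805ff78bf1797f42abfc06662c5f37de7fbbd4979924f8fe699b2103fc4cc8015fc5d6aa4a63a88d440c9b00983fe73be159b3901a8a4a8333e07230e0a0cd001bd4f43b5677dc99631f36ce866c2733324ca841f80fab66c630819c35a6006670f705780820413685405e395c9e31e0f1b122647476f0d62754833b014cea81e227ce084763b748e91f5f86a7cd800424b9601483c84fe8845567031cf2a51062abd891dfe41c19db38a0f08f198b30aff794f2b150ae2760178b0acc5543bff25edf71b7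11230881331b0568c1befd705d682bef780a2d96919a50af7498212d01ecc4175900f730f665dd1ccbaac46a4164a53f3265946074732f21faf9926ef68526b78ed252428c6c8906ba4125701e03faf4054d06b96518d9098f31ec8ab6d3207e3c91130452cf881fbe8eef8c8293b8534d481f924a17e4830002164a8e2e6cf6e46b2494ccd61945310cdf798395117453468801924f8f839093080acf4961928ef727689f81a9b440c99f0c63da99830c0280cab2fa837ac8d7595f7aa0a8779aac5bbb3ca6ec9ade57f04696bce53bf58ec4daf1adb5abffdfda61bdd9963e58cb1d9b81dd32df879298053820d832ced26f879068031424382080083cffb00ac6740b19dd7114b1548480bd11840079891838f7ff89151c0694b97485474e0a47f4ecf9eb51c500ffcb558ac472691dde6294310b0641db124080b663078b4e0187eaecfc73c6889834afff486b30068ce2c082bfccdc4ac25da81ddf69953307c4c5398831064d975962bfbcacfd8832224e92bb12e7b55d9b8833429025fe7279e9f0c71b22043e0ed2300a0036115394a86c88116052445855a3898ffb5f69434024e41a06bc49e59023223e444ec665b30c1d8183b817809ab6c1443ab5f81f03b2bb5b07cfe6ca51c11aef192cd9afb62893b5f10f659a33dc862b98017cbe46b0f9147914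9a0bab183e4538ba53773c67973c4c11421449cff4f4325ce564d8c8ad2cac3e445cd2105c9163366544efb4483324c2ee3f55db7c4e694b1064e52f45b69117f346c22022371990e4090b9603521100c59bfb428d3afded91766235c962998414beecc9de53f534ffe63de1700d39212c492fef0c12ebf794f29b7fb4def381b9df7def971466be7335b14d8e911b3103800d60d5014d8c611d1d07604b849a009ff949712802e477356c020621b30864eee1b1613501140c906531c760b264d7714c05610331c60038790743780c86f6f7fde305d010cfb314090d2264f8397b16275c46859589f2ae49908998bdb84a145508513972064174ce02146d8c654ae29d75e9fa1f79525424b631949ce694946109dc71520891704d0316c9701228e29211a864495949b8881f1a83b1324d8d8d391c7f291cafe730bf9ca9d4b948ab8b789f13adfc159b1c7d6dc11d402079c9f5ee2a588dbb446b394365611ab70ebf7191a20857088a6ee1075a5650d8eb1d63374168371cd0cc98eb2f2a18adad2c9be885337066c2c95db9cdafd8afa5aa8fd08ddc117b9d8c80a2867c4c0e1444b044f0e3bd6db37a8e0d7f14140a1a2a5ece3a407831a470767935b5010cc0610a0020e2ae2d9a12ec4c28aff5fed284bb40fbfe08a90743cceacd10dbb216d95913a2f86c51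50db805ff6b5d6b97f8b68353b2a48441bafb73e41bdfc0a3e25af6ff9bedb3be4d71304893b9b64e8e971810820d0bcdbee52cd0926ae6f0022a0682007c6c820823902d0b14ccda2f14ad8939998f97598bd06067c68091940d03fd73dce9c4b4cc803af9bd45a14476c15b01b0a4694bad10c1ce44003738e71e9f2c3e0d30206739101a820848be0eb8632c382811421064be0c742caff2987fcce54c7786cd49cc2809070054c4883b94d87489d40423145af767f76648b60bd31893051918f49034d34e4329b1d72fcda60827185123002c58885968c8737615d31d0b0a0e9a38903448aa28230ce5f6e7fb3e44e2764b2c49fb39ad9a402b3d6783f6fab39e1bc2b1b0fcd68d540a1be787791480fc8eaa919287f18775030ff9a737210063c192ff801e028b7e6c65aa099932bd7165aea254c6481948a0bd7f9a297e6e213bf2b7135d0439943144e095abefb07b2101d9120320737997515d81c9093084546b961928a0f8086930452c6b939b54f97c042181d03a3f359c1c22240e46cefc470c858a22bc78090f1f4554d8939b68a77ac90f3381ac68801bd4a6f20ade712addf0df83af9bdb3713e27b1fd655f04fdd589fafcd7ddbf8bcbeee3b2d61483d42bc3b41439d835a0d6c81561a59e1840d430e760d7f16682c11d3205d01d931a00eafc28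092805b4d6afff5056e95aff5a0a956015bb90fcb37773d318933671d5b3024d445f9c72d6367d47a9734c02be78cd658eafdf3676ae4eafd639dbc2eac41d218bccd6a1940a04a46df4452c995a13c7d8c85160ddd251102204460cc095fa828fb85d5386b73240297e9a3ee110b3022484d6151bb8a033261ffd58c3e01f497aca3100921466c09b35aeea2e2f73044a6c61e176751962099111304000ad1930f0440236095355d0d75aeb030824d41c2979b16c8813900c46a80b874d175a82415266448e866e7314ccbe2470f896b82a910f534c02a06849cff5ca159ce5843e2534f45ab73a6753dc48cb281d63273e4270d2088e8581f407806bcec281dac2c09adf50a5e9b7b52c0bbaea1d43b53baa27ebe6b2bae68f59c43aecc60f5901ec82e17a3ac4dfea4033445a38a5ba909ef266c9214251fc5fe9ccf78f114b1064ab0f9218408966055110002c4192ffa7d23681d3ffe75a83d93eedb41c8daaf3e2c595b93efbb42cd38df662ff1e7bce97f6c24767e8056cc2a2fb8bd4aae059ec6de0ffb6d13ccd2f19de5fbf0c07ab1e933a21a025a1a0cc733605020760c13100104cd542f7c5d45bc052e9f50c11c9ee94b111a026644050ffd6e1634d1e79f19fdf5c72d4c9140c90811600080ff606fd6802fda6981262b5cdd20fc41818331220009acdb0cf8a13290d1920006cbfed0c002d0800000000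

/-- A chain for the Mathieu group. -/
def L : List (CG.Level ℕ) :=
  [(0, [0xb88e92a9d16cacb9b215206861a00f],
     [(0, 0), (0, 0), (1, 1), (2, 2), (3, 3), (4, 4), (5, 5), (0, 5), (1, 5), (2, 6), (3, 7), (5, 8), (0, 8), (2, 9), (6, 10), (0, 10), (1, 11), (2, 12), (3, 12), (4, 13), (6, 14), (3, 5)]),
   (1, [0xbd1b644a6c226158b8eb504a278cc0],
     [(0, 0), (1, 0), (2, 1), (3, 2), (4, 3), (5, 4), (0, 4), (1, 5), (2, 6), (0, 6), (1, 7), (2, 8), (5, 9), (0, 9), (1, 10), (0, 10), (1, 11), (3, 12), (0, 11), (2, 8), (2, 7)]),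
   (2, [0xbc5827b9683360451e72b0cb44d420],
     [(0, 0), (0, 0), (1, 1), (2, 2), (3, 3), (4, 4), (0, 4), (1, 5), (2, 6), (3, 7), (0, 7), (4, 8), (0, 8), (1, 9), (3, 10), (1, 9), (2, 9), (2, 9), (0, 9), (3, 8)]),
   (3, [0xbb26f30db251105751313d6cb80820],
     [(0, 0), (0, 0), (2, 1), (3, 2), (1, 2), (2, 3), (3, 4), (0, 4), (0, 4), (1, 5), (1, 5), (2, 6), (0, 6), (1, 7), (0, 7), (1, 8), (0, 7), (1, 7), (1, 5)]),
   (4, [0xbb54c79cb044486aae534d1d618820, 0xb9d367add3814d263488a2a3518820],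
     [(0, 0), (1, 1), (0, 1), (1, 2), (0, 2), (1, 3), (2, 4), (1, 4), (2, 5), (1, 5), (2, 6), (0, 6), (0, 6), (0, 6), (2, 1)]),
   (5, [0xbb5135bdd63160aa1ea964a2418820],
     [(0, 0), (0, 0)])]

/-- Generators with their quadratic forms. -/
def gq : List (ℕ × ℕ) := [(0xb88e92a9d16cacb9b215206861a00f, 0x60040020180060321301ec18e), (0xbd1b644a6c226158b8eb504a278cc0, 0x400400601c02e0000001325b2), (0xbc5827b9683360451e72b0cb44d420, 0x200400200c0260300520de0a259e), (0xbb26f30db251105751313d6cb80820, 0x200400601e01e06a08c07232c2c6), (0xbb54c79cb044486aae534d1d618820, 0x200600c00c0040020c013433e518), (0xb9d367add3814d263488a2a3518820, 0x60000080080500d604008a570), (0xbb5135bdd63160aa1ea964a2418820, 0x400400000006c0ec1481025a4)]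

/-- Two letters. -/
def S : List ℕ := [0xbd8851ca2ea40207a5a79d5624194c, 0xbda6114a2c501f04969530da72216e]

/-- Their quadratic forms. -/
def Qs : List ℕ := [0x200201201e04a0781643703c8, 0x200200e01a0240560fa04c06a654]

/-- The data for the obstruction. -/
def P : Par := ⟨44, 24, 5, 11, parD.Bt, vB, S, [([0, 0], [1, 1]), ([1, 0, 1], [0])]⟩

/-- The obstruction. -/
def mu : ℕ := 0x20b6


/-- Binary words. -/
abbrev W := GolayPt → ZMod 2

/-- The code words vanishing at the extra point. -/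
def V : AddSubgroup W where
  carrier := {w | w ∈ golayCode ∧ w none = 0}
  add_mem' := fun {a b} ha hb =>
    ⟨golayCode.add_mem ha.1 hb.1, by rw [Pi.add_apply, ha.2, hb.2, add_zero]⟩
  zero_mem' := ⟨golayCode.zero_mem, rfl⟩
  neg_mem' := fun {a} ha => ⟨golayCode.neg_mem ha.1, by rw [Pi.neg_apply, ha.2, neg_zero]⟩

theorem support_comp (g : Equiv.Perm GolayPt) (w : W) : support₂ (w ∘ ⇑g⁻¹) = g • support₂ w := by
  ext a
  obtain ⟨b, rfl⟩ := g.surjective a
  rw [apply_mem_smul_iff, mem_support₂, mem_support₂]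
  simp

/-- The action on the shortened code. -/
def act (σ : Spor.M23) (u : V) : V :=
  ⟨u.1 ∘ ⇑(σ : Equiv.Perm GolayPt)⁻¹, by
    rw [← support_mem_code_iff, support_comp]
    exact smul_mem_code σ.2.1 ((support_mem_code_iff _).mpr u.2.1),
    by rw [Function.comp, show (σ : Equiv.Perm GolayPt)⁻¹ none = none from (σ⁻¹).2.2]; exact u.2.2⟩

theorem act_one (u : V) : act 1 u = u := rfl
theorem act_mul (σ τ : Spor.M23) (u : V) : act (σ * τ) u = act σ (act τ u) := rfl
theorem act_add (σ : Spor.M23) (u v : V) : act σ (u + v) = act σ u + act σ v := rfl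

theorem word_comp {g : Equiv.Perm GolayPt} {p : ℕ} (hg : gE.Rep g p) (m : ℕ) :
    word m ∘ ⇑g⁻¹ = word (push 24 5 p m) :=
  support₂_injective (by rw [support_comp, support_word, support_word, hg.smul_ofMask])

/-- The value of a linear form. -/
def lf (c : ℕ) (v : W) : ZMod 2 := dot 24 c fun i => v (gE.pt i)

theorem lf_add (c : ℕ) (u v : W) : lf c (u + v) = lf c u + lf c v := dot_add _ _ _ _

theorem lf_word (c : ℕ) {m : ℕ} (hm : m < 2 ^ 24) : lf c (word m) = (pc24 (Nat.land c m) : ℕ) := by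
  rw [lf, dot_word]
  exact congrArg _ (pc24_eq (lt_of_le_of_lt Nat.and_le_right hm)).symm

/-- The factor set. -/
noncomputable def th (u v : W) : ZMod 2 := lf (img 11 TH (gE.toMask (support₂ u) % 2048)) v

theorem th_word {m : ℕ} (hm : m < 2 ^ 24) (v : W) :
    th (word m) v = lf (img 11 TH (Nat.mod m 2048)) v := by
  rw [th, support_word, gE.toMask_ofMask hm]; rfl

/-- A bilinear form. -/
def bq (Q : ℕ) (u v : W) : ZMod 2 := ∑ i ∈ Finset.range 11, u (gE.pt i) * lf (img 11 Q i) v

theorem bq_add_left (Q : ℕ) (u u' v : W) : bq Q (u + u') v = bq Q u v + bq Q u' v := by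
  simp only [bq, Pi.add_apply, add_mul, Finset.sum_add_distrib]

theorem bq_add_right (Q : ℕ) (u v v' : W) : bq Q u (v + v') = bq Q u v + bq Q u v' := by
  simp only [bq, lf_add, mul_add, Finset.sum_add_distrib]

theorem bq_word (Q m : ℕ) (v : W) : bq Q (word m) v = lf (lcomb 11 11 m Q) v := by
  rw [lf, dot_lcomb, bq, dot]
  refine Finset.sum_congr rfl fun i hi => ?_
  rw [word, gE.ix_pt i (by have := Finset.mem_range.mp hi; omega)]
  split_ifs
  · exact one_mul _
  · exact zero_mul _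

theorem vB_mem : ∀ c ∈ vB, c < 2 ^ 24 ∧ word c ∈ V := fun c hc =>
  have h := (by decide +kernel : ∀ c ∈ vB, inC c = true ∧ word c none = 0) c hc
  ⟨lt_of_inC h.1, word_mem_of_inC h.1, h.2⟩

theorem V_ind (f : V → ZMod 2) (hadd : ∀ a b, f (a + b) = f a + f b)
    (hb : ∀ c (hc : c ∈ vB), f ⟨word c, (vB_mem c hc).2⟩ = 0) (v : V) : f v = 0 := by
  let F : V →+ ZMod 2 := AddMonoidHom.mk' f hadd
  have hm : ∀ l : Fin 11, getL 0 vB l ∈ vB := by decide
  let b : Fin 11 → V := fun l => ⟨word (getL 0 vB l), (vB_mem _ (hm l)).2⟩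
  let s : V := ∑ l : Fin 11, (v.1 (gE.pt l)).val • b l
  have h1 : v + s = 0 := by
    refine Subtype.ext (eq_zero_of_info (v + s).2.1 (v + s).2.2 fun k hk => ?_)
    have h2 : ∀ l k : Fin 11, word (getL 0 vB l) (gE.pt k) = if l = k then 1 else 0 := by
      decide +kernel
    have h3 : (s : W) (gE.pt k) = v.1 (gE.pt k) := by
      simp only [s, b, AddSubmonoidClass.coe_finsetSum, Finset.sum_apply, AddSubmonoidClass.coe_nsmul,
        Pi.smul_apply, h2 _ ⟨k, hk⟩]
      simp
    show v.1 _ + (s : W) _ = 0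
    rw [h3, add_self2]
  have h2 : F s = 0 := by
    rw [map_sum]
    exact Finset.sum_eq_zero fun l _ => by
      rw [map_nsmul, show F (b l) = 0 from hb _ (hm l), smul_zero]
  have h3 := congrArg F h1
  rwa [map_add, h2, add_zero, map_zero] at h3

/-- The elements of the extension. -/
@[ext] structure El where
  /-- the permutation -/
  σ : Spor.M23
  /-- the signs -/
  q : V → ZMod 2
  h : ∀ u v : V, q (u + v) = q u + q v + th u v + th (act σ u) (act σ v)

theorem aux1 (a b c d e f g : ZMod 2) : a + b + c + d + (e + f + g + c) = a + e + (b + f) + g + d := by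
  revert a b c d e f g; decide

theorem aux2 (a b c d : ZMod 2) : a + b + c + d = a + b + d + c := by ring

noncomputable instance instMulEl : Mul El := ⟨fun a b => ⟨a.σ * b.σ, fun u => a.q (act b.σ u) + b.q u,
  fun u v => by rw [act_add, a.h, b.h, act_mul, act_mul, aux1]⟩⟩

noncomputable instance instOneEl : One El := ⟨⟨1, fun _ => 0, fun u v => by
  rw [act_one, act_one, add_zero, zero_add, add_self2]⟩⟩

noncomputable instance instInvEl : Inv El := ⟨fun a => ⟨a.σ⁻¹, fun u => a.q (act a.σ⁻¹ u), fun u v => by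
  rw [act_add, a.h, ← act_mul, ← act_mul, mul_inv_cancel, act_one, act_one, aux2]⟩⟩

theorem mul_σ (a b : El) : (a * b).σ = a.σ * b.σ := rfl
theorem mul_q (a b : El) (u : V) : (a * b).q u = a.q (act b.σ u) + b.q u := rfl

noncomputable instance instGroupEl : Group El := Group.ofLeftAxioms
  (fun a b c => El.ext (mul_assoc _ _ _) (funext fun u => by
    simp only [mul_q, mul_σ, act_mul, add_assoc]))
  (fun a => El.ext (one_mul _) (funext fun u => zero_add _))
  (fun a => El.ext (inv_mul_cancel _) (funext fun u => by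
    show a.q (act a.σ⁻¹ (act a.σ u)) + a.q u = 0
    rw [← act_mul, inv_mul_cancel, act_one, add_self2]))

instance instFiniteEl : Finite El :=
  Finite.of_injective (fun a : El => (a.σ, a.q)) fun _ _ h =>
    El.ext (congrArg Prod.fst h) (congrArg Prod.snd h)

/-- The projection. -/
noncomputable def pr : El →* Spor.M23 := MonoidHom.mk' El.σ mul_σ

/-- The standard bilinear form. -/
def ip (w u : W) : ZMod 2 := ∑ a, w a * u a

theorem ip_word (w : W) (c : ℕ) : ip w (word c) = lf c w := by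
  rw [ip, lf, dot, Finset.sum_range, ← gE.equivFin.symm.sum_comp]
  refine Finset.sum_congr rfl fun i _ => ?_
  show w (gE.pt i) * word c (gE.pt i) = _
  rw [word, gE.ix_pt i i.2]
  split_ifs
  · exact mul_one _
  · exact mul_zero _

theorem ip_add_right (w u v : W) : ip w (u + v) = ip w u + ip w v := by
  simp only [ip, Pi.add_apply, mul_add, Finset.sum_add_distrib]

theorem ip_add_left (w w' u : W) : ip (w + w') u = ip w u + ip w' u := by
  simp only [ip, Pi.add_apply, add_mul, Finset.sum_add_distrib]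

/-- The sign changes. -/
noncomputable def io (w : W) : El := ⟨1, fun u => ip w u, fun u v => by
  rw [act_one, act_one, add_assoc, add_self2, add_zero]; exact ip_add_right _ _ _⟩

theorem io_add (u v : W) : io (u + v) = io u * io v :=
  El.ext (mul_one _).symm (funext fun _ => ip_add_left _ _ _)

theorem io_act (g : El) (w : W) :
    io (w ∘ ⇑(g.σ : Equiv.Perm GolayPt)⁻¹) = g * io w * g⁻¹ := by
  rw [eq_mul_inv_iff_mul_eq]
  refine El.ext ((one_mul _).trans (mul_one _).symm) (funext fun u => ?_)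
  show ip _ (act g.σ u) + g.q u = g.q u + ip w u
  rw [add_comm]
  exact congrArg _ (Equiv.sum_comp (g.σ : Equiv.Perm GolayPt)⁻¹ fun a => w a * u.1 a)

theorem io_eq_one (w : W) : io w = 1 ↔ (w ∈ golayCode ∨ w + Pi.single none 1 ∈ golayCode) := by
  rw [dual_iff]
  constructor
  · intro h c hc
    exact (ip_word w c).symm.trans (congrFun (congrArg El.q h) ⟨word c, (vB_mem c hc).2⟩)
  · intro h
    exact El.ext rfl (funext (V_ind _ (fun a b => ip_add_right _ _ _) fun c hc =>
      (ip_word w c).trans (h c hc)))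

theorem ip_bas (τ : ℕ → ZMod 2) {l : ℕ} (hl : l < 11) :
    ip (bas (P := P) gE τ) (word (getL 0 vB l)) = τ l := by
  rw [ip_word]
  refine (co_bas (P := P) gE _ τ).trans ?_
  have : ∀ l < 11, lcomb 11 24 (getL 0 vB l) parD.Bt = 2 ^ l := by decide +kernel
  exact (congrArg (dot 11 · τ) (this l hl)).trans (dot_two_pow hl τ)

theorem exists_io (e : El) (he : e.σ = 1) : ∃ w, io w = e := by
  classical
  refine ⟨bas (P := P) gE fun l => if h : word (getL 0 vB l) ∈ V then e.q ⟨_, h⟩ else 0,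
    El.ext he.symm (funext fun u => ?_)⟩
  rw [← add_left_inj (e.q u), add_self2]
  refine V_ind (fun u => ip _ u + e.q u) (fun a b => ?_) (fun c hc => ?_) u
  · rw [e.h, he, act_one, act_one, add_assoc (e.q a + e.q b), add_self2, add_zero,
      AddSubgroup.coe_add, ip_add_right]
    ring
  · obtain ⟨l, hl, rfl⟩ := List.getElem_of_mem hc
    have h1 := getL_of_lt 0 vB hl
    simp only [← h1]
    rw [ip_bas _ hl, dif_pos (h1 ▸ (vB_mem _ hc).2), add_self2]

/-- The check that a quadratic form lifts a permutation. -/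
def liftOK (p Q : ℕ) : Bool :=
  band (memCfg [23] [] p) (allLt 4096 fun x => bor (tb (cw x) 23) (allL vB fun c =>
    Nat.beq (Nat.mod (Nat.add (Nat.add (pc24 (Nat.land (img 11 TH (Nat.mod (cw x) 2048)) c))
      (pc24 (Nat.land (img 11 TH (Nat.mod (push 24 5 p (cw x)) 2048)) (push 24 5 p c))))
      (Nat.add (pc24 (Nat.land (lcomb 11 11 (cw x) Q) c))
        (pc24 (Nat.land (lcomb 11 11 c Q) (cw x))))) 2) 0))

theorem exists_lift {p Q : ℕ} (h : liftOK p Q = true) :
    ∃ e : El, gE.Rep (e.σ : Equiv.Perm GolayPt) p ∧ ∀ u, e.q u = bq Q u u := by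
  rw [liftOK, band_eq, Bool.and_eq_true, allLt_iff] at h
  obtain ⟨g, hg, hp⟩ := sound_cfg _ _ p h.1
  replace hp : gE.Rep g p := hp
  refine ⟨⟨⟨g, M23_eq ▸ hg⟩, fun u => bq Q u u, fun u v => ?_⟩, hp, fun _ => rfl⟩
  have h1 := V_ind (fun v => th u v + th (act ⟨g, M23_eq ▸ hg⟩ u) (act ⟨g, M23_eq ▸ hg⟩ v) +
      (bq Q u v + bq Q v u)) (fun a b => by
    simp only [act_add, AddSubgroup.coe_add, th, lf_add, bq_add_left, bq_add_right]
    ring) (fun c hc => by
    obtain ⟨u, hu1, hu2⟩ := u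
    obtain ⟨m, hm, rfl⟩ := exists_word u
    obtain ⟨x, hx, rfl⟩ := inC_iff.mp ((word_mem_iff hm).mp hu1)
    have h2 := h.2 x hx
    rw [bor_eq, Bool.or_eq_true, tb_eq] at h2
    have h3 := allL_iff.mp (h2.resolve_left fun h3 => by
      rw [word, gE_ix_none, if_pos h3] at hu2; exact one_ne_zero hu2) c hc
    simp only [act, word_comp hp]
    rw [th_word hm, th_word (hp.push_lt _), bq_word, bq_word, lf_word _ (vB_mem c hc).1,
      lf_word _ (hp.push_lt _), lf_word _ (vB_mem c hc).1, lf_word _ hm, ← Nat.cast_add,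
      ← Nat.cast_add, ← Nat.cast_add, ZMod.natCast_eq_zero_iff, Nat.dvd_iff_mod_eq_zero]
    exact Nat.eq_of_beq_eq_true h3) v
  rw [AddSubgroup.coe_add, bq_add_left, bq_add_right, bq_add_right]
  revert h1
  generalize bq Q u u = a
  generalize bq Q u v = b
  generalize bq Q v u = c
  generalize bq Q v v = d
  generalize th u v = e
  generalize th (act _ u) (act _ v) = f
  revert a b c d e f; decide

theorem check_gq : allL gq (fun c => liftOK c.1 c.2) = true := by decide +kernel

theorem check_S : allLt 2 (fun i => liftOK (P.lc i) (getL 0 Qs i)) = true := by decide +kernel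

theorem pr_surj : Function.Surjective pr := by
  have h1 := CG.le_card_of_check (gE.cg_keyed (by norm_num)) (p := isPerm 24 5)
    (fun _ h => gE.exists_rep h) (L := L) (n := 10200960) rfl (by decide +kernel)
  have h2 : (Spor.M23.subtype.comp pr).range = Spor.M23 := by
    refine Subgroup.eq_of_le_of_card_ge (by rintro _ ⟨e, rfl⟩; exact e.σ.2) ?_
    rw [card_M23]
    refine le_trans h1 (Subgroup.card_le_of_le (CG.gen_le_of_in gE.cg_uniq fun c hc => ?_))
    obtain ⟨d, hd, rfl⟩ := List.mem_map.mp (show c ∈ gq.map Prod.fst from hc)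
    obtain ⟨e, he, -⟩ := exists_lift (allL_iff.mp check_gq d hd)
    exact ⟨_, ⟨e, rfl⟩, he⟩
  intro g
  obtain ⟨e, he⟩ := h2.ge g.2
  exact ⟨e, Subtype.ext he⟩

/-- The data of the extension. -/
noncomputable def X : Data (P := P) gE El :=
  cocodeData (Spor.M23.subtype.comp pr) io io_add io_act (fun e =>
    ⟨fun h => exists_io e (Subtype.ext h), by rintro ⟨u, rfl⟩; rfl⟩) io_eq_one _ _ _

/-- The sign and the image of a word acting on a code word. -/
def qw (w : List ℕ) (m : ℕ) : ℕ × ℕ :=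
  List.rec (0, m) (fun a _ ih => (Nat.add (pc24 (Nat.land (lcomb 11 11 ih.2 (getL 0 Qs a)) ih.2)) ih.1,
    push 24 5 (P.lc a) ih.2)) w

theorem qw_spec {x : ℕ → El} (hx : X.Lifts x) (hq : ∀ i u, (x i).q u = bq (getL 0 Qs i) u u)
    {m : ℕ} (hm : m < 2 ^ 24) (h : word m ∈ V) (w : List ℕ) : (qw w m).2 < 2 ^ 24 ∧
      (act (ev x w).σ ⟨_, h⟩ : W) = word (qw w m).2 ∧ (ev x w).q ⟨_, h⟩ = ((qw w m).1 : ℕ) := by
  induction w with
  | nil => exact ⟨hm, rfl, rfl⟩
  | cons a w ih =>
    obtain ⟨h1, h2, h3⟩ := ih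
    refine ⟨(hx a).push_lt _, ?_, ?_⟩
    · rw [ev_cons, mul_σ, act_mul]
      exact (congrArg (· ∘ _) h2).trans (word_comp (hx a) _)
    · rw [ev_cons, mul_q, hq, h2, h3, bq_word, lf_word _ h1, ← Nat.cast_add]; rfl

/-- The preimage of a basis word. -/
def pre (t : ℕ) : ℕ := pull 24 5 (P.pcode (P.rule (t / 11)).2) (getL 0 vB (t % 11))

/-- The tails. -/
def tv (t : ℕ) : ℕ := (qw (P.rule (t / 11)).1 (pre t)).1 + (qw (P.rule (t / 11)).2 (pre t)).1

theorem nonsplit (H : Subgroup El) (h1 : H ⊓ pr.ker = ⊥) : H ⊔ pr.ker ≠ ⊤ := fun h2 => by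
  have h3 : ∀ i, ∃ e : El, gE.Rep (e.σ : Equiv.Perm GolayPt) (P.lc i) ∧
      (∀ u, e.q u = bq (getL 0 Qs i) u u) ∧ (P.S.length ≤ i → e = 1) := fun i => by
    by_cases hi : i < 2
    · obtain ⟨e, h4, h5⟩ := exists_lift (allLt_iff.mp check_S i hi)
      exact ⟨e, h4, h5, fun h => absurd hi (not_lt.mpr h)⟩
    · refine ⟨1, ?_, fun u => ?_, fun _ => rfl⟩
      · rw [Par.lc, getL_of_le _ _ (not_lt.mp hi)]; exact Enc.rep_one
      · rw [getL_of_le _ _ (not_lt.mp hi)]
        simp only [bq, img_zero, lf, dot_zero, mul_zero, Finset.sum_const_zero]; rfl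
  choose x hx hq hx1 using h3
  have hx' : X.Lifts x := hx
  obtain ⟨τ, hτ⟩ := hx'.exists_tails (by decide +kernel)
  have hk : X.π.ker = pr.ker := by
    ext g; exact ⟨fun h => Subtype.ext h, fun h => congrArg Subtype.val h⟩
  have h4 := Data.dot_eq_zero_of_compl hx' hx1 (by decide +kernel) hτ (μ := mu)
    (by decide +kernel) (hk ▸ h1) (hk ▸ h2)
  have h5 : ∀ t < 22, inC (pre t) = true ∧ word (pre t) none = 0 ∧
      (qw (P.rule (t / 11)).2 (pre t)).2 = getL 0 vB (t % 11) := by decide +kernel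
  rw [dot_congr (τ' := fun t => (tv t : ZMod 2)) fun t _ ht => ?_, dot_eq_cast] at h4
  · revert h4; decide +kernel
  have h6 : t < 22 := by
    by_contra h6
    rw [Nat.testBit_lt_two_pow (lt_of_lt_of_le (show mu < 2 ^ 22 by decide)
      (Nat.pow_le_pow_right two_pos (not_lt.mp h6)))] at ht
    exact Bool.false_ne_true ht
  obtain ⟨h7, h8, h9⟩ := h5 t h6
  have h10 : word (pre t) ∈ V := ⟨word_mem_of_inC h7, h8⟩
  obtain ⟨-, -, a1⟩ := qw_spec hx' hq (lt_of_inC h7) h10 (P.rule (t / 11)).1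
  obtain ⟨-, a2, a3⟩ := qw_spec hx' hq (lt_of_inC h7) h10 (P.rule (t / 11)).2
  have a4 := congrFun (congrArg El.q (hτ (t / 11) (show t / 11 < 2 by omega))) ⟨_, h10⟩
  rw [mul_q, a1, a3] at a4
  have a5 : ip (bas (P := P) gE fun k => τ (11 * (t / 11) + k))
      (act (ev x (P.rule (t / 11)).2).σ ⟨_, h10⟩) = τ t := by
    rw [a2, h9, ip_bas _ (Nat.mod_lt _ (by norm_num)), Nat.div_add_mod]
  rw [tv, Nat.cast_add, ← a4, add_assoc, add_self2, add_zero]
  exact a5.symm


/-- A non-split extension of the Mathieu group M₂₃ by its cocode module exists. There is a finite group E with a normal subgroup N, an isomorphism φ from E/N onto M₂₃ = `Spor.M23` (the stabiliser of the extra point `none` in M₂₄ acting on the 24 points `GolayPt`), and a surjective additive homomorphism θ from the binary words on `GolayPt` onto N whose kernel consists of the words of the Golay code `golayCode` and their translates by the unit vector at `none` (so N is elementary abelian of order 2¹¹), such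 that θ carries the coordinate permutation w ↦ w ∘ σ⁻¹, σ = φ(gN), to conjugation by g on N — and such that N has no complement in E. -/
theorem result :
    ∃ (E : Type) (_ : Group E) (_ : Finite E) (N : Subgroup E) (_ : N.Normal)
      (φ : E ⧸ N ≃* ↥Cfsg.Spor.M23) (θ : (Cfsg.GolayPt → ZMod 2) →+ Additive ↥N),
      Function.Surjective θ ∧
      (∀ w : Cfsg.GolayPt → ZMod 2, θ w = 0 ↔ (w ∈ Cfsg.golayCode ∨ w + Pi.single none 1 ∈ Cfsg.golayCode)) ∧
      (∀ (g : E) (w : Cfsg.GolayPt → ZMod 2),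
        ((θ (w ∘ ⇑(((φ (QuotientGroup.mk g) : ↥Cfsg.Spor.M23) : Equiv.Perm Cfsg.GolayPt)⁻¹))).toMul : E)
          = g * ((θ w).toMul : E) * g⁻¹) ∧
      ∀ H : Subgroup E, H ⊓ N = ⊥ → H ⊔ N ≠ ⊤ := by
  refine ⟨El, inferInstance, inferInstance, pr.ker, inferInstance,
    QuotientGroup.quotientKerEquivOfSurjective pr pr_surj,
    AddMonoidHom.mk' (fun w => Additive.ofMul ⟨io w, rfl⟩) (fun u v => Subtype.ext (io_add u v)),
    fun n => ?_, fun w => ?_, fun g w => io_act g w, nonsplit⟩
  · obtain ⟨w, hw⟩ := exists_io n.toMul.1 n.toMul.2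
    exact ⟨w, Subtype.ext hw⟩
  · rw [← io_eq_one]
    exact ⟨fun h => congrArg Subtype.val h, fun h => Subtype.ext h⟩
end Cfsg.Agent.S2650
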