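import Cfsg.Statements.S2651
import Cfsg.Agent.H4.M23Ext

set_option autoImplicit false
open Cfsg

set_option maxRecDepth 100000

namespace Cfsg.Agent.S2651

open Cfsg.Agent.H4 Cfsg.Agent.H4.Coh

/-- Identities among the rules. -/
def loops : List (List ℕ × List (ℕ × ℕ × ℕ)) :=
  [([0, 0, 0], [(0, 0, 0), (1, 1, 0)]),
   ([1, 1, 1], [(0, 0, 1), (1, 1, 1)]),
   ([2, 2, 2], [(0, 0, 2), (1, 1, 2)]),
   ([3, 3, 3], [(0, 0, 3), (1, 1, 3)]),
   ([4, 4, 4], [(0, 0, 4), (1, 1, 4)]),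
   ([5, 5, 5], [(0, 0, 5), (1, 1, 5)]),
   ([6, 6, 6], [(0, 0, 6), (1, 1, 6)]),
   ([2, 0, 0], [(0, 0, 8), (0, 1, 8), (0, 0, 0), (1, 1, 0)]),
   ([4, 0, 0], [(0, 0, 10), (0, 1, 10), (0, 0, 0), (1, 1, 0)]),
   ([6, 0, 0], [(0, 0, 12), (0, 1, 12), (0, 0, 0), (1, 1, 0)]),
   ([2, 2, 0], [(0, 0, 2), (1, 1, 2), (1, 0, 8), (1, 1, 8)]),
   ([4, 4, 0], [(0, 0, 4), (1, 1, 4), (1, 0, 10), (1, 1, 10)]),
   ([6, 6, 0], [(0, 0, 6), (1, 1, 6), (1, 0, 12), (1, 1, 12)]),
   ([2, 1, 1], [(0, 0, 13), (0, 1, 13), (0, 0, 1), (1, 1, 1)]),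
   ([5, 1, 1], [(0, 0, 16), (0, 1, 16), (0, 0, 1), (1, 1, 1)]),
   ([6, 1, 1], [(0, 0, 17), (0, 1, 17), (0, 0, 1), (1, 1, 1)]),
   ([2, 2, 1], [(0, 0, 2), (1, 1, 2), (1, 0, 13), (1, 1, 13)]),
   ([5, 5, 1], [(0, 0, 5), (1, 1, 5), (1, 0, 16), (1, 1, 16)]),
   ([6, 6, 1], [(0, 0, 6), (1, 1, 6), (1, 0, 17), (1, 1, 17)]),
   ([5, 2, 2], [(0, 0, 20), (0, 1, 20), (0, 0, 2), (1, 1, 2)]),
   ([6, 2, 2], [(0, 0, 21), (0, 1, 21), (0, 0, 2), (1, 1, 2)]),
   ([5, 5, 2], [(0, 0, 5), (1, 1, 5), (1, 0, 20), (1, 1, 20)]),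
   ([6, 6, 2], [(0, 0, 6), (1, 1, 6), (1, 0, 21), (1, 1, 21)]),
   ([4, 3, 3], [(0, 0, 22), (0, 1, 22), (0, 0, 3), (1, 1, 3)]),
   ([5, 3, 3], [(0, 0, 23), (0, 1, 23), (0, 0, 3), (1, 1, 3)]),
   ([6, 3, 3], [(0, 0, 24), (0, 1, 24), (0, 0, 3), (1, 1, 3)]),
   ([4, 4, 3], [(0, 0, 4), (1, 1, 4), (1, 0, 22), (1, 1, 22)]),
   ([5, 5, 3], [(0, 0, 5), (1, 1, 5), (1, 0, 23), (1, 1, 23)]),
   ([6, 6, 3], [(0, 0, 6), (1, 1, 6), (1, 0, 24), (1, 1, 24)]),
   ([5, 4, 4], [(0, 0, 25), (0, 1, 25), (0, 0, 4), (1, 1, 4)]),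
   ([6, 4, 4], [(0, 0, 26), (0, 1, 26), (0, 0, 4), (1, 1, 4)]),
   ([5, 5, 4], [(0, 0, 5), (1, 1, 5), (1, 0, 25), (1, 1, 25)]),
   ([6, 6, 4], [(0, 0, 6), (1, 1, 6), (1, 0, 26), (1, 1, 26)]),
   ([6, 5, 5], [(0, 0, 27), (0, 1, 27), (0, 0, 5), (1, 1, 5)]),
   ([6, 6, 5], [(0, 0, 6), (1, 1, 6), (1, 0, 27), (1, 1, 27)]),
   ([8, 4, 4], [(0, 0, 37), (0, 1, 37), (0, 0, 4), (1, 1, 4)]),
   ([8, 6, 6], [(0, 0, 39), (0, 1, 39), (0, 0, 5), (1, 1, 6)]),
   ([9, 6, 6], [(0, 0, 45), (0, 1, 45), (0, 0, 6), (1, 1, 6)]),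
   ([10, 2, 2], [(0, 0, 50), (0, 1, 50), (0, 0, 6), (1, 1, 2)]),
   ([1, 0, 0], [(0, 0, 7), (0, 2, 8), (0, 1, 7), (0, 0, 0), (0, 1, 2), (1, 1, 0)]),
   ([5, 0, 0], [(0, 0, 11), (0, 2, 12), (0, 1, 11), (0, 0, 0), (0, 1, 6), (1, 1, 0)]),
   ([1, 1, 0], [(0, 0, 1), (1, 1, 2), (1, 1, 1), (1, 2, 13), (1, 0, 7), (1, 1, 7)]),
   ([6, 2, 0], [(0, 0, 21), (0, 1, 12), (0, 0, 8), (1, 1, 21), (1, 0, 12), (1, 1, 8)]),
   ([6, 4, 0], [(0, 0, 26), (0, 1, 12), (0, 0, 10), (1, 1, 26), (1, 0, 12), (1, 1, 10)]),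
   ([5, 5, 0], [(0, 0, 5), (1, 1, 6), (1, 1, 5), (1, 2, 27), (1, 0, 11), (1, 1, 11)]),
   ([3, 1, 1], [(0, 0, 14), (0, 2, 17), (0, 1, 14), (0, 0, 1), (0, 1, 6), (1, 1, 1)]),
   ([5, 2, 1], [(0, 0, 20), (0, 1, 16), (0, 0, 13), (1, 1, 20), (1, 0, 16), (1, 1, 13)]),
   ([6, 2, 1], [(0, 0, 21), (0, 1, 17), (0, 0, 13), (1, 1, 21), (1, 0, 17), (1, 1, 13)]),
   ([3, 3, 1], [(0, 0, 3), (1, 1, 6), (1, 1, 3), (1, 2, 24), (1, 0, 14), (1, 1, 14)]),
   ([6, 5, 1], [(0, 0, 27), (0, 1, 17), (0, 0, 16), (1, 1, 27), (1, 0, 17), (1, 1, 16)]),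
   ([3, 2, 2], [(0, 0, 18), (0, 2, 20), (0, 1, 18), (0, 0, 2), (0, 1, 5), (1, 1, 2)]),
   ([4, 2, 2], [(0, 0, 19), (0, 2, 21), (0, 1, 19), (0, 0, 2), (0, 1, 6), (1, 1, 2)]),
   ([3, 3, 2], [(0, 0, 3), (1, 1, 5), (1, 1, 3), (1, 2, 23), (1, 0, 18), (1, 1, 18)]),
   ([4, 4, 2], [(0, 0, 4), (1, 1, 6), (1, 1, 4), (1, 2, 26), (1, 0, 19), (1, 1, 19)]),
   ([6, 5, 2], [(0, 0, 27), (0, 1, 21), (0, 0, 20), (1, 1, 27), (1, 0, 21), (1, 1, 20)]),
   ([7, 5, 6, 5, 6], [(0, 0, 32), (0, 1, 32), (0, 0, 6), (1, 1, 6), (1, 1, 5), (1, 2, 27)]),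
   ([7, 6, 6], [(0, 0, 33), (0, 2, 33), (0, 1, 27), (0, 0, 5), (0, 0, 6), (1, 1, 6)]),
   ([8, 6, 4], [(0, 0, 39), (0, 1, 37), (0, 0, 25), (1, 1, 39), (1, 0, 37), (1, 1, 26)]),
   ([8, 5, 5], [(0, 0, 38), (0, 2, 38), (0, 1, 27), (0, 0, 5), (0, 0, 6), (1, 1, 5)]),
   ([8, 6, 5], [(0, 0, 39), (0, 1, 38), (1, 1, 27), (1, 2, 39), (1, 0, 38), (1, 1, 27)]),
   ([9, 5, 5], [(0, 0, 43), (0, 2, 43), (0, 1, 25), (0, 0, 4), (0, 0, 5), (1, 1, 5)]),
   ([10, 1, 6, 1, 6], [(0, 0, 48), (0, 1, 48), (0, 0, 2), (1, 1, 6), (1, 1, 1), (1, 2, 17)]),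
   ([10, 6, 6], [(0, 0, 49), (0, 2, 49), (0, 1, 20), (0, 0, 2), (0, 0, 5), (1, 1, 6)]),
   ([6, 1, 0], [(0, 0, 17), (0, 1, 12), (0, 0, 7), (1, 2, 21), (1, 1, 17), (1, 0, 12), (1, 1, 7)]),
   ([4, 2, 0], [(0, 0, 19), (0, 2, 12), (0, 1, 10), (0, 0, 8), (1, 1, 19), (1, 0, 10), (1, 1, 8)]),
   ([5, 2, 0], [(0, 0, 20), (0, 1, 11), (0, 0, 8), (1, 1, 20), (1, 2, 21), (1, 0, 11), (1, 1, 8)]),
   ([4, 3, 0], [(0, 0, 22), (0, 1, 10), (0, 0, 9), (0, 3, 26), (1, 1, 22), (1, 0, 10), (1, 1, 9)]),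
   ([6, 3, 0], [(0, 0, 24), (0, 1, 12), (0, 0, 9), (1, 2, 26), (1, 1, 24), (1, 0, 12), (1, 1, 9)]),
   ([5, 4, 0], [(0, 0, 25), (0, 1, 11), (0, 0, 10), (1, 1, 25), (1, 2, 26), (1, 0, 11), (1, 1, 10)]),
   ([5, 3, 1], [(0, 0, 23), (0, 1, 16), (0, 0, 14), (0, 2, 27), (1, 1, 23), (1, 0, 16), (1, 1, 14)]),
   ([5, 4, 1], [(0, 0, 25), (0, 1, 16), (0, 0, 15), (0, 3, 27), (1, 1, 25), (1, 0, 16), (1, 1, 15)]),
   ([6, 4, 1], [(0, 0, 26), (0, 1, 17), (0, 0, 15), (1, 2, 27), (1, 1, 26), (1, 0, 17), (1, 1, 15)]),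
   ([9, 6, 5], [(0, 0, 45), (0, 1, 43), (0, 0, 26), (0, 1, 27), (1, 2, 45), (1, 0, 43), (1, 1, 27)]),
   ([9, 6, 4, 5], [(0, 0, 45), (0, 1, 44), (0, 0, 26), (1, 2, 45), (1, 0, 44), (1, 2, 27), (1, 1, 26)]),
   ([10, 2, 1, 6], [(0, 0, 50), (0, 1, 48), (0, 0, 21), (1, 1, 50), (1, 0, 48), (0, 2, 21), (1, 1, 13)]),
   ([10, 2, 6], [(0, 0, 50), (0, 1, 49), (0, 0, 21), (0, 1, 27), (1, 2, 50), (1, 0, 49), (0, 1, 21)]),
   ([7, 4, 6, 4, 6], [(0, 0, 28), (0, 2, 28), (0, 1, 23), (0, 0, 3), (0, 0, 5), (1, 1, 6), (1, 1, 4), (1, 2, 26)]),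
   ([7, 6, 5, 6], [(0, 0, 33), (0, 2, 32), (1, 0, 27), (1, 1, 33), (1, 0, 32), (0, 2, 6), (1, 2, 6), (1, 1, 27)]),
   ([8, 1, 5, 1, 5], [(0, 0, 34), (0, 2, 34), (0, 1, 21), (0, 0, 2), (0, 0, 6), (1, 1, 5), (1, 1, 1), (1, 2, 16)]),
   ([8, 6, 1, 5], [(0, 0, 39), (0, 1, 34), (0, 0, 20), (1, 1, 27), (1, 2, 39), (1, 0, 34), (1, 2, 27), (1, 1, 17)]),
   ([9, 6, 0, 2], [(0, 0, 45), (0, 1, 41), (0, 0, 12), (0, 1, 26), (1, 3, 45), (1, 0, 41), (1, 2, 21), (1, 1, 12)]),
   ([9, 6, 3, 4], [(0, 0, 45), (0, 1, 42), (0, 0, 24), (0, 1, 27), (1, 3, 45), (1, 0, 42), (1, 2, 26), (1, 1, 24)]),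
   ([9, 4, 5, 4, 5], [(0, 0, 44), (0, 2, 44), (0, 1, 26), (0, 0, 4), (0, 0, 6), (1, 1, 5), (1, 1, 4), (1, 2, 25)]),
   ([10, 2, 1, 5], [(0, 0, 50), (0, 1, 47), (0, 0, 17), (0, 1, 27), (1, 3, 50), (1, 0, 47), (0, 2, 20), (1, 1, 13)]),
   ([10, 6, 1, 6], [(0, 0, 49), (0, 2, 48), (0, 1, 20), (1, 1, 49), (1, 0, 48), (0, 2, 6), (1, 2, 6), (1, 1, 17)]),
   ([3, 0, 0], [(0, 0, 9), (0, 3, 12), (0, 2, 10), (0, 1, 9), (0, 0, 0), (0, 2, 26), (0, 1, 4), (0, 1, 6), (1, 1, 0)]),
   ([5, 1, 0], [(0, 0, 16), (0, 1, 11), (0, 0, 7), (1, 2, 20), (1, 3, 21), (1, 1, 16), (1, 2, 17), (1, 0, 11), (1, 1, 7)]),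
   ([3, 3, 0], [(0, 0, 3), (1, 1, 6), (1, 1, 4), (1, 2, 26), (1, 1, 3), (1, 2, 22), (1, 3, 24), (1, 0, 9), (1, 1, 9)]),
   ([4, 1, 1], [(0, 0, 15), (0, 3, 17), (0, 2, 16), (0, 1, 15), (0, 0, 1), (0, 2, 27), (0, 1, 5), (0, 1, 6), (1, 1, 1)]),
   ([3, 2, 1], [(0, 0, 18), (0, 2, 16), (0, 1, 14), (0, 0, 13), (0, 3, 27), (1, 1, 18), (1, 2, 21), (1, 0, 14), (1, 1, 13)]),
   ([4, 3, 2], [(0, 0, 22), (0, 1, 19), (0, 0, 18), (0, 2, 25), (1, 3, 27), (1, 1, 22), (1, 2, 24), (1, 0, 19), (1, 1, 18)]),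
   ([7, 5, 6, 2], [(0, 0, 32), (0, 1, 31), (0, 0, 17), (0, 1, 21), (0, 2, 27), (1, 4, 32), (1, 0, 31), (1, 1, 20), (1, 2, 21)]),
   ([7, 6, 2], [(0, 0, 33), (0, 2, 31), (0, 1, 17), (0, 0, 16), (0, 2, 21), (0, 1, 20), (1, 4, 33), (1, 0, 31), (1, 1, 21)]),
   ([8, 5, 1, 2, 6], [(0, 0, 38), (0, 2, 35), (0, 1, 17), (0, 0, 16), (1, 3, 38), (1, 0, 35), (0, 3, 27), (1, 2, 20), (1, 1, 16)]),
   ([9, 6, 0, 6], [(0, 0, 45), (0, 1, 40), (0, 0, 21), (0, 1, 27), (1, 3, 45), (1, 0, 40), (0, 2, 6), (1, 2, 6), (1, 1, 12)]),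
   ([10, 2, 0], [(0, 0, 50), (0, 1, 46), (0, 0, 12), (0, 1, 21), (0, 2, 26), (0, 3, 27), (1, 5, 50), (1, 0, 46), (1, 1, 8)]),
   ([4, 2, 1], [(0, 0, 19), (0, 2, 17), (0, 1, 15), (0, 0, 13), (1, 3, 27), (1, 1, 19), (1, 2, 20), (1, 3, 21), (1, 0, 15), (1, 1, 13)]),
   ([7, 6, 4, 6], [(0, 0, 33), (0, 2, 28), (0, 1, 24), (0, 0, 23), (0, 2, 27), (1, 2, 33), (1, 0, 28), (0, 2, 6), (1, 2, 6), (1, 1, 26)]),
   ([8, 5, 1, 5], [(0, 0, 38), (0, 2, 34), (0, 1, 21), (0, 0, 20), (1, 1, 27), (1, 2, 38), (1, 0, 34), (0, 2, 5), (1, 2, 5), (1, 1, 16)]),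
   ([8, 6, 1, 2, 6], [(0, 0, 39), (0, 1, 35), (0, 0, 16), (1, 2, 27), (1, 3, 39), (1, 0, 35), (0, 3, 6), (1, 3, 6), (1, 2, 21), (1, 1, 17)]),
   ([8, 4, 3, 5, 6], [(0, 0, 37), (0, 1, 36), (0, 0, 22), (1, 1, 25), (1, 2, 26), (1, 3, 37), (1, 0, 36), (0, 3, 26), (0, 2, 25), (1, 1, 22)]),
   ([8, 5, 3, 5, 6], [(0, 0, 38), (0, 2, 36), (0, 1, 24), (0, 0, 23), (1, 3, 38), (1, 0, 36), (0, 3, 27), (0, 2, 5), (1, 2, 5), (1, 1, 23)]),
   ([3, 2, 0], [(0, 0, 18), (0, 2, 11), (0, 1, 9), (0, 0, 8), (0, 4, 27), (1, 3, 25), (1, 1, 18), (1, 2, 19), (1, 3, 21), (1, 0, 9), (1, 1, 8)]),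
   ([7, 1, 2, 6, 1, 2, 6], [(0, 0, 30), (0, 2, 30), (0, 1, 21), (0, 0, 2), (0, 0, 6), (1, 1, 6), (1, 1, 2), (1, 2, 21), (1, 1, 1), (1, 2, 13), (1, 3, 17)]),
   ([7, 6, 1, 2, 6], [(0, 0, 33), (0, 2, 30), (0, 1, 21), (0, 0, 20), (1, 1, 27), (1, 2, 33), (1, 0, 30), (0, 3, 6), (1, 3, 6), (1, 2, 21), (1, 1, 17)]),
   ([9, 0, 6, 0, 6], [(0, 0, 40), (0, 3, 40), (0, 2, 21), (0, 1, 20), (0, 0, 2), (0, 1, 27), (0, 0, 5), (0, 0, 6), (1, 1, 6), (1, 1, 0), (1, 2, 12)]),
   ([9, 0, 2, 0, 2], [(0, 0, 41), (0, 3, 41), (0, 2, 12), (0, 1, 10), (0, 0, 0), (0, 1, 26), (0, 0, 4), (0, 0, 6), (1, 1, 2), (1, 1, 0), (1, 2, 8)]),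
   ([9, 3, 4, 3, 4], [(0, 0, 42), (0, 3, 42), (0, 2, 24), (0, 1, 23), (0, 0, 3), (0, 1, 27), (0, 0, 5), (0, 0, 6), (1, 1, 4), (1, 1, 3), (1, 2, 22)]),
   ([10, 1, 5, 1, 5], [(0, 0, 47), (0, 3, 47), (0, 2, 17), (0, 1, 16), (0, 0, 1), (0, 1, 27), (0, 0, 5), (0, 0, 6), (1, 1, 5), (1, 1, 1), (1, 2, 16)]),
   ([10, 6, 1, 5], [(0, 0, 49), (0, 2, 47), (0, 1, 16), (0, 0, 13), (1, 3, 27), (1, 1, 20), (1, 2, 21), (1, 3, 49), (1, 0, 47), (1, 2, 27), (1, 1, 17)]),
   ([4, 1, 0], [(0, 0, 15), (0, 3, 12), (0, 2, 11), (0, 1, 10), (0, 0, 7), (1, 4, 27), (1, 2, 19), (1, 3, 20), (1, 4, 21), (1, 1, 15), (1, 0, 10), (1, 1, 7)]),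
   ([7, 5, 6, 1, 2, 6], [(0, 0, 32), (0, 1, 30), (0, 0, 21), (1, 2, 32), (1, 0, 30), (0, 3, 27), (0, 4, 6), (1, 4, 6), (1, 2, 20), (1, 3, 21), (1, 1, 16), (1, 2, 17)]),
   ([10, 1, 6, 1, 5], [(0, 0, 48), (0, 1, 47), (0, 0, 13), (1, 1, 20), (1, 2, 21), (1, 3, 48), (1, 0, 47), (0, 2, 16), (0, 1, 1), (1, 1, 27), (1, 1, 1), (1, 2, 17)]),
   ([7, 6, 3, 4, 5, 6], [(0, 0, 33), (0, 2, 29), (0, 1, 24), (0, 0, 23), (0, 2, 26), (0, 1, 25), (1, 2, 33), (1, 0, 29), (0, 4, 6), (1, 4, 6), (1, 3, 27), (1, 2, 26), (1, 1, 24)]),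
   ([7, 2, 2], [(0, 0, 31), (0, 4, 31), (0, 3, 17), (0, 2, 16), (0, 1, 13), (0, 0, 1), (0, 2, 21), (0, 1, 20), (0, 0, 2), (0, 1, 27), (0, 0, 5), (0, 0, 6), (1, 1, 2)]),
   ([9, 4, 5, 0, 2], [(0, 0, 44), (0, 2, 41), (0, 1, 12), (0, 0, 10), (1, 3, 44), (1, 0, 41), (1, 5, 6), (1, 4, 27), (1, 2, 19), (1, 3, 20), (1, 4, 21), (1, 1, 10), (1, 2, 11)]),
   ([8, 1, 2, 6, 1, 2, 6], [(0, 0, 35), (0, 3, 35), (0, 2, 17), (0, 1, 16), (0, 0, 1), (0, 1, 27), (0, 0, 5), (0, 0, 6), (1, 1, 6), (1, 1, 2), (1, 2, 21), (1, 1, 1), (1, 2, 13), (1, 3, 17)]),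
   ([9, 5, 0, 6], [(0, 0, 43), (0, 2, 40), (0, 1, 20), (0, 0, 19), (0, 2, 27), (1, 1, 25), (1, 2, 26), (1, 5, 45), (1, 3, 43), (1, 0, 40), (0, 2, 27), (0, 3, 6), (1, 3, 6), (1, 1, 11)]),
   ([7, 3, 4, 5, 6, 3, 4, 5, 6], [(0, 0, 29), (0, 2, 29), (0, 1, 22), (0, 0, 3), (0, 0, 4), (1, 1, 6), (1, 1, 5), (1, 2, 27), (1, 1, 4), (1, 2, 25), (1, 3, 26), (1, 1, 3), (1, 2, 22), (1, 3, 23), (1, 4, 24)]),
   ([7, 2, 1, 2, 6], [(0, 0, 31), (0, 4, 30), (0, 3, 21), (0, 2, 20), (0, 1, 2), (1, 1, 27), (1, 1, 2), (1, 2, 21), (1, 0, 13), (1, 1, 17), (1, 2, 31), (1, 0, 30), (0, 3, 21), (0, 2, 2), (1, 2, 2), (1, 1, 13)]),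
   ([8, 1, 2, 6, 1, 5], [(0, 0, 35), (0, 3, 34), (0, 2, 21), (0, 1, 20), (1, 2, 27), (1, 0, 13), (1, 1, 17), (1, 2, 35), (1, 0, 34), (0, 2, 16), (0, 1, 1), (0, 1, 20), (1, 2, 27), (1, 1, 1), (1, 2, 13), (1, 3, 17)]),
   ([8, 4, 1, 2, 6], [(0, 0, 37), (0, 1, 35), (0, 0, 15), (1, 1, 25), (1, 2, 26), (1, 4, 38), (1, 3, 37), (1, 0, 35), (0, 3, 26), (0, 4, 27), (1, 5, 6), (1, 4, 27), (1, 2, 19), (1, 3, 20), (1, 4, 21), (1, 1, 15)]),
   ([9, 5, 0, 2], [(0, 0, 43), (0, 2, 41), (0, 1, 11), (0, 0, 10), (0, 3, 26), (0, 2, 25), (0, 1, 4), (1, 1, 27), (1, 1, 4), (1, 2, 26), (1, 5, 45), (1, 3, 43), (1, 0, 41), (1, 2, 20), (1, 3, 21), (1, 1, 11)]),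
   ([10, 1, 6, 0], [(0, 0, 48), (0, 1, 46), (0, 0, 8), (0, 1, 2), (1, 3, 6), (1, 2, 27), (1, 1, 2), (1, 2, 19), (1, 3, 20), (1, 4, 21), (1, 6, 50), (1, 5, 48), (1, 0, 46), (0, 3, 21), (1, 1, 7), (1, 2, 12)]),
   ([8, 4, 1, 5], [(0, 0, 37), (0, 1, 34), (0, 0, 19), (1, 2, 5), (1, 3, 27), (1, 4, 27), (1, 2, 27), (1, 1, 26), (1, 5, 39), (1, 3, 38), (1, 2, 37), (1, 0, 34), (0, 2, 25), (0, 3, 5), (1, 3, 5), (1, 4, 27), (1, 1, 15)]),
   ([9, 4, 5, 0, 6], [(0, 0, 44), (0, 2, 40), (0, 1, 21), (0, 0, 19), (0, 3, 27), (0, 2, 27), (1, 1, 25), (1, 2, 26), (1, 5, 45), (1, 3, 44), (1, 0, 40), (0, 2, 26), (0, 3, 27), (0, 4, 6), (1, 4, 6), (1, 1, 10), (1, 2, 11)]),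
   ([10, 6, 0], [(0, 0, 49), (0, 2, 46), (0, 1, 11), (0, 0, 8), (0, 3, 21), (0, 2, 20), (0, 1, 2), (0, 2, 26), (0, 1, 25), (1, 4, 27), (1, 2, 27), (1, 1, 2), (1, 2, 19), (1, 3, 20), (1, 4, 21), (1, 5, 49), (1, 0, 46), (1, 1, 12)]),
   ([9, 0, 2, 0, 6], [(0, 0, 41), (0, 3, 40), (0, 2, 21), (0, 1, 19), (0, 4, 27), (0, 3, 27), (1, 2, 25), (1, 3, 26), (1, 4, 26), (1, 0, 8), (1, 1, 11), (1, 2, 12), (1, 3, 41), (1, 0, 40), (0, 2, 12), (0, 1, 0), (0, 1, 21), (1, 1, 0), (1, 2, 8)]),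
   ([3, 1, 0], [(0, 0, 14), (0, 2, 12), (0, 1, 9), (0, 0, 7), (1, 5, 6), (1, 5, 5), (1, 6, 27), (1, 7, 27), (1, 4, 25), (1, 5, 26), (1, 2, 18), (1, 3, 21), (1, 4, 19), (1, 5, 20), (1, 6, 21), (1, 7, 21), (1, 1, 14), (1, 2, 15), (1, 3, 17), (1, 0, 9), (1, 1, 7)]),
   ([8, 3, 5, 6, 1, 5], [(0, 0, 36), (0, 3, 34), (0, 2, 21), (0, 1, 20), (0, 0, 18), (1, 3, 27), (1, 4, 27), (1, 2, 27), (1, 1, 24), (1, 5, 39), (1, 2, 36), (1, 0, 34), (0, 2, 23), (0, 3, 5), (0, 3, 6), (1, 3, 6), (1, 3, 5), (1, 4, 27), (1, 5, 27), (1, 3, 27), (1, 1, 14), (1, 2, 16), (1, 3, 17)]),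
   ([7, 2, 4, 6], [(0, 0, 31), (0, 4, 28), (0, 3, 24), (0, 2, 23), (0, 4, 27), (0, 3, 5), (1, 3, 6), (1, 3, 5), (1, 4, 27), (1, 5, 27), (1, 3, 27), (1, 3, 5), (1, 4, 27), (1, 1, 18), (1, 2, 21), (1, 3, 20), (1, 0, 14), (1, 1, 16), (1, 6, 33), (1, 2, 31), (1, 0, 28), (0, 2, 21), (0, 1, 19), (0, 3, 6)]),
   ([9, 3, 4, 0, 2], [(0, 0, 42), (0, 3, 41), (0, 2, 12), (0, 1, 11), (0, 0, 9), (0, 6, 26), (1, 1, 22), (1, 2, 24), (1, 8, 45), (1, 6, 44), (1, 3, 42), (1, 0, 41), (0, 4, 4), (1, 5, 6), (1, 4, 4), (1, 5, 25), (1, 6, 26), (1, 7, 26), (1, 4, 25), (1, 2, 18), (1, 3, 19), (1, 4, 21), (1, 5, 19), (1, 1, 9), (1, 2, 10)]),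
   ([10, 0, 0], [(0, 0, 46), (0, 5, 46), (0, 4, 12), (0, 3, 11), (0, 2, 10), (0, 1, 8), (0, 0, 0), (0, 4, 21), (0, 3, 21), (0, 2, 20), (0, 1, 19), (0, 0, 2), (0, 4, 26), (0, 3, 26), (0, 2, 25), (0, 1, 26), (0, 0, 4), (0, 0, 27), (0, 3, 27), (0, 2, 27), (0, 1, 27), (0, 0, 5), (0, 0, 6), (0, 0, 6), (1, 1, 0)]),
   ([7, 1, 2, 6, 4, 6], [(0, 0, 30), (0, 2, 28), (0, 1, 24), (0, 2, 27), (1, 3, 6), (1, 2, 27), (1, 3, 27), (1, 2, 5), (1, 0, 18), (1, 1, 20), (1, 5, 33), (1, 4, 32), (1, 2, 30), (1, 0, 28), (0, 2, 17), (0, 1, 15), (0, 5, 21), (0, 4, 21), (0, 3, 20), (0, 2, 19), (0, 4, 27), (0, 8, 27), (0, 7, 27), (0, 6, 27), (0, 5, 27), (0, 4, 5), (0, 4, 6), (0, 4, 6), (0, 4, 6), (1, 4, 6), (1, 3, 26)]),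
   ([8, 3, 5, 6, 1, 2, 6], [(0, 0, 36), (0, 3, 35), (0, 2, 17), (0, 1, 16), (0, 0, 14), (0, 2, 27), (1, 5, 27), (1, 2, 27), (1, 3, 27), (1, 2, 5), (1, 3, 27), (1, 1, 23), (1, 2, 24), (1, 8, 39), (1, 6, 38), (1, 3, 36), (1, 0, 35), (0, 3, 24), (0, 4, 27), (0, 6, 27), (0, 5, 27), (0, 4, 5), (0, 4, 6), (1, 4, 6), (1, 4, 5), (1, 5, 27), (1, 2, 18), (1, 3, 21), (1, 4, 20), (1, 5, 21), (1, 1, 14), (1, 2, 16), (1, 3, 17)]),
   ([7, 2, 3, 4, 5, 6], [(0, 0, 31), (0, 4, 29), (0, 3, 24), (0, 2, 23), (0, 4, 26), (0, 3, 25), (1, 5, 6), (1, 5, 6), (1, 4, 27), (1, 5, 27), (1, 6, 27), (1, 4, 5), (1, 5, 27), (1, 6, 27), (1, 3, 25), (1, 4, 26), (1, 1, 18), (1, 2, 21), (1, 3, 19), (1, 4, 20), (1, 5, 21), (1, 0, 14), (1, 1, 15), (1, 6, 32), (1, 2, 31), (1, 0, 29), (0, 4, 21), (0, 3, 20), (0, 2, 19), (0, 1, 18), (0, 3, 25), (0, 5, 27), (0, 4, 5), (0, 5, 27), (0, 4, 27), (0, 5, 6)]),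
   ([7, 1, 2, 6, 3, 4, 5, 6], [(0, 0, 30), (0, 2, 29), (0, 1, 24), (0, 2, 26), (1, 3, 6), (1, 3, 5), (1, 4, 27), (1, 5, 27), (1, 2, 25), (1, 0, 18), (1, 1, 19), (1, 4, 33), (1, 2, 30), (1, 0, 29), (0, 4, 17), (0, 3, 16), (0, 2, 15), (0, 1, 14), (0, 8, 21), (0, 7, 20), (0, 6, 21), (0, 5, 20), (0, 4, 19), (0, 3, 21), (0, 2, 18), (0, 5, 26), (0, 4, 25), (0, 7, 27), (0, 6, 27), (0, 5, 5), (0, 7, 27), (0, 6, 27), (0, 5, 27), (0, 6, 6), (0, 6, 6), (0, 6, 6), (1, 6, 6), (1, 5, 27), (1, 4, 26), (1, 3, 24)]),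
   ([9, 3, 4, 0, 6], [(0, 0, 42), (0, 3, 40), (0, 2, 21), (0, 1, 20), (0, 0, 18), (0, 2, 5), (0, 2, 27), (1, 3, 6), (1, 2, 27), (1, 3, 27), (1, 2, 5), (1, 3, 27), (1, 2, 4), (1, 3, 25), (1, 4, 26), (1, 5, 25), (1, 6, 26), (1, 7, 25), (1, 2, 25), (1, 3, 26), (1, 4, 25), (1, 5, 26), (1, 1, 23), (1, 2, 24), (1, 10, 45), (1, 8, 44), (1, 6, 43), (1, 3, 42), (1, 0, 40), (0, 2, 24), (0, 3, 26), (0, 5, 25), (0, 4, 26), (0, 3, 4), (0, 3, 27), (0, 4, 27), (0, 3, 5), (0, 3, 6), (1, 3, 6), (1, 3, 4), (1, 4, 26), (1, 1, 9), (1, 2, 10)]),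
   ([10, 1, 5, 0], [(0, 0, 47), (0, 3, 46), (0, 2, 12), (0, 1, 11), (0, 0, 7), (0, 5, 21), (0, 4, 21), (0, 3, 20), (0, 2, 2), (0, 4, 26), (0, 3, 26), (0, 2, 25), (0, 5, 27), (0, 4, 27), (0, 3, 5), (1, 3, 6), (1, 3, 5), (1, 4, 27), (1, 5, 27), (1, 6, 27), (1, 7, 27), (1, 3, 27), (1, 4, 27), (1, 5, 27), (1, 3, 5), (1, 4, 27), (1, 5, 27), (1, 3, 27), (1, 2, 2), (1, 3, 19), (1, 4, 20), (1, 5, 21), (1, 6, 20), (1, 7, 21), (1, 8, 20), (1, 9, 21), (1, 1, 13), (1, 2, 15), (1, 3, 16), (1, 4, 17), (1, 10, 50), (1, 8, 49), (1, 5, 47), (1, 0, 46), (0, 4, 21), (0, 3, 20), (1, 1, 7), (1, 2, 11)])]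

/-- Corrections. -/
def K : List ℕ := [0x940002c03400049000030088014000000000000000000000000000000000000000000000000000000000000000000000000000000000000000000000000000000000000000004a0001601a0002480001804400000000000000000000000000000000000000000000000000000000000000000000000000000000000000000000000000000000000000000000250000b00d0001240000c022014000000000000000000000000000000000000000000000000000000000000000000000000000000000000000000000000000000000000000001280005806800092000060110120000000000000000000000000000000000000000000000000000000000000000000000000000000000000000000000000000000000000000000000000000000000000000000040000000000000000000000000000000000000000000000000000000000000000000000000000000000000000000000000000000000000000000000000000000000000000000000000000000000000000000000000000000000000000000000000000000000000000000000000000000000000000000000000000000000000000000000000000000000000000000000000000000000000000000000000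0000000000000000000000000000000000000000000000000000000000000000000000000000000012800000068000920000000001a0000000000000000000000000000000000000000000000000000000000000000000000000000000000000000000000000000000000000000000000000000000000000000000000000000000000000000000000000000000000000000000000000000000000000000000000000000000000000000000000000000000000000000000000000000000000000000000000000000000000000000000000000000000000000000000000000000000000000000000000000000000000000000000000000000000000000000000000000000000000000,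
  0x52000000000050a4000000340004140000008a0c40000000000000000000000000000000000000000000000000000000000000000000000000000000000000000000000000002500000000000000000000028000000ac0004d0000000000000000000000000000000000000000000000000000000000000000000000000000000000000000000000000000000000000000000000000000000000000000000200000000000000000000000000000000000000000000000000000000000000000000000000000000000000000000000000000000000000000000000000000000000000000002000000000000000000000000000000000000000000000000000000000000000000000000000000000000000000000000000000052000000000050a4000000340004140000000a0c40000000000000000000000000000000000000000000000000000000000000000000000000000000000000000000000000000000000000000000000000000000000000000100000000000000000000000000000000000000000000000000000000000000000000000000000000000000000000000000000000000000000000000000000000000000000000000000000000000000000000000000000000000000000000000000000000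000000000000000000000000000000000000000000000000000000000000000000000000000000000000000000000000000000000000000000000000000000000000000000000000000000000000000000000000000000000000000000000000000000000000000000000000000000000000000000000000000000000000000000000000000000000000000000000000000000000000000000000000000000000000000000000000000000000000000000000000000000000000000000000000000000000000000000000000000000000000000000000000000000000000000000000000000000000000000000000000000000000000000000000000,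
  0x5200000000005030000248000000840002100a0940000000000000000000000000000000000000000000000000000000000000000000000000000000000000000000000000000c00000000002818000034028000420ac1800806a00000000000000000000000000000000000000000000000000000000000000000000000000000000000000000000000000000000000000000250000500d0001240000c4248040000000000000000000000000000000000000000000000000000000000000000000000000000000000000000000000000000a40000000000a06000029000000108000261301a800000000000000000000000000000000000000000000000000000000000000000000000000000000000000000000000000000000000000000940000c0340004900002108801000000000000000000000000000000000000000000000000000000000000000000000000000000000000000000000000000000000000000000000001800000000000009849020000000000000000000000000000000000000000000000000000000000000000000000000000000000000000000000000000148000000000140c0000f20000002100008c04025000000000000000000000000000000000000000000000000000000000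0000000000000000000000000000000000000000000a40000000000a14800061068000828000221301080000000000000000000000000000000000000000000000000000000000000000000000000000000000000000000000000004a00000000000000001088050000001580009200000000000000000000000000000000000000000000000000000000000000000000000000000000000000000000000000000029000000000028520000cc1a00020a0000100806200000000000000000000000000000000000000000000000000000000000000000000000000000000000000000000000000000000000000000250000500d0001240000c824804,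
  0x580000005180503000000005000084158000820840000000000000000000000000000000000000000000000000000000000000000000000000000000000000000000000000000a000000284020ce000160100000000081804402a00000000000000000000000000000000000000000000000000000000000000000000000000000000000000000000000000005000000142010670000b0080000000020c022015000000000000000000000000000000000000000000000000000000000000000000000000000000000000000000000000000000000000000000000000000000000002000000000000000000000000000000000000000000000000000000000000000000000000000000000000000000000000000000000000000000000000000000000000000000000000000000000000000000000000000000000000000000000000000000000000000000000000000000000000000000000000000000000a000000284020ce000160100000000881804402a00000000000000000000000000000000000000000000000000000000000000000000000000000000000000000000000000000000000000000000000000000000000000000000000000000000000000000000000000000000000000000000000000000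000000000000000000000000000000000000000000098000000020023580005804a000108200600141a0000000000000000000000000000000000000000000000000000000000000000000000000000000000000000000000000000000000000000000000000000000000000000000000000000000000000000000000000000000000000000000000000000000000000000000000000000000000000000000000000000000000000000000000000000000000000000000000000000000000000000000000000000000000000000000000000000000000000000000000000000000000000000000000000000000000000000000000000000000000000,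
  0x49000000518041540002c0110004901583001a0040000000000000000000000000000000000000000000000000000000000000000000000000000000000000000000000000002f80000028c02872000160188002480281800504000000000000000000000000000000000000000000000000000000000000000000000000000000000000000000000000000001400000146000eb0000b00c0000250020c0260110000000000000000000000000000000000000000000000000000000000000000000000000000000000000000000000000000b400000002002698000580020000000b060034100000000000000000000000000000000000000000000000000000000000000000000000000000000000000000000000000000000000000000109400000034000490000000000d4000000000000000000000000000000000000000000000000000000000000000000000000000000000000000000000000000098000002840090c0001600800020208018044060000000000000000000000000000000000000000000000000000000000000000000000000000000000000000000000000000130000000000149b0000000540012405400020825000000000000000000000000000000000000000000000000000000000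0000000000000000000000000000000000000000000000000000200212000000068000900000000001a800000000000000000000000000000000000000000000000000000000000000000000000000000000000000000000000000016000000000041240002c0140004901083009801400000000000000000000000000000000000000000000000000000000000000000000000000000000000000000000000000000000000008000020000000000000a0000000000000000000000000000000000000000000000000000000000000000000000000000000000000000000000000000000000000001400000000004ba8000b0090000250020c026005,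
  0x480d0000000200439e000000250000000480008808400000000000000000000000000000000000000000000000000000000000000000000000000000000000000000000000001c2f8000000000202d0000000284104a0240004906a00000000000000000000000000000000000000000000000000000000000000000000000000000000000000000000000001e17c0000010c0045f8000000d4241050500002483500000000000000000000000000000000000000000000000000000000000000000000000000000000000000000000000000e036000000070027a00000004a0009202b0001100800000000000000000000000000000000000000000000000000000000000000000000000000000000000000000000000000004900000001801014000000050004041580009201000000000000000000000000000000000000000000000000000000000000000000000000000000000000000000000000001c0000000020c008e9000000100002480000000802000000000000000000000000000000000000000000000000000000000000000000000000000000000000000000000000000c06c00000102010bd00000005404004014000220100000000000000000000000000000000000000000000000000000000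00000000000000000000000000000000000000000006088000000020026f800000060104828030000141a800000000000000000000000000000000000000000000000000000000000000000000000000000000000000000000000007041000000008003500002c014082404118300920c00000000000000000000000000000000000000000000000000000000000000000000000000000000000000000000000000182080000021c0293a0001601204b0420081804906000000000000000000000000000000000000000000000000000000000000000000000000000000000000000000000000000a05800000002014f30000000c02090100600000000,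
  0x490000005180410800000000000490048000920c400000000000000000000000000000000000000000000000000000000000000000000000000000000000000000000000000009800000284020ce000160100000000041804402a00000000000000000000000000000000000000000000000000000000000000000000000000000000000000000000000000001400000146000250000000c4001240460000401000000000000000000000000000000000000000000000000000000000000000000000000000000000000000000000000000002c000000000000000000000000000000000020000000000000000000000000000000000000000000000000000000000000000000000000000000000000000000000000000000000000000000101400000011000404000000000400000000000000000000000000000000000000000000000000000000000000000000000000000000000000000000000000002f80000028c0004a000000088002480ac0004102000000000000000000000000000000000000000000000000000000000000000000000000000000000000000000000000000013000000000014620000000c40010105400020831000000000000000000000000000000000000000000000000000000000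0000000000000000000000000000000000000000000980000000000000000000000000000080001040000000000000000000000000000000000000000000000000000000000000000000000000000000000000000000000000000005a0000000100511c0002c0050000941503001a054000000000000000000000000000000000000000000000000000000000000000000000000000000000000000000000000000260000000000080a000000080002020200004102000000000000000000000000000000000000000000000000000000000000000000000000000000000000000000000000000001400000000004050000000440010104600004010]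

/-- The obstruction. -/
def mu : ℕ := 0x300340000000e004f40000000940012405600022010


theorem check : parD.splitOK loops [mu] K 7 28 = true := by decide +kernel

/-- The hypotheses on an extension by the cocode module. -/
structure Hyp {E : Type*} [Group E] (π : E →* Equiv.Perm GolayPt) (ι : (GolayPt → ZMod 2) → E) :
    Prop where
  h1 : ∀ u v, ι (u + v) = ι u * ι v
  h2 : ∀ g u, ι (u ∘ ⇑(π g)⁻¹) = g * ι u * g⁻¹
  h3 : ∀ e, π e = 1 ↔ ∃ u, ι u = e
  h4 : ∀ u, ι u = 1 ↔ (u ∈ golayCode ∨ u + Pi.single none 1 ∈ golayCode)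
  h5 : π.range = Spor.M23

/-- The data of the extension. -/
def Hyp.data {E : Type*} [Group E] {π : E →* Equiv.Perm GolayPt} {ι : (GolayPt → ZMod 2) → E}
    (h : Hyp π ι) : Data (P := parD) gE E := cocodeData π ι h.h1 h.h2 h.h3 h.h4 cS cR 561

theorem Hyp.split {E : Type*} [Group E] [Finite E] {π : E →* Equiv.Perm GolayPt}
    {ι : (GolayPt → ZMod 2) → E} (h : Hyp π ι) {x : ℕ → E} (hx : h.data.Lifts x)
    {τ : ℕ → ZMod 2} (hτ : h.data.Tails x τ) (hμ : dot 561 mu τ = 0) :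
    ∃ H : Subgroup E, H ⊓ π.ker = ⊥ ∧ H ⊔ π.ker = ⊤ :=
  Data.exists_compl hx hτ (fun y hy => by rw [List.mem_singleton.mp hy]; exact hμ) check
    (card_syl hx) (h.h5 ▸ card_M23) (by decide)

theorem Hyp.exists_tails {E : Type*} [Group E] [Finite E] {π : E →* Equiv.Perm GolayPt}
    {ι : (GolayPt → ZMod 2) → E} (h : Hyp π ι)
    (hns : ∀ H : Subgroup E, H ⊓ π.ker = ⊥ → H ⊔ π.ker ≠ ⊤) :
    ∃ x τ, h.data.Lifts x ∧ h.data.Tails x τ ∧ dot 561 mu τ = 1 := by
  obtain ⟨x, hx, -⟩ := h.data.exists_lifts (h.h5 ▸ cS_mem)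
  obtain ⟨τ, hτ⟩ := hx.exists_tails (by decide +kernel)
  refine ⟨x, τ, hx, hτ, zmod2_eq_one_of_ne_zero _ fun h0 => ?_⟩
  obtain ⟨H, h1, h2⟩ := h.split hx hτ h0
  exact hns H h1 h2

theorem setup {E : Type*} [Group E] (N : Subgroup E) [hN : N.Normal]
    (φ : E ⧸ N ≃* ↥Cfsg.Spor.M23) (θ : (Cfsg.GolayPt → ZMod 2) →+ Additive ↥N)
    (hsurj : Function.Surjective θ)
    (hker : ∀ w : Cfsg.GolayPt → ZMod 2, θ w = 0 ↔ (w ∈ Cfsg.golayCode ∨ w + Pi.single none 1 ∈ Cfsg.golayCode))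
    (hθ : ∀ (g : E) (w : Cfsg.GolayPt → ZMod 2),
      ((θ (w ∘ ⇑(((φ (QuotientGroup.mk g) : ↥Cfsg.Spor.M23) : Equiv.Perm Cfsg.GolayPt)⁻¹))).toMul : E)
        = g * ((θ w).toMul : E) * g⁻¹) :
    ∃ (π : E →* Equiv.Perm GolayPt) (ι : (GolayPt → ZMod 2) → E), Hyp π ι ∧ π.ker = N := by
  let π : E →* Equiv.Perm GolayPt :=
    (Spor.M23.subtype.comp φ.toMonoidHom).comp (QuotientGroup.mk' N)
  have hπ : π.ker = N := by
    ext g
    rw [MonoidHom.mem_ker, ← QuotientGroup.eq_one_iff]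
    exact ⟨fun h => φ.injective (by rw [map_one]; exact Subtype.ext h), fun h => by
      show ((φ (g : E ⧸ N) : Spor.M23) : Equiv.Perm GolayPt) = 1
      rw [h, map_one]; rfl⟩
  have hr : π.range = Spor.M23 := by
    refine le_antisymm (by rintro _ ⟨g, rfl⟩; exact (φ _).2) fun g hg => ?_
    obtain ⟨x, hx⟩ := φ.surjective ⟨g, hg⟩
    obtain ⟨x, rfl⟩ := QuotientGroup.mk_surjective x
    exact ⟨x, congrArg Subtype.val hx⟩
  refine ⟨π, fun u => ((θ u).toMul : E), ⟨fun u v => by rw [map_add]; rfl, hθ, fun e => ?_,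
    fun u => ?_, hr⟩, hπ⟩
  · refine ⟨fun h => ?_, ?_⟩
    · obtain ⟨u, hu⟩ := hsurj (Additive.ofMul ⟨e, hπ.le h⟩)
      exact ⟨u, by rw [hu]; rfl⟩
    · rintro ⟨u, rfl⟩
      exact hπ.ge (θ u).toMul.2
  · rw [← hker]
    exact ⟨fun h => Subtype.ext h, fun h => by rw [h]; rfl⟩

theorem Hyp.ι_mul_self {E : Type*} [Group E] {π : E →* Equiv.Perm GolayPt}
    {ι : (GolayPt → ZMod 2) → E} (h : Hyp π ι) (u : GolayPt → ZMod 2) : ι u * ι u = 1 :=
  h.data.ι_mul_self (u := u) trivial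

theorem main {E E' : Type*} [Group E] [Finite E] [Group E'] [Finite E']
    {π : E →* Equiv.Perm GolayPt} {ι : (GolayPt → ZMod 2) → E} (h : Hyp π ι)
    {π' : E' →* Equiv.Perm GolayPt} {ι' : (GolayPt → ZMod 2) → E'} (h' : Hyp π' ι')
    (hns : ∀ H : Subgroup E, H ⊓ π.ker = ⊥ → H ⊔ π.ker ≠ ⊤)
    (hns' : ∀ H : Subgroup E', H ⊓ π'.ker = ⊥ → H ⊔ π'.ker ≠ ⊤) : Nonempty (E ≃* E') := by
  obtain ⟨x, τ, hx, hτ, hμ⟩ := h.exists_tails hns
  obtain ⟨x', τ', hx', hτ', hμ'⟩ := h'.exists_tails hns'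
  let D : Subgroup (E × E') := (π.comp (MonoidHom.fst E E')).eqLocus (π'.comp (MonoidHom.snd E E'))
  have hD : ∀ p : D, π p.1.1 = π' p.1.2 := fun p => p.2
  have h0 : ι 0 = 1 := (h.h4 0).mpr (Or.inl golayCode.zero_mem)
  have h0' : ι' 0 = 1 := (h'.h4 0).mpr (Or.inl golayCode.zero_mem)
  have hι : ∀ u, π (ι u) = 1 := fun u => (h.h3 _).mpr ⟨u, rfl⟩
  have hι' : ∀ u, π' (ι' u) = 1 := fun u => (h'.h3 _).mpr ⟨u, rfl⟩
  let Δ : Subgroup D :=
    { carrier := {p | ∃ u, p.1.1 = ι u ∧ p.1.2 = ι' u}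
      one_mem' := ⟨0, h0.symm, h0'.symm⟩
      mul_mem' := by
        rintro a b ⟨u, h1, h2⟩ ⟨v, h3, h4⟩
        exact ⟨u + v, by rw [h.h1, ← h1, ← h3]; rfl, by rw [h'.h1, ← h2, ← h4]; rfl⟩
      inv_mem' := by
        rintro a ⟨u, h1, h2⟩
        exact ⟨u, inv_eq_of_mul_eq_one_right (by rw [h1, h.ι_mul_self]),
          inv_eq_of_mul_eq_one_right (by rw [h2, h'.ι_mul_self])⟩ }
  have hΔ : Δ.Normal := ⟨by
    rintro a ⟨u, h1, h2⟩ g
    exact ⟨u ∘ ⇑(π g.1.1)⁻¹, by rw [h.h2, ← h1]; rfl, by rw [hD, h'.h2, ← h2]; rfl⟩⟩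
  let p1 : D →* E := (MonoidHom.fst E E').comp D.subtype
  let p2 : D →* E' := (MonoidHom.snd E E').comp D.subtype
  let π'' : D ⧸ Δ →* Equiv.Perm GolayPt := QuotientGroup.lift Δ (π.comp p1) (by
    rintro a ⟨u, h1, -⟩
    show π a.1.1 = 1
    rw [h1, hι])
  let j : (GolayPt → ZMod 2) → D := fun u => ⟨(ι u, 1), (hι u).trans (map_one π').symm⟩
  let j' : (GolayPt → ZMod 2) → D := fun u => ⟨(1, ι' u), (map_one π).trans (hι' u).symm⟩
  have hjj : ∀ u, (j u : D ⧸ Δ) = j' u := fun u => QuotientGroup.eq.mpr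
    ⟨u, by simpa [j, j'] using inv_eq_of_mul_eq_one_right (h.ι_mul_self u), by simp [j, j']⟩
  have h'' : Hyp π'' fun u => (j u : D ⧸ Δ) := by
    refine ⟨fun u v => ?_, fun g u => ?_, fun e => ?_, fun u => ?_, ?_⟩
    · rw [← QuotientGroup.mk_mul]
      exact congrArg _ (Subtype.ext (Prod.ext (h.h1 u v) (mul_one _).symm))
    · obtain ⟨g, rfl⟩ := QuotientGroup.mk_surjective g
      rw [← QuotientGroup.mk_inv, ← QuotientGroup.mk_mul, ← QuotientGroup.mk_mul]
      exact congrArg _ (Subtype.ext (Prod.ext (h.h2 g.1.1 u) (by simp [j])))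
    · obtain ⟨e, rfl⟩ := QuotientGroup.mk_surjective e
      refine ⟨fun he => ?_, ?_⟩
      · obtain ⟨a, ha⟩ := (h.h3 e.1.1).mp he
        obtain ⟨b, hb⟩ := (h'.h3 e.1.2).mp ((hD e).symm.trans he)
        refine ⟨a + b, ?_⟩
        have : e = j a * j' b := Subtype.ext (Prod.ext (by simp [j, j', ha]) (by simp [j, j', hb]))
        rw [this, QuotientGroup.mk_mul, ← hjj, ← QuotientGroup.mk_mul]
        exact congrArg _ (Subtype.ext (Prod.ext (h.h1 a b) (mul_one _).symm))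
      · rintro ⟨u, hu⟩
        rw [← hu]
        exact hι u
    · rw [← h.h4, QuotientGroup.eq_one_iff]
      refine ⟨?_, fun hu => ⟨0, hu.trans h0.symm, h0'.symm⟩⟩
      rintro ⟨v, h1, h2⟩
      exact h1.trans ((h.h4 v).mpr ((h'.h4 v).mp h2.symm))
    · refine le_antisymm ?_ fun g hg => ?_
      · rintro _ ⟨e, rfl⟩
        obtain ⟨e, rfl⟩ := QuotientGroup.mk_surjective e
        exact h.h5.le ⟨e.1.1, rfl⟩
      · obtain ⟨a, ha⟩ := h.h5.ge hg
        obtain ⟨b, hb⟩ := h'.h5.ge hg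
        exact ⟨((⟨(a, b), ha.trans hb.symm⟩ : D) : D ⧸ Δ), ha⟩
  let y : ℕ → D := fun i => ⟨(x i, x' i), (hx i).unique (hx' i)⟩
  obtain ⟨H, h1, h2⟩ := h''.split (x := fun i => (y i : D ⧸ Δ)) (τ := fun t => τ t + τ' t) hx
    (fun k hk => by
      have h1 := hτ k hk
      have h2 := hτ' k hk
      have h3 : ∀ u, ev (fun i => (y i : D ⧸ Δ)) u = (ev y u : D) := fun u =>
        (map_ev (QuotientGroup.mk' Δ) y u).symm
      have h4 : ev y (parD.rule k).1 = j (bas (P := parD) gE fun l => τ (parD.d * k + l)) *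
          j' (bas (P := parD) gE fun l => τ' (parD.d * k + l)) * ev y (parD.rule k).2 := by
        refine Subtype.ext (Prod.ext ?_ ?_)
        · refine (map_ev p1 y _).trans (h1.symm.trans ?_)
          exact congrArg₂ _ (mul_one _).symm (map_ev p1 y _).symm
        · refine (map_ev p2 y _).trans (h2.symm.trans ?_)
          exact congrArg₂ _ (one_mul _).symm (map_ev p2 y _).symm
      rw [h3, h3, h4, QuotientGroup.mk_mul, QuotientGroup.mk_mul, ← hjj]
      exact congrArg (· * _) ((congrArg _ (bas_add (P := parD) gE _ _)).trans (h''.h1 _ _)))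
    (by rw [dot_add, hμ, hμ']; rfl)
  let K := H.comap (QuotientGroup.mk' Δ)
  have h3 : ∀ k : K, π k.1.1.1 = 1 → k.1 ∈ Δ := fun k hk => by
    rw [← QuotientGroup.eq_one_iff, ← Subgroup.mem_bot, ← h1]
    exact ⟨k.2, hk⟩
  have h4 : ∀ d : D, ∃ u, (j u)⁻¹ * d ∈ K ∧ (j' u)⁻¹ * d ∈ K := fun d => by
    have : (d : D ⧸ Δ) ∈ H ⊔ π''.ker := h2 ▸ Subgroup.mem_top _
    rw [sup_comm, ← SetLike.mem_coe, Subgroup.normal_mul] at this
    obtain ⟨n, hn, g, hg, h5⟩ := this
    obtain ⟨u, rfl⟩ := (h''.h3 n).mp hn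
    have h6 : (j u : D ⧸ Δ)⁻¹ * d ∈ H := by rw [← h5]; simpa using hg
    exact ⟨u, h6, by rw [hjj] at h6; exact h6⟩
  have e1 : Function.Bijective (p1.comp K.subtype) := by
    refine ⟨(injective_iff_map_eq_one _).mpr fun k hk => ?_, fun e => ?_⟩
    · have hk' : k.1.1.1 = 1 := hk
      obtain ⟨u, h5, h6⟩ := h3 k (by rw [hk', map_one])
      exact Subtype.ext (Subtype.ext (Prod.ext hk'
        (h6.trans ((h'.h4 u).mpr ((h.h4 u).mp (h5.symm.trans hk'))))))
    · obtain ⟨b, hb⟩ := h'.h5.ge (h.h5.le ⟨e, rfl⟩)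
      obtain ⟨u, -, hu⟩ := h4 ⟨(e, b), hb.symm⟩
      exact ⟨⟨_, hu⟩, by simp [p1, j']⟩
  have e2 : Function.Bijective (p2.comp K.subtype) := by
    refine ⟨(injective_iff_map_eq_one _).mpr fun k hk => ?_, fun e => ?_⟩
    · have hk' : k.1.1.2 = 1 := hk
      obtain ⟨u, h5, h6⟩ := h3 k (by rw [hD, hk', map_one])
      exact Subtype.ext (Subtype.ext (Prod.ext
        (h5.trans ((h.h4 u).mpr ((h'.h4 u).mp (h6.symm.trans hk')))) hk'))
    · obtain ⟨a, ha⟩ := h.h5.ge (h'.h5.le ⟨e, rfl⟩)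
      obtain ⟨u, hu, -⟩ := h4 ⟨(a, e), ha⟩
      exact ⟨⟨_, hu⟩, by simp [p2, j]⟩
  exact ⟨(MulEquiv.ofBijective _ e1).symm.trans (MulEquiv.ofBijective _ e2)⟩


/-- The non-split extension of the Mathieu group M₂₃ by its cocode module is unique. Suppose E and E' are finite groups, each with a normal subgroup (N, N'), an isomorphism of the quotient onto M₂₃ = `Spor.M23`, and a surjective additive homomorphism from the binary words on the 24 points `GolayPt` onto the normal subgroup with kernel the Golay code `golayCode` together with its translate by the unit vector at the extra point `none`, intertwining the coordinate permutation w ↦ w ∘ σ⁻¹ (σ the image of gN) with conjugation by g; and suppose that in each group the normal subgroup has no complement. Then E and E' are isomorphic. -/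
theorem result
    {E : Type*} [Group E] [Finite E] (N : Subgroup E) [hN : N.Normal]
    (φ : E ⧸ N ≃* ↥Cfsg.Spor.M23) (θ : (Cfsg.GolayPt → ZMod 2) →+ Additive ↥N)
    (hsurj : Function.Surjective θ)
    (hker : ∀ w : Cfsg.GolayPt → ZMod 2, θ w = 0 ↔ (w ∈ Cfsg.golayCode ∨ w + Pi.single none 1 ∈ Cfsg.golayCode))
    (hθ : ∀ (g : E) (w : Cfsg.GolayPt → ZMod 2),
      ((θ (w ∘ ⇑(((φ (QuotientGroup.mk g) : ↥Cfsg.Spor.M23) : Equiv.Perm Cfsg.GolayPt)⁻¹))).toMul : E)
        = g * ((θ w).toMul : E) * g⁻¹)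
    (hns : ∀ H : Subgroup E, H ⊓ N = ⊥ → H ⊔ N ≠ ⊤)
    {E' : Type*} [Group E'] [Finite E'] (N' : Subgroup E') [hN' : N'.Normal]
    (φ' : E' ⧸ N' ≃* ↥Cfsg.Spor.M23) (θ' : (Cfsg.GolayPt → ZMod 2) →+ Additive ↥N')
    (hsurj' : Function.Surjective θ')
    (hker' : ∀ w : Cfsg.GolayPt → ZMod 2, θ' w = 0 ↔ (w ∈ Cfsg.golayCode ∨ w + Pi.single none 1 ∈ Cfsg.golayCode))
    (hθ' : ∀ (g : E') (w : Cfsg.GolayPt → ZMod 2),
      ((θ' (w ∘ ⇑(((φ' (QuotientGroup.mk g) : ↥Cfsg.Spor.M23) : Equiv.Perm Cfsg.GolayPt)⁻¹))).toMul : E')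
        = g * ((θ' w).toMul : E') * g⁻¹)
    (hns' : ∀ H : Subgroup E', H ⊓ N' = ⊥ → H ⊔ N' ≠ ⊤) :
    Nonempty (E ≃* E') := by
  obtain ⟨π, ι, h, rfl⟩ := setup N φ θ hsurj hker hθ
  obtain ⟨π', ι', h', rfl⟩ := setup N' φ' θ' hsurj' hker' hθ'
  exact main h h' hns hns'
end Cfsg.Agent.S2651
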