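import Cfsg.Statements.S4369
import Cfsg.Agent.MC.CV

set_option autoImplicit false
open Cfsg

namespace Cfsg.Agent.S4369

open Subgroup Cfsg.Agent.MC

theorem ca_iff (K : Type*) [Group K] : (∀ x : K, x ∉ center K →
      IsMulCommutative (centralizer ({x} : Set K))) ↔ CA (⊤ : Subgroup K) :=
    ⟨fun h x _ ⟨y, _, e⟩ a _ b _ ha hb => congrArg Subtype.val
      ((h x fun j => e (mem_center_iff.1 j y)).is_comm.comm ⟨a, FT.mem_cent1_iff.2 ha⟩
        ⟨b, FT.mem_cent1_iff.2 hb⟩),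
    fun h x hx => ⟨⟨fun a b => Subtype.ext (h x trivial (by
      simpa [mem_center_iff] using hx) a trivial b trivial (FT.mem_cent1_iff.1 a.2)
        (FT.mem_cent1_iff.1 b.2))⟩⟩⟩

/-- Call a group a CA-group when the centralizer of every non-central element is abelian. A finite group G is non-solvable, is not a CA-group, and has all its proper subgroups CA-groups, if and only if G is isomorphic to PSL(2, q) where q > 5 is a prime with 16 not dividing q² - 1, or q = 3ᵖ or q = 5ᵖ for an odd prime p. -/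
theorem result {G : Type*} [Group G] [Finite G] :
    (¬ Group.IsSolvable G ∧ ¬ (∀ x : G, x ∉ Subgroup.center G → IsMulCommutative (Subgroup.centralizer ({x} : Set G))) ∧ ∀ H : Subgroup G, H ≠ ⊤ → (∀ x : H, x ∉ Subgroup.center H → IsMulCommutative (Subgroup.centralizer ({x} : Set H)))) ↔
      ∃ (F : Type) (_ : Field F) (_ : Fintype F), Nonempty (G ≃* Matrix.ProjectiveSpecialLinearGroup (Fin 2) F) ∧
        (((Fintype.card F).Prime ∧ 5 < Fintype.card F ∧ ¬ 16 ∣ Fintype.card F ^ 2 - 1) ∨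
         (∃ p : ℕ, p.Prime ∧ p ≠ 2 ∧ (Fintype.card F = 3 ^ p ∨ Fintype.card F = 5 ^ p))) := by
  have k1 : ∀ H : Subgroup G, CA (⊤ : Subgroup H) ↔ CA H := fun H => by
    have e : (⊤ : Subgroup H).map H.subtype = H := by rw [← MonoidHom.range_eq_map, range_subtype]
    exact ⟨fun h => e ▸ h.v_map _ (subtype_injective H),
      fun h => CA.v_of_map _ (subtype_injective H) (e.symm ▸ h)⟩
  simp only [ca_iff, k1]
  constructor
  · rintro ⟨h1, h2, h3⟩
    obtain ⟨⟨F, _, _, h4, h5, ⟨e⟩⟩, h6⟩ := FW h3 h1 h2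
    exact ⟨F, _, _, ⟨e⟩, FIN h4 h5 (by rwa [← Nat.card_congr e.toEquiv])
      (PCA.w_sub h3 e.symm.toMonoidHom e.symm.injective)⟩
  · rintro ⟨F, _, _, ⟨e⟩, h⟩
    obtain ⟨h1, h2, -⟩ := v_num h
    obtain ⟨h3, a, b, h4⟩ := F0_simple (F := F) (by omega)
    exact ⟨fun j => h4 (IsSimpleGroup.comm_iff_isSolvable.2 (H2.isSolvable_of_mulEquiv e j) a b),
      fun j => NCA h1 h2 (j.w_top e), (CV h).w_sub e.toMonoidHom e.injective⟩

end Cfsg.Agent.S4369
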