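import Cfsg.Statements.S4371
import Cfsg.Agent.OC.Main

set_option autoImplicit false
open Cfsg Cfsg.Agent.MC Cfsg.Agent.OC

namespace Cfsg.Agent.S4371

/-- Let G be a finite non-solvable group in which no prime divides three pairwise distinct element orders. Then one of the following holds, where 'a product of at most two primes' always counts primes with multiplicity: the quotient of G by its largest normal 2-subgroup is isomorphic to PSL(2, q) with q = 2ᶠ ≥ 4 and each of q + 1, q - 1 a product of at most two primes; G is isomorphic to PSL(2, q) with q > 5, q ≡ 3 or 5 (mod 8) and each of (q + 1)/2, (q - 1)/2 a product of at most two primes; G is isomorphic to PSL(2, 7), PSL(2, 9) or PSL(3, 4); or G is simple of order q²(q² + 1)(q - 1), the order of the Suzuki group Sz(q), where q = 2²ⁿ⁺¹ ≥ 8, and each of q - 1, q - r + 1, q + r + 1 (r = 2ⁿ⁺¹) is a product of at most two primes. -/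
theorem result {G : Type*} [Group G] [Finite G]
    (hG : ¬ Group.IsSolvable G) (h3 : (∀ p : ℕ, p.Prime → ∀ a b c : G, orderOf a ≠ orderOf b → orderOf b ≠ orderOf c → orderOf a ≠ orderOf c → ¬ (p ∣ orderOf a ∧ p ∣ orderOf b ∧ p ∣ orderOf c))) :
    (∃ (F : Type) (_ : Field F) (_ : Fintype F), CharP F 2 ∧ 4 ≤ Fintype.card F ∧
        (Fintype.card F + 1).primeFactorsList.length ≤ 2 ∧ (Fintype.card F - 1).primeFactorsList.length ≤ 2 ∧
        Nonempty (G ⧸ Cfsg.pCore 2 G ≃* Matrix.ProjectiveSpecialLinearGroup (Fin 2) F)) ∨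
    (∃ (F : Type) (_ : Field F) (_ : Fintype F), 5 < Fintype.card F ∧ (Fintype.card F % 8 = 3 ∨ Fintype.card F % 8 = 5) ∧
        ((Fintype.card F + 1) / 2).primeFactorsList.length ≤ 2 ∧ ((Fintype.card F - 1) / 2).primeFactorsList.length ≤ 2 ∧
        Nonempty (G ≃* Matrix.ProjectiveSpecialLinearGroup (Fin 2) F)) ∨
    (∃ (F : Type) (_ : Field F) (_ : Fintype F), (Fintype.card F = 7 ∨ Fintype.card F = 9) ∧
        Nonempty (G ≃* Matrix.ProjectiveSpecialLinearGroup (Fin 2) F)) ∨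
    (∃ (F : Type) (_ : Field F) (_ : Fintype F), Fintype.card F = 4 ∧ Nonempty (G ≃* Matrix.ProjectiveSpecialLinearGroup (Fin 3) F)) ∨
    (∃ n : ℕ, 1 ≤ n ∧ IsSimpleGroup G ∧ Nat.card G = (2 ^ (2 * n + 1)) ^ 2 * ((2 ^ (2 * n + 1)) ^ 2 + 1) * (2 ^ (2 * n + 1) - 1) ∧
        (2 ^ (2 * n + 1) - 1).primeFactorsList.length ≤ 2 ∧ (2 ^ (2 * n + 1) - 2 ^ (n + 1) + 1).primeFactorsList.length ≤ 2 ∧
        (2 ^ (2 * n + 1) + 2 ^ (n + 1) + 1).primeFactorsList.length ≤ 2) := by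
  have k : L2e (G ⧸ pCore 2 G) → ∃ (F : Type) (_ : Field F) (_ : Fintype F), CharP F 2 ∧ 4 ≤ Fintype.card F ∧
      (Fintype.card F + 1).primeFactorsList.length ≤ 2 ∧ (Fintype.card F - 1).primeFactorsList.length ≤ 2 ∧
      Nonempty (G ⧸ Cfsg.pCore 2 G ≃* L2 F) := fun ⟨F, _, _, a, b, ⟨φ⟩⟩ => by
    obtain ⟨⟨x, hx⟩, y, hy⟩ := F3e (F := F)
    obtain ⟨n, -, e⟩ := FiniteField.card F 2
    have e1 : Even (Fintype.card F) := e ▸ Nat.even_pow.2 ⟨even_two, n.ne_zero⟩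
    rw [Nat.Coprime.gcd_eq_one (Nat.coprime_two_left.2 (Nat.Even.sub_odd (by omega) e1 odd_one)),
      one_mul] at hx hy
    exact ⟨F, _, _, a, b, hy ▸ TT_equiv (TT_quo h3 _) φ y, by
      rw [← hx]; exact TT_equiv (TT_quo h3 _) φ x, ⟨φ⟩⟩
  rcases main h3 hG with ⟨h1, -, ⟨F, _, _, a, b, ⟨φ⟩⟩ | ⟨⟨F, _, _, a, b, ⟨φ⟩⟩, c⟩ | ⟨-, c | c | c⟩⟩ | h1
  · exact .inl (k ⟨F, _, _, a, b, ⟨((QuotientGroup.quotientMulEquivOfEq (m_core hG)).trans
      QuotientGroup.quotientBot).trans φ⟩⟩)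
  · obtain ⟨⟨x, hx⟩, y, hy⟩ := F3e (F := F)
    have e := F0_card (F := F)
    rw [Nat.gcd_eq_left (Nat.Odd.sub_odd a odd_one).two_dvd] at hx hy e
    rw [Nat.card_congr φ.toEquiv] at c
    refine .inr (.inl ⟨F, _, _, by omega, by_contra fun j => c ?_, ?_, ?_, ⟨φ⟩⟩)
    · refine Nat.dvd_of_mul_dvd_mul_left two_pos (e ▸ Dvd.dvd.mul_left ?_ _)
      rw [Nat.odd_iff] at a
      generalize Fintype.card F = q at *
      have : q % 16 = 1 ∨ q % 16 = 7 ∨ q % 16 = 9 ∨ q % 16 = 15 := by omega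
      refine (Nat.modEq_iff_dvd' (Nat.one_le_pow _ _ (by omega))).1 ?_
      rcases this with e | e | e | e <;> simp [Nat.ModEq, Nat.pow_mod, e]
    · rw [← hy, Nat.mul_div_cancel_left _ two_pos]; exact TT_equiv h3 φ y
    · rw [← hx, Nat.add_sub_cancel, Nat.mul_div_cancel_left _ two_pos]; exact TT_equiv h3 φ x
  · exact .inr (.inr (.inl c))
  · exact .inr (.inr (.inr (.inl c)))
  · obtain ⟨n, a, b, ⟨x, hx⟩, ⟨y, hy⟩, ⟨z, hz⟩, -⟩ := c
    exact .inr (.inr (.inr (.inr ⟨n, a, h1, b, hx ▸ TT_len h3 x, hy ▸ TT_len h3 y, hz ▸ TT_len h3 z⟩)))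
  · exact .inl (k h1.2)

end Cfsg.Agent.S4371
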