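import Cfsg.Statements.S4394
import Cfsg.Agent.H2.Schmidt
import Cfsg.Agent.H2.CoprimeGen

set_option autoImplicit false
open Cfsg

namespace Cfsg.Agent.S4394

open Subgroup Cfsg.Agent.H2
open scoped commutatorElement Pointwise

universe u

theorem auxA {G : Type u} {P : Type*} [Group G] [Finite G] [Group P] [Finite P] {p q : ℕ}
    [hp : Fact p.Prime] [hq : Fact q.Prime] {τ : MulAut P} (hτ : MinAct p τ) (hτq : τ ^ q = 1)
    (hna : ¬ IsMulCommutative P) (hG : IsPSolvable p G) (hO : pPrimeCore p G = ⊥) (f : P →* G)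
    (hf : ¬ p ∣ f.range.index) (hk : f.ker ≤ commutator P) (hR : IsMulCommutative (pCore p G)) :
    f.range ≤ pCore p G := by
  have hC := L.centralizer_pCore_le hG hO
  set R := pCore p G with hRdef
  have hS : IsPGroup p f.range := hτ.pg.of_surjective _ f.rangeRestrict_surjective
  have hRS : R ≤ f.range := L.pCore_le_sylow (hS.toSylow hf)
  have hc := commute_commutator_of_le_center hτ.commutator_le_center
  have hm : ∀ a b : P, ⁅a, b⁆ ∈ commutator P := fun a b =>
    commutator_mem_commutator (mem_top a) (mem_top b)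
  have hZ : ∀ z ∈ commutator P, ∀ g, f g * f z = f z * f g := fun z hz g => by
    rw [← map_mul, mem_center_iff.mp (hτ.commutator_le_center hz), map_mul]
  have hZR : ∀ z ∈ commutator P, f z ∈ R := fun z hz => hC fun r hr => by
    obtain ⟨g, rfl⟩ := hRS hr
    exact hZ z hz g
  by_cases h3 : 3 < p
  · rintro _ ⟨a, rfl⟩
    refine mem_pCore_of_quadratic_of_isPSolvable h3 hG hO fun x hx => ?_
    obtain ⟨g, rfl⟩ := hRS hx
    rw [← map_commutatorElement, commutatorElement_eq_one_iff_mul_comm, hZ _ (hm _ _)]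
  by_contra hSR
  set π := QuotientGroup.mk' R with hπ
  let φ : G ⧸ R →* MulAut R := QuotientGroup.lift R MulAut.conjNormal fun r hr =>
    MulEquiv.ext fun x => Subtype.ext (mul_inv_eq_iff_eq_mul.mpr (setLike_mul_comm (s := R) hr x.2))
  have hφ : ∀ g (x : R), (φ (π g) x : G) = g * x * g⁻¹ := fun _ _ => rfl
  have hφi : ∀ b, φ b = 1 → b = 1 := fun b hb => by
    obtain ⟨g, rfl⟩ := QuotientGroup.mk'_surjective R b
    refine (QuotientGroup.eq_one_iff g).mpr (hC fun r hr => ?_)
    have := hφ g ⟨r, hr⟩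
    rw [hb] at this
    exact eq_mul_inv_iff_mul_eq.mp this
  set A := f.range.map π with hA
  have hAp : IsPGroup p A := hS.map π
  have hA1 : A ≠ ⊥ := fun h => hSR (((Subgroup.map_eq_bot_iff _).mp h).trans_eq
    (QuotientGroup.ker_mk' R))
  have hAc : IsMulCommutative A := ⟨⟨by
    rintro ⟨_, _, ⟨a, rfl⟩, rfl⟩ ⟨_, _, ⟨b, rfl⟩, rfl⟩
    refine Subtype.ext (commutatorElement_eq_one_iff_mul_comm.mp ?_)
    rw [← map_commutatorElement, ← map_commutatorElement]
    exact (QuotientGroup.eq_one_iff _).mpr (hZR _ (hm _ _))⟩⟩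
  by_cases hcyc : IsCyclic A
  · obtain ⟨⟨_, _, ⟨a, rfl⟩, rfl⟩, ha⟩ := hcyc.exists_generator
    have h1 : ∀ y, f y ∈ R → ∀ g, f ⁅y, g⁆ ∈ zpowers (f ⁅y, a⁆) := fun y hy g => by
      obtain ⟨i, hi⟩ := ha ⟨π (f g), _, ⟨g, rfl⟩, rfl⟩
      have h1 : π (f (a ^ i)) = π (f g) := by simpa using congrArg Subtype.val hi
      rw [← mul_inv_cancel_left (a ^ i) g, commutator_mul_right_of_commute (hc _ _ _), map_mul,
        commutator_zpow_right_of_commute (hc _ _ _), map_zpow, map_commutatorElement f y (_ * _),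
        commutatorElement_eq_one_iff_mul_comm.mpr (setLike_mul_comm (s := R) hy
          (by rw [map_mul, map_inv]; exact QuotientGroup.eq.mp h1)), mul_one]
      exact zpow_mem (mem_zpowers _) i
    set Z := (commutator P).map f with hZdef
    have hZS : Z ≤ centralizer (f.range : Set G) := by
      rintro _ ⟨z, hz, rfl⟩ _ ⟨g, rfl⟩
      exact hZ z hz g
    have h2 : ∀ y, f y ∈ R → f y ∉ Z → Z ≤ zpowers (f ⁅y, a⁆) := fun y hy hyZ => by
      rintro _ ⟨z, hz, rfl⟩
      obtain ⟨g, rfl⟩ := hτ.exists_commutator_eq (mt (mem_map_of_mem f) hyZ) hz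
      exact h1 y hy g
    obtain ⟨_, hy, hyZ⟩ := SetLike.not_le_iff_exists.mp fun h : R ≤ Z =>
      hSR ((le_centralizer_iff.mp (h.trans hZS)).trans hC)
    obtain ⟨y, rfl⟩ := hRS hy
    have h4 : Nat.card Z ≤ p := (card_le_of_le (h2 y hy hyZ)).trans (by
      rw [Nat.card_zpowers]
      exact orderOf_le_of_pow_eq_one hp.out.pos (by
        rw [← map_pow, hτ.pow_eq_one_of_mem_commutator (hm _ _), map_one]))
    have h5 : Z.relIndex R ≤ p := by
      refine le_trans (relIndex_le_of_le_left (H := centralizer {f a} ⊓ R) (fun w hw => ?_)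
        (relIndex_ne_zero' _ _)) ((inf_relIndex_right _ _).trans_le
          ((relIndex_centralizer_le_of_commutator_mem R Z (f a) fun w hw => ?_).trans h4))
      · by_contra hwZ
        obtain ⟨w, rfl⟩ := hRS hw.2
        have h5 := h2 w hw.2 hwZ
        rw [map_commutatorElement, commutatorElement_eq_one_iff_mul_comm.mpr
          (mem_centralizer_singleton_iff.mp hw.1), zpowers_one_eq_bot] at h5
        refine hSR (le_trans ?_ hC)
        rintro _ ⟨g, rfl⟩ r hr
        obtain ⟨r, rfl⟩ := hRS hr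
        rw [← commutatorElement_eq_one_iff_mul_comm, ← map_commutatorElement]
        exact h5 (mem_map_of_mem f (hm _ _))
      · obtain ⟨w, rfl⟩ := hRS hw
        exact ⟨_, hm w a, map_commutatorElement f w a⟩
    have h6 : R.relIndex f.range ≤ p := by
      rw [← QuotientGroup.ker_mk' R, relIndex_ker, ← orderOf_eq_card_of_forall_mem_zpowers ha]
      refine orderOf_le_of_pow_eq_one hp.out.pos (Subtype.ext ?_)
      exact (QuotientGroup.eq_one_iff (f a ^ p)).mpr (map_pow f a p ▸ hZR _ (hτ.pow_mem a))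
    have hZR' : Z ≤ R := map_le_iff_le_comap.mpr hZR
    have h7 : (commutator P).index ≤ p ^ 2 := by
      rw [← comap_map_eq_self hk, index_comap, ← relIndex_mul_relIndex _ _ _ hZR' hRS, sq]
      exact Nat.mul_le_mul h5 h6
    obtain ⟨k, hk'⟩ := hτ.pg.index (commutator P)
    have h8 : k = 2 := by
      have := (Nat.pow_le_pow_iff_right hp.out.one_lt).mp (hk' ▸ h7)
      interval_cases k
      · exact (hyZ (mem_map_of_mem f ((index_eq_one.mp hk').ge (mem_top y)))).elim
      · rw [← hτ.center_eq hna, pow_one, index_eq_card] at hk'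
        haveI := isCyclic_of_prime_card hk'
        exact (hna (isMulCommutative_of_isCyclic_quotient_center_self P)).elim
      · rfl
    subst h8
    have := hp.out.two_le
    obtain rfl | rfl : p = 2 ∨ p = 3 := by omega
    · have h8 : Z ≤ zpowers (f y) := (map_mono (hτ.le_zpowers_sq hna hk'
        (mt (mem_map_of_mem f) hyZ))).trans (by
          rw [MonoidHom.map_zpowers, map_pow]; exact zpowers_le.mpr (pow_mem (mem_zpowers _) _))
      have h9 : zpowers (f y) = R := eq_of_le_of_card_ge (zpowers_le.mpr hy) (by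
        rw [← card_mul_relIndex hZR']
        exact (Nat.mul_le_mul_left _ h5).trans (mul_card_le_of_lt
          ((L.pCore_isPGroup 2).to_le (zpowers_le.mpr hy))
          (lt_of_le_of_ne h8 fun h => hyZ (h ▸ mem_zpowers _))))
      haveI : IsCyclic R := h9 ▸ inferInstance
      haveI : A.Normal := ⟨fun b hb g => by
        rwa [mul_inv_eq_iff_eq_mul.mpr (commutatorElement_eq_one_iff_mul_comm.mp (hφi ⁅g, b⁆ (by
          rw [map_commutatorElement, commutatorElement_eq_one_iff_mul_comm]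
          exact (IsCyclic.mulAutMulEquiv R).injective (by rw [map_mul, map_mul, mul_comm]))))]⟩
      exact hA1 (eq_bot_iff.mpr ((L.le_pCore hAp).trans_eq (L.pCore_quotient 2)))
    · have h8 := hτ.dvd_index_sub_one hτq
      rw [hk'] at h8
      have h9 : q ∣ 2 ^ 3 := (Nat.modEq_iff_dvd' (by norm_num)).mp h8.symm
      rw [(Nat.prime_dvd_prime_iff_eq hq.out Nat.prime_two).mp (hq.out.dvd_of_dvd_pow h9)] at hτq
      exact hτ.sq_ne_one hna hτq
  set F := pPrimeCore p (G ⧸ R) with hF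
  have hAF := L.coprime_card_of_isPGroup hAp (L.pPrimeCore_coprime (G := G ⧸ R) p)
  obtain ⟨b, hb, hb1, hbF⟩ : ∃ b ∈ A, b ≠ 1 ∧ ¬ F ⊓ centralizer {b} ≤ centralizer (A : Set _) := by
    by_contra! h
    refine hA1 (L.eq_bot_of_isPGroup_of_coprime hAp ((L.pPrimeCore_coprime (G := G ⧸ R)
      p).coprime_dvd_left (card_dvd_of_le ((le_centralizer_iff.mp (le_of_forall_centralizer_le hAc
        hcyc le_normalizer_of_normal hAF h)).trans (L.centralizer_pPrimeCore_le
          (L.isPSolvable_quotient hG R) (L.pCore_quotient p))))))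
  have hAb : A ≤ centralizer {b} := fun a ha =>
    mem_centralizer_singleton_iff.mpr (setLike_mul_comm (s := A) ha hb)
  have hn : A ≤ normalizer ((F ⊓ centralizer {b} : Subgroup _) : Set _) :=
    le_normalizer_inf le_normalizer_of_normal (hAb.trans le_normalizer)
  set D := ⁅F ⊓ centralizer {b}, A⁆ with hD
  have hD1 : D ≤ F ⊓ centralizer {b} := commutator_le_left_of_le_normalizer hn
  have hD2 : ⁅D, A⁆ = D := commutator_commutator_eq hn
    (hAF.coprime_dvd_right (card_dvd_of_le inf_le_left))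
  have hD3 : A ≤ normalizer (D : Set _) := le_normalizer_commutator hn le_normalizer
  have h1 : ∀ U : Set R, (∀ d ∈ D, ∀ u ∈ U, φ d u ∈ U) → (∀ a ∈ A, ∀ u ∈ U, φ a u = u) →
      ∀ u ∈ U, u ∈ fixedPts φ D := fun U h1 h2 u hu d hd => by
    refine (hD2.ge.trans (commutator_le.mpr fun d hd a ha => ?_ :
      _ ≤ (MulAction.stabilizer (MulAut R) u).comap φ)) hd
    change φ _ u = u
    rw [commutatorElement_def, map_mul, map_mul, map_mul, MulAut.mul_apply, h2 _ (inv_mem ha) u hu,
      MulAut.mul_apply, MulAut.mul_apply, h2 a ha _ (h1 _ (inv_mem hd) u hu), ← MulAut.mul_apply,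
      ← map_mul, mul_inv_cancel, map_one, MulAut.one_apply]
  have h2 : fixedPts φ D ⊓ actComm φ ⊤ D = ⊥ := act_fixedPts_inf_actComm_eq_bot (isInv_top _)
    (L.coprime_card_of_isPGroup ((L.pCore_isPGroup p).to_subgroup ⊤) ((L.pPrimeCore_coprime
      (G := G ⧸ R) p).coprime_dvd_left (card_dvd_of_le (hD1.trans inf_le_left)))).symm
    ⟨⟨fun a b => Subtype.ext (mul_comm' a.1 b.1)⟩⟩
  set W := actComm φ ⊤ D with hW
  obtain ⟨a, ha, y, hy, hay⟩ : ∃ a ∈ A, ∃ y ∈ W, φ a y ≠ y := by
    by_contra! h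
    have h4 : W = ⊥ := eq_bot_iff.mpr fun w hw => h2.le ⟨h1 W (isInv_actComm _ _) h w hw, hw⟩
    refine hbF (commutator_eq_bot_iff_le_centralizer.mp (eq_bot_iff.mpr fun d hd => hφi d ?_))
    exact MulEquiv.ext fun x => actComm_eq_bot_iff.mp h4 (mem_top x) d hd
  have h4 : ∀ a ∈ A, ∀ w ∈ W, φ a w ∈ W := fun a ha => (actComm_le.mpr fun g _ d hd => by
    have := mem_actComm (φ := φ) (mem_top (φ a g)) (conj_mem_of_le_normalizer hD3 ha hd)
    simpa using this : W ≤ W.comap (φ a : R →* R))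
  have h5 : ∀ z ∈ commutator P, ∀ x : R, (x : G) = f z → ∀ a ∈ A, φ a x = x := by
    rintro z hz x hx _ ⟨_, ⟨g, rfl⟩, rfl⟩
    exact Subtype.ext (by rw [hφ, hx, hZ z hz, mul_inv_cancel_right])
  obtain ⟨y₀, hy₀⟩ := hRS y.2
  obtain ⟨_, ⟨b, rfl⟩, rfl⟩ := hb
  refine hb1 (hφi _ (MulEquiv.ext fun r => ?_))
  have h6 : ∀ r : R, ∃ z ∈ commutator P, ((r⁻¹ * φ (π (f b)) r : R) : G) = f z := fun r => by
    obtain ⟨r₀, hr₀⟩ := hRS r.2
    exact ⟨_, hm r₀⁻¹ b, by simp [hφ, ← hr₀, commutatorElement_def, mul_assoc]⟩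
  refine (inv_mul_eq_one.mp (mem_bot.mp (h2.le ⟨h1 (Set.range fun r => r⁻¹ * φ (π (f b)) r)
    ?_ ?_ _ ⟨r, rfl⟩, ?_⟩))).symm
  · rintro d hd _ ⟨r, rfl⟩
    refine ⟨φ d r, ?_⟩
    simp only [map_mul, map_inv]
    rw [← MulAut.mul_apply, ← MulAut.mul_apply, ← map_mul, ← map_mul,
      mem_centralizer_singleton_iff.mp (hD1 hd).2]
  · rintro a ha _ ⟨r, rfl⟩
    obtain ⟨z, hz, h⟩ := h6 r
    exact h5 z hz _ h a ha
  · obtain ⟨z, hz, h⟩ := h6 r
    obtain ⟨g, rfl⟩ := hτ.exists_commutator_eq (fun h => hay (h5 y₀ h y hy₀.symm a ha)) hz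
    have h7 := mul_mem hy (inv_mem (h4 _ ⟨_, ⟨g, rfl⟩, rfl⟩ y hy))
    refine (Subtype.ext (h.trans ?_) : _ = y * _) ▸ h7
    rw [coe_mul, coe_inv, hφ, ← hy₀, map_commutatorElement, commutatorElement_def]
    group

theorem auxB {G : Type u} {P : Type*} [Group G] [Finite G] [Group P] [Finite P] {p q : ℕ}
    [hp : Fact p.Prime] [hq : Fact q.Prime] {τ : MulAut P} (hτ : MinAct p τ) (hτq : τ ^ q = 1)
    (hG : IsPSolvable p G) (hO : pPrimeCore p G = ⊥) (f : P →* G)
    (hf : ¬ p ∣ f.range.index) (hk : f.ker ≤ commutator P) : f.range ≤ pCore p G := by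
  have hS : IsPGroup p f.range := hτ.pg.of_surjective _ f.rangeRestrict_surjective
  have hRS : pCore p G ≤ f.range := L.pCore_le_sylow (hS.toSylow hf)
  by_cases hna : IsMulCommutative P
  · refine le_trans ?_ (L.centralizer_pCore_le hG hO)
    rintro _ ⟨g, rfl⟩ r hr
    obtain ⟨r, rfl⟩ := hRS hr
    rw [← map_mul, mul_comm', map_mul]
  set N := ⁅pCore p G, pCore p G⁆
  have hN : N ≤ pCore p G := commutator_le_right _ _
  have hker : IsPGroup p (QuotientGroup.mk' N).ker :=
    (L.pCore_isPGroup p).to_le ((QuotientGroup.ker_mk' N).trans_le hN)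
  have h1 : (pCore p (G ⧸ N)).comap (QuotientGroup.mk' N) = pCore p G :=
    (L.pClass_ext p).comap_rad _ (QuotientGroup.mk'_surjective N) hker
  have h2 : (pCore p G).map (QuotientGroup.mk' N) = pCore p (G ⧸ N) :=
    (L.pClass_ext p).map_rad _ (QuotientGroup.mk'_surjective N) hker
  rw [← h1, ← map_le_iff_le_comap, MonoidHom.map_range]
  refine auxA hτ hτq hna (L.isPSolvable_quotient hG N) (pPrimeCore_quotient_eq_bot hG hO N ?_) _
    (fun h => hf (h.trans ?_)) (fun x hx => ?_) ?_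
  · exact ((map_frattini_le_iff (L.pCore_isPGroup p)).mp le_rfl).1
  · rw [← MonoidHom.map_range]
    exact index_map_dvd _ (QuotientGroup.mk'_surjective N)
  · rw [← comap_map_eq_self hk, mem_comap, _root_.commutator_def, Subgroup.map_commutator,
      ← MonoidHom.range_eq_map]
    exact commutator_mono hRS hRS ((QuotientGroup.eq_one_iff _).mp hx)
  · rw [← h2]
    refine ⟨⟨?_⟩⟩
    rintro ⟨_, a, ha, rfl⟩ ⟨_, b, hb, rfl⟩
    refine Subtype.ext (commutatorElement_eq_one_iff_mul_comm.mp ?_)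
    rw [← map_commutatorElement]
    exact (QuotientGroup.eq_one_iff _).mpr (commutator_mem_commutator ha hb)

/-- Let X be a finite minimal non-nilpotent group (not nilpotent, every proper subgroup nilpotent) with a nontrivial normal Sylow p-subgroup P. If G is a finite p-solvable group whose Sylow p-subgroups are isomorphic to P, then G has p-length at most 1. -/
theorem result {G X : Type*} [Group G] [Finite G] [Group X] [Finite X] (p : ℕ) [Fact p.Prime]
    (hX : Cfsg.IsMinimalNonNilpotent X) (P : Sylow p X) (hPn : (P : Subgroup X).Normal) (hP1 : (P : Subgroup X) ≠ ⊥)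
    (hG : Cfsg.IsPSolvable p G) (Q : Sylow p G) (hQ : Nonempty (↥(Q : Subgroup G) ≃* ↥(P : Subgroup X))) : Cfsg.PLengthLE p 1 G := by
  obtain ⟨q, τ, hq, hτq, hτ⟩ := exists_minAct hX P hP1
  haveI := Fact.mk hq
  obtain ⟨e⟩ := hQ
  let f := (Q : Subgroup G).subtype.comp e.symm.toMonoidHom
  have hf : f.range = Q := by
    rw [MonoidHom.range_comp, MonoidHom.range_eq_top.mpr e.symm.surjective,
      ← MonoidHom.range_eq_map, range_subtype]
  refine pLengthLE_one (B := Q) ?_ ((Nat.Prime.coprime_iff_not_dvd Fact.out).mpr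
    Q.not_dvd_index).symm
  rw [pPrimePCore, ← map_le_iff_le_comap, ← hf, MonoidHom.map_range]
  refine auxB hτ hτq (L.isPSolvable_quotient hG _) (L.pPrimeCore_quotient p) _
    (fun h => Q.not_dvd_index (h.trans ?_)) fun x hx => ?_
  · rw [← MonoidHom.map_range, hf]
    exact index_map_dvd _ (QuotientGroup.mk'_surjective _)
  · have h1 : f x ∈ (Q : Subgroup G) ⊓ pPrimeCore p G :=
      ⟨hf.le ⟨x, rfl⟩, (QuotientGroup.eq_one_iff _).mp hx⟩
    rw [L.inf_eq_bot_of_isPGroup Q.isPGroup' (L.pPrimeCore_coprime p), mem_bot] at h1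
    rw [(map_eq_one_iff _ e.symm.injective).mp (Subtype.ext h1)]
    exact one_mem _

end Cfsg.Agent.S4394
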