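import Cfsg.Statements.S4395
import Cfsg.Agent.H3.SchB

set_option autoImplicit false
universe u
open Cfsg

namespace Cfsg.Agent.S4395

open Subgroup H3.Sch H3.Sch.Aff
open scoped commutatorElement

section

variable {F : Type} [Field F] {ζ : Fˣ}

/-- The Heisenberg group of the sesquilinear form `u σ(u')`, extended by `ζ`. -/
@[ext] structure Heis (σ : F →+* F) (hσ : σ ζ = (ζ⁻¹ : Fˣ)) where
  u : F
  v : F
  c : zpowers ζ

namespace Heis

variable {σ : F →+* F} {hσ : σ ζ = (ζ⁻¹ : Fˣ)}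

theorem key (hσ : σ ζ = (ζ⁻¹ : Fˣ)) (c : zpowers ζ) : σ (c : Fˣ) = ((c : Fˣ) : F)⁻¹ := by
  obtain ⟨_, i, rfl⟩ := c
  simp [hσ]

instance : Mul (Heis σ hσ) :=
  ⟨fun x y => ⟨x.u + (x.c : Fˣ) * y.u, x.v + y.v + x.u * σ ((x.c : Fˣ) * y.u), x.c * y.c⟩⟩
instance : One (Heis σ hσ) := ⟨⟨0, 0, 1⟩⟩
instance : Inv (Heis σ hσ) :=
  ⟨fun x => ⟨-(((x.c : Fˣ)⁻¹ : Fˣ) * x.u), x.u * σ x.u - x.v, x.c⁻¹⟩⟩

@[simp] theorem mul_u (x y : Heis σ hσ) : (x * y).u = x.u + (x.c : Fˣ) * y.u := rfl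
@[simp] theorem mul_v (x y : Heis σ hσ) :
    (x * y).v = x.v + y.v + x.u * σ ((x.c : Fˣ) * y.u) := rfl
@[simp] theorem mul_c (x y : Heis σ hσ) : (x * y).c = x.c * y.c := rfl
@[simp] theorem one_u : (1 : Heis σ hσ).u = 0 := rfl
@[simp] theorem one_v : (1 : Heis σ hσ).v = 0 := rfl
@[simp] theorem one_c : (1 : Heis σ hσ).c = 1 := rfl
@[simp] theorem inv_u (x : Heis σ hσ) : x⁻¹.u = -(((x.c : Fˣ)⁻¹ : Fˣ) * x.u) := rfl
@[simp] theorem inv_v (x : Heis σ hσ) : x⁻¹.v = x.u * σ x.u - x.v := rfl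
@[simp] theorem inv_c (x : Heis σ hσ) : x⁻¹.c = x.c⁻¹ := rfl

instance : Group (Heis σ hσ) := Group.ofLeftAxioms
  (fun x y z => Heis.ext (by simp; ring) (by simp [key hσ]; field_simp; ring) (by simp [mul_assoc]))
  (fun x => Heis.ext (by simp) (by simp) (by simp))
  (fun x => Heis.ext (by simp) (by simp [key hσ]; field_simp; ring) (by simp))

instance [Finite F] : Finite (Heis σ hσ) :=
  Finite.of_injective (fun x : Heis σ hσ => (x.u, x.v, x.c)) fun _ _ h =>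
    Heis.ext (congrArg Prod.fst h) (congrArg (·.2.1) h) (congrArg (·.2.2) h)

/-- The projection to the affine group. -/
def proj : Heis σ hσ →* Aff ζ := MonoidHom.mk' (fun x => ⟨x.u, x.c⟩) fun _ _ => rfl

/-- The scalings. -/
def sc : zpowers ζ →* Heis σ hσ := MonoidHom.mk' (fun c => ⟨0, 0, c⟩) fun _ _ =>
  Heis.ext (by simp) (by simp) (by simp)

theorem ker_le : (proj (hσ := hσ)).ker ≤ center _ := fun x hx => mem_center_iff.mpr fun g => by
  have h1 : x.u = 0 := congrArg Aff.u hx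
  have h2 : x.c = 1 := congrArg Aff.c hx
  exact Heis.ext (by simp [h1, h2]) (by simp [h1, h2, add_comm]) (by simp [h2])

end Heis

variable {p q r : ℕ} [hp : Fact p.Prime] [hq : Fact q.Prime] [Finite F] [Algebra (ZMod p) F]

theorem exists_hom {X Y : Type*} [Group X] [Finite X] [Group Y] [Finite Y] {θ₁ : X →* Aff ζ}
    {θ₂ : Y →* Aff ζ} {x : X} {y : Y} (hF : Fld p q ζ) (hpq : p ≠ q) (h₁ : Sc (q ^ r) θ₁ x)
    (h₂ : Sc (q ^ r) θ₂ y)
    (hc : Nat.card X = p ^ (if orderOf (p : ZMod q) % 2 = 1 then orderOf (p : ZMod q)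
        else 3 * orderOf (p : ZMod q) / 2) * q ^ r) :
    ∃ φ : X →* Y, Function.Surjective φ ∧ φ.ker ≤ center X := by
  let H := (θ₁.comp (MonoidHom.fst X Y)).eqLocus (θ₂.comp (MonoidHom.snd X Y))
  let z : H := ⟨(x, y), h₁.map.trans h₂.map.symm⟩
  have hD := exists_sc (θ := θ₁.comp ((MonoidHom.fst X Y).comp H.subtype)) (y := z) hF.ne_one
    (fun a => by
      obtain ⟨u, hu⟩ := h₁.surj a
      obtain ⟨v, hv⟩ := h₂.surj a
      exact ⟨⟨(u, v), hu.trans hv.symm⟩, hu⟩)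
    (fun a ha => mem_center_iff.mpr fun g => Subtype.ext (Prod.ext
      (mem_center_iff.mp (h₁.ker ha) _) (mem_center_iff.mp (h₂.ker (a.2.symm.trans ha)) _))) h₁.map
  rw [show orderOf z = q ^ r by
    rw [← orderOf_coe, Prod.orderOf_mk, h₁.ord, h₂.ord, Nat.lcm_self]] at hD
  let π₁ := (MonoidHom.fst X Y).comp (H.subtype.comp (normalClosure {z}).subtype)
  let π₂ := (MonoidHom.snd X Y).comp (H.subtype.comp (normalClosure {z}).subtype)
  have hθ : ∀ d, θ₂ (π₂ d) = θ₁ (π₁ d) := fun d => d.1.2.symm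
  have hs₁ : Function.Surjective π₁ := MonoidHom.range_eq_top.mp (h₁.eq_top hF (eq_top_iff.mpr
    fun a _ => let ⟨d, hd⟩ := hD.surj a; ⟨_, ⟨d, rfl⟩, hd⟩))
  have hs₂ : Function.Surjective π₂ := MonoidHom.range_eq_top.mp (h₂.eq_top hF (eq_top_iff.mpr
    fun a _ => let ⟨d, hd⟩ := hD.surj a; ⟨_, ⟨d, rfl⟩, (hθ d).trans hd⟩))
  let e := MulEquiv.ofBijective π₁ (hs₁.bijective_of_nat_card_le (hc ▸ hD.card_le hF hpq))
  refine ⟨π₂.comp e.symm.toMonoidHom, hs₂.comp e.symm.surjective, fun a ha => h₁.ker ?_⟩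
  obtain ⟨d, rfl⟩ := e.surjective a
  have : π₂ d = 1 := by simpa using ha
  exact (hθ d).symm.trans (by rw [this, map_one])

omit [Finite F] [Algebra (ZMod p) F] hp in
theorem exists_ext {H : Type} [Group H] [Finite H] {θ : H →* Aff ζ} {y : H} (hζ : ζ ≠ 1)
    (hr : 1 ≤ r) (hs : Function.Surjective θ) (hk : θ.ker ≤ center H) (hy : θ y = y0 ζ)
    (hyq : y ^ q = 1) : ∃ (X : Type u) (_ : Group X) (_ : Finite X) (f : X →* H) (x : X),
      Sc (q ^ r) (θ.comp f) x := by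
  let z : H × ULift.{u} (Multiplicative (ZMod (q ^ r))) := (y, ULift.up (Multiplicative.ofAdd 1))
  have hD := exists_sc (θ := θ.comp (MonoidHom.fst _ _)) (y := z) hζ
    (fun a => let ⟨x, hx⟩ := hs a; ⟨(x, 1), hx⟩)
    (fun a ha => mem_center_iff.mpr fun g =>
      Prod.ext (mem_center_iff.mp (hk ha) _) (mul_comm _ _)) hy
  have h1 : orderOf z = q ^ r := by
    rw [Prod.orderOf_mk, ← MulEquiv.ulift.orderOf_eq (ULift.up _)]
    change Nat.lcm _ (orderOf (Multiplicative.ofAdd (1 : ZMod (q ^ r)))) = _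
    rw [orderOf_ofAdd_eq_addOrderOf, ZMod.addOrderOf_one]
    exact Nat.lcm_eq_right ((orderOf_dvd_of_pow_eq_one hyq).trans (dvd_pow_self q (by omega)))
  exact ⟨_, inferInstance, inferInstance, (MonoidHom.fst _ _).comp (normalClosure {z}).subtype, _,
    h1 ▸ hD⟩

theorem exists_max (hF : Fld p q ζ) (hpq : p ≠ q) (hr : 1 ≤ r) :
    ∃ (X : Type u) (_ : Group X) (_ : Finite X) (θ : X →* Aff ζ) (x : X), Sc (q ^ r) θ x ∧
      p ^ (if orderOf (p : ZMod q) % 2 = 1 then orderOf (p : ZMod q)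
        else 3 * orderOf (p : ZMod q) / 2) * q ^ r ≤ Nat.card X := by
  have hζ : (⟨ζ, mem_zpowers ζ⟩ : zpowers ζ) ^ q = 1 :=
    Subtype.ext (hF.ord ▸ pow_orderOf_eq_one ζ)
  split_ifs with ha
  · obtain ⟨X, _, _, f, x, h⟩ := exists_ext (q := q) (θ := MonoidHom.id (Aff ζ)) (y := y0 ζ) hF.ne_one hr
      Function.surjective_id (by simp) rfl (by rw [y0, ← map_pow, hζ, map_one])
    refine ⟨X, _, ‹_›, _, x, h, ?_⟩
    rw [h.card hF hpq, hF.card_eq]
    exact Nat.mul_le_mul_right _ (Nat.le_mul_of_pos_right _ Nat.card_pos)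
  · obtain ⟨m, hm⟩ : ∃ m, orderOf (p : ZMod q) = 2 * m := ⟨_, (Nat.two_mul_div_two_of_even
      (Nat.even_iff.mpr (by omega))).symm⟩
    obtain ⟨σ, hσ, h5⟩ := hF.exists_sigma hm
    obtain ⟨X, _, _, f, x, h⟩ := exists_ext (q := q) (θ := Heis.proj (σ := σ.toRingHom) (hσ := hσ))
      (y := Heis.sc ⟨ζ, mem_zpowers ζ⟩) hF.ne_one hr (fun a => ⟨⟨a.u, 0, a.c⟩, rfl⟩) Heis.ker_le rfl
      (by rw [← map_pow, hζ, map_one])
    refine ⟨X, _, ‹_›, _, x, h, ?_⟩
    rw [h.card hF hpq, hF.card_eq, hm, show 3 * (2 * m) / 2 = 2 * m + m by omega, pow_add]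
    refine Nat.mul_le_mul_right _ (Nat.mul_le_mul_left _ ((h5 (-1)
      (AddMonoidHom.id F - σ.toRingHom.toAddMonoidHom) (by simp [sub_eq_add_neg])).trans ?_))
    have key : ∀ w : (AddMonoidHom.id F - σ.toRingHom.toAddMonoidHom).range,
        ∃ d : (((Heis.proj (hσ := hσ)).comp f).ker ⊓ commutator X : Subgroup X), (f d).v = w := by
      rintro ⟨_, w, rfl⟩
      obtain ⟨a, -, ha⟩ := h.exists_lift hF w
      obtain ⟨b, -, hb⟩ := h.exists_lift hF 1
      refine ⟨⟨⁅a, b⁆, ?_, commutator_mem_commutator (mem_top _) (mem_top _)⟩, ?_⟩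
      · change (Heis.proj.comp f) _ = 1
        rw [map_commutatorElement, ha, hb,
          ← map_commutatorElement, commutatorElement_eq_one_iff_mul_comm.mpr (mul_comm _ _), map_one]
      · have h1 : (f a).u = w := congrArg Aff.u ha
        have h2 : (f a).c = 1 := congrArg Aff.c ha
        have h3 : (f b).u = 1 := congrArg Aff.u hb
        have h4 : (f b).c = 1 := congrArg Aff.c hb
        change (f ⁅a, b⁆).v = w - σ w
        simp only [commutatorElement_def, map_mul f, map_inv f]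
        simp only [Heis.mul_v, Heis.mul_u, Heis.mul_c, Heis.inv_u, Heis.inv_v, Heis.inv_c, h1, h2,
          h3, h4]
        simp
        ring
    choose d hd using key
    exact Nat.card_le_card_of_injective d fun a b e => Subtype.ext (by rw [← hd, ← hd, e])

end

/-- Let p ≠ q be primes, r ≥ 1, a the multiplicative order of p modulo q, and a₀ = a when a is odd, a₀ = 3a/2 when a is even. Call a finite group minimal non-p-nilpotent when it has no normal p-complement but every proper subgroup has one. Then there is a minimal non-p-nilpotent group G₀ of order p^a₀ · q^r such that every minimal non-p-nilpotent group of order p^t · q^r (any t) is a quotient of G₀ by a central subgroup. -/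
theorem result (p q r : ℕ) [Fact p.Prime] [Fact q.Prime] (hpq : p ≠ q) (hr : 1 ≤ r) (a a₀ : ℕ)
    (ha : a = orderOf (p : ZMod q)) (ha₀ : a₀ = if a % 2 = 1 then a else 3 * a / 2) :
    ∃ (G₀ : Type u) (_ : Group G₀) (_ : Finite G₀),
      (¬ Cfsg.HasNormalPComplement p G₀ ∧ ∀ K : Subgroup G₀, K ≠ ⊤ → Cfsg.HasNormalPComplement p ↥K) ∧ Nat.card G₀ = p ^ a₀ * q ^ r ∧
      ∀ (X : Type u) [Group X] [Finite X], (¬ Cfsg.HasNormalPComplement p X ∧ ∀ K : Subgroup X, K ≠ ⊤ → Cfsg.HasNormalPComplement p ↥K) →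
        (∃ t : ℕ, Nat.card X = p ^ t * q ^ r) → ∃ φ : G₀ →* X, Function.Surjective φ ∧ φ.ker ≤ Subgroup.center G₀ := by
  subst ha ha₀
  obtain ⟨F, _, _, _, ζ, hF⟩ := exists_fld hpq
  obtain ⟨G, _, _, θ, x, h, hc⟩ := exists_max hF hpq hr
  have hc' := le_antisymm (h.card_le hF hpq) hc
  refine ⟨G, _, ‹_›, h.mn hF hpq, hc', fun X _ _ hX ⟨t, ht⟩ => ?_⟩
  obtain ⟨θ', y, h'⟩ := Mn.exists_sc hX hF hpq hr ht
  exact exists_hom hF hpq h h' hc'

end Cfsg.Agent.S4395
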