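import Cfsg.Statements.S4419
import Cfsg.Agent.H2.Meta
import Cfsg.Agent.H1.Transfer
import Cfsg.Agent.L.PSolv

set_option autoImplicit false
open Cfsg

namespace Cfsg.Agent.S4419

open Subgroup Cfsg.Agent.H2
open scoped commutatorElement Pointwise


/-- Let p be a prime and G a finite group whose Sylow p-subgroups are metacyclic (a cyclic normal subgroup with cyclic quotient). Then G has a normal p-complement if and only if the order of G/O_{p′,p}(G) is coprime to p² − 1. -/
theorem result {G : Type*} [Group G] [Finite G] (p : ℕ) [Fact p.Prime] (S : Sylow p G) (hS : Cfsg.IsMetacyclic ↥(S : Subgroup G)) : Cfsg.HasNormalPComplement p G ↔ Nat.Coprime (Nat.card (G ⧸ Cfsg.pPrimePCore p G)) (p ^ 2 - 1) := by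
  have hp : p.Prime := Fact.out
  constructor
  · intro h
    have h1 : pPrimePCore p G = ⊤ := by
      rw [eq_top_iff]
      refine L.le_pPrimePCore S.isPGroup' ((H1.pResidual_sup_sylow S).ge.trans (sup_le_sup_right
        (L.le_pPrimeCore ((Nat.Prime.coprime_iff_not_dvd hp).mpr
          (H1.hasNormalPComplement_iff_not_dvd.mp h)).symm) _))
    rw [← index_eq_card, h1, index_top]
    exact Nat.coprime_one_left _
  · intro h
    by_contra hcon
    obtain ⟨D, -, hD, q, hq, hqp, g, -, ⟨k, hk⟩, hg, hg'⟩ :=
      H1.exists_of_not_hasNormalPComplement (mt H1.hasNormalPComplement_top_iff.mp hcon)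
    have := Fact.mk hq
    have hgq : IsPGroup q (zpowers g) := H1.isPGroup_zpowers hk
    have hgp : (Nat.card (zpowers g)).Coprime p := L.coprime_of_isPGroup_ne hqp hgq
    have h1 : q ∣ p ^ 2 - 1 := by
      obtain ⟨Q, hQ⟩ := hD.exists_le_sylow
      have h1 := (SR_of_isMetacyclic hp.pos (isMetacyclic_of_injective hS
        ((Sylow.equiv Q S).toMonoidHom.comp (inclusion hQ))
        ((Sylow.equiv Q S).injective.comp (inclusion_injective hQ)))).index_frattini_le hD
      set N := normalizer (D : Set G) with hN
      set F := ((frattini D).map D.subtype).subgroupOf N with hF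
      have hFn : F.Normal := (normal_subgroupOf_iff_le_normalizer
        ((map_subtype_le _).trans le_normalizer)).mpr (L.normalizer_le_normalizer_map_subtype _)
      set π := QuotientGroup.mk' F with hπ
      have : ((D.subgroupOf N).map π).Normal :=
        Normal.map inferInstance π (QuotientGroup.mk'_surjective F)
      obtain ⟨i, h2, h3, h4⟩ := H1.exists_dvd_pow_sub_one
        ((H1.isPGroup_subgroupOf hD N).map π) hq hqp (g := π ⟨g, hg⟩) (k := k)
        (by rw [← map_pow, show (⟨g, hg⟩ : N) ^ q ^ k = 1 from Subtype.ext hk, map_one])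
        (le_normalizer_of_normal (mem_top _)) fun hc => hg' (by
          refine le_centralizer_iff.mp (le_centralizer_of_commutator_le_frattini
            (zpowers_le.mpr hg) (L.coprime_card_of_isPGroup hD hgp).symm
            (commutator_le.mpr fun x hx y hy => ?_)) (mem_zpowers g)
          obtain ⟨j, rfl⟩ := hy
          have := zpow_mem hc j _ (mem_map_of_mem π (show ⟨x, le_normalizer hx⟩ ∈ D.subgroupOf N
            from hx))
          rw [← commutatorElement_eq_one_iff_mul_comm, ← map_zpow, ← map_commutatorElement,
            hπ, QuotientGroup.mk'_apply, QuotientGroup.eq_one_iff] at this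
          exact this)
      have h5 : Nat.card ((D.subgroupOf N).map π) = (frattini D).index := by
        rw [← relIndex_ker, QuotientGroup.ker_mk', hF, relIndex_subgroupOf le_normalizer,
          relIndex, ← comap_subtype, comap_map_eq_self_of_injective D.subtype_injective]
      have h6 := (Nat.pow_le_pow_iff_right hp.one_lt).mp
        ((Nat.le_of_dvd Nat.card_pos h3).trans (h5.le.trans h1))
      refine h4.trans ?_
      interval_cases i
      · exact Nat.pow_sub_one_dvd_pow_sub_one p (one_dvd 2)
      · rfl
    have h2 : zpowers g ≤ pPrimePCore p G := L.le_of_isPGroup_of_coprime_index hgq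
      (h.coprime_dvd_right h1)
    have h3 : g ∈ pPrimeCore p G := by
      rw [← QuotientGroup.eq_one_iff, ← mem_bot, ← L.inf_eq_bot_of_isPGroup (L.pCore_isPGroup p)
        (B := (zpowers g).map (QuotientGroup.mk' _)) (hgp.coprime_dvd_left (card_map_dvd _ _))]
      exact mem_inf.mpr ⟨h2 (mem_zpowers g), mem_map_of_mem _ (mem_zpowers g)⟩
    refine hg' fun x hx => ?_
    rw [← commutatorElement_eq_one_iff_mul_comm, ← mem_bot,
      ← L.inf_eq_bot_of_isPGroup hD (L.pPrimeCore_coprime p)]
    exact mem_inf.mpr ⟨commutator_le_left_of_le_normalizer (zpowers_le.mpr hg)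
      (commutator_mem_commutator hx (mem_zpowers g)),
      commutator_le_right ⊤ _ (commutator_mem_commutator (mem_top x) h3)⟩

end Cfsg.Agent.S4419
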